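import Mathlib
import Cfsg.Prelude.Def_CaseTheorems
import Cfsg.Agent.RankOneP.Basic
import Cfsg.Agent.S0519
import Cfsg.Agent.PReduced.Hom

set_option autoImplicit false

namespace Cfsg.Agent.H29.PImprimitive

variable {G : Type*} [Group G] [Finite G] {p : ℕ} [hpF : Fact p.Prime]

/-- A p-group that is not cyclic and not of maximal class rank one type has a normal four-group
analogue: a normal elementary abelian subgroup of order `p ^ 2`, given by two generators. -/
theorem exists_central_pair (hG : IsPGroup p G) (hnc : ¬ IsCyclic G)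
    (hnq : ∀ n : ℕ, ¬ Nonempty (G ≃* QuaternionGroup n))
    (hnd : ∀ n : ℕ, ¬ Nonempty (G ≃* DihedralGroup n)) (hnsd : ¬ Cfsg.IsQuasiDihedral G) :
    ∃ z w : G, z ∈ Subgroup.center G ∧ orderOf z = p ∧ w ^ p = 1 ∧ w ∉ Subgroup.zpowers z ∧
      ∀ g : G, g * w * g⁻¹ * w⁻¹ ∈ Subgroup.zpowers z := by
  have hp : p.Prime := hpF.out
  obtain ⟨A, hAn, hAab, hAnc⟩ :
      ∃ A : Subgroup G, A.Normal ∧ IsMulCommutative A ∧ ¬ IsCyclic A := by
    by_contra! hn
    by_cases hm : ∃ B : Subgroup G, IsMulCommutative B ∧ ¬ IsCyclic B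
    · obtain ⟨-, h | h | h⟩ := S0519.result p hG hn hm
      · obtain ⟨n, h⟩ := h; exact hnq n h
      · obtain ⟨n, -, h⟩ := h; exact hnd n h
      · exact hnsd h
    · push Not at hm
      have hu : CfsgLib.RankOneP.UniqueOrderP p G := by
        refine CfsgLib.RankOneP.unique_of_rank_le_one hG fun A hA hexp => ?_
        obtain ⟨a, ha⟩ := (hm A hA).exists_generator
        have h1 : Subgroup.zpowers a = ⊤ := top_le_iff.1 fun x _ => ha x
        have h2 : a ^ p = 1 := Subtype.ext (by simpa using hexp a a.2)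
        have h3 : Nat.card A = orderOf a := by
          rw [← Nat.card_zpowers, h1, Subgroup.card_top]
        rw [h3]
        exact Nat.le_of_dvd hp.pos (orderOf_dvd_of_pow_eq_one h2)
      rcases CfsgLib.RankOneP.isCyclic_or_quaternion hG hu with h | ⟨-, k, -, h⟩
      · exact hnc h
      · exact hnq _ h
  -- the elements of order `p` in `A`
  let O : Subgroup G :=
    { carrier := {a | a ∈ A ∧ a ^ p = 1}
      one_mem' := ⟨one_mem A, one_pow p⟩
      mul_mem' := by
        rintro a b ⟨ha, ha'⟩ ⟨hb, hb'⟩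
        have hc : Commute a b := congrArg Subtype.val (hAab.is_comm.comm (⟨a, ha⟩ : A) ⟨b, hb⟩)
        exact ⟨mul_mem ha hb, by rw [hc.mul_pow, ha', hb', one_mul]⟩
      inv_mem' := by
        rintro a ⟨ha, ha'⟩
        exact ⟨inv_mem ha, by rw [inv_pow, ha', inv_one]⟩ }
  have hOn : O.Normal := ⟨fun a ha g => ⟨hAn.conj_mem a ha.1 g, by
    rw [conj_pow, ha.2, mul_one, mul_inv_cancel]⟩⟩
  have hOnz : ∀ x : G, ¬ O ≤ Subgroup.zpowers x := by
    intro x hle
    apply hAnc
    have hA' : IsPGroup p A := hG.to_subgroup A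
    have hu : CfsgLib.RankOneP.UniqueOrderP p A := by
      intro a b ha hb ha1
      have ha' : (a : G) ∈ O := ⟨a.2, by rw [← Subgroup.coe_pow, ha]; rfl⟩
      have hb' : (b : G) ∈ O := ⟨b.2, by rw [← Subgroup.coe_pow, hb]; rfl⟩
      have hoa : orderOf (⟨(a : G), hle ha'⟩ : Subgroup.zpowers x) = p := by
        rw [Subgroup.orderOf_mk, Subgroup.orderOf_coe]; exact orderOf_eq_prime ha ha1
      by_cases hb1 : b = 1
      · exact hb1 ▸ one_mem _
      have hob : orderOf (⟨(b : G), hle hb'⟩ : Subgroup.zpowers x) = p := by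
        rw [Subgroup.orderOf_mk, Subgroup.orderOf_coe]; exact orderOf_eq_prime hb hb1
      have h := CfsgLib.RankOneP.zpowers_eq_of_orderOf_eq (hoa.trans hob.symm)
      obtain ⟨k, hk⟩ := Subgroup.mem_zpowers_iff.1 (h ▸ Subgroup.mem_zpowers
        (⟨(b : G), hle hb'⟩ : Subgroup.zpowers x))
      refine Subgroup.mem_zpowers_iff.2 ⟨k, Subtype.ext ?_⟩
      simpa using congrArg (Subtype.val) hk
    rcases CfsgLib.RankOneP.isCyclic_or_quaternion hA' hu with h | ⟨-, k, hk, ⟨e⟩⟩
    · exact h
    · exfalso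
      have h2 := congrArg e (hAab.is_comm.comm (e.symm (QuaternionGroup.a 1))
        (e.symm (QuaternionGroup.xa 0)))
      simp only [map_mul, MulEquiv.apply_symm_apply, QuaternionGroup.a_mul_xa,
        QuaternionGroup.xa_mul_a, QuaternionGroup.xa.injEq, zero_sub, zero_add] at h2
      have h3 : ((2 : ℕ) : ZMod (2 * 2 ^ k)) = 0 := by
        rw [Nat.cast_ofNat]; linear_combination h2.symm
      have h4 := Nat.le_of_dvd (by norm_num) ((ZMod.natCast_eq_zero_iff _ _).1 h3)
      have h5 : 2 ≤ 2 ^ k := Nat.le_self_pow (by omega) 2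
      omega
  have hG1 : Nontrivial G := by
    by_contra h
    rw [not_nontrivial_iff_subsingleton] at h
    exact hnc inferInstance
  have hO1 : O ≠ ⊥ := fun h => hOnz 1 (h ▸ bot_le)
  obtain ⟨z, hzO, hzc, hz1⟩ : ∃ z, z ∈ O ∧ z ∈ Subgroup.center G ∧ z ≠ 1 := by
    obtain ⟨⟨z, hz, hzc⟩, hz1⟩ := Subgroup.ne_bot_iff_exists_ne_one.1
      (CfsgLib.PReduced.inf_center_ne_bot (N := O) hG hO1)
    exact ⟨z, hz, hzc, fun h => hz1 (Subtype.ext h)⟩
  have hoz : orderOf z = p := orderOf_eq_prime hzO.2 hz1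
  have hZn : (Subgroup.zpowers z).Normal := by
    refine ⟨fun x hx g => ?_⟩
    have : x ∈ Subgroup.center G := Subgroup.zpowers_le.2 hzc hx
    rwa [Subgroup.mem_center_iff.1 this g, mul_inv_cancel_right]
  let π := QuotientGroup.mk' (Subgroup.zpowers z)
  have hmapn : (O.map π).Normal := hOn.map π (QuotientGroup.mk'_surjective _)
  have hmap1 : O.map π ≠ ⊥ := by
    rw [Ne, Subgroup.map_eq_bot_iff, QuotientGroup.ker_mk']
    exact hOnz z
  have hQ : IsPGroup p (G ⧸ Subgroup.zpowers z) := hG.to_quotient _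
  have h := CfsgLib.PReduced.inf_center_ne_bot (N := O.map π) hQ hmap1
  obtain ⟨⟨y, ⟨w, hwO, rfl⟩, hyc⟩, hy1⟩ :=
    (Subgroup.ne_bot_iff_exists_ne_one (H := O.map π ⊓ Subgroup.center _)).1 h
  refine ⟨z, w, hzc, hoz, hwO.2, fun hw => hy1 (Subtype.ext ?_), fun g => ?_⟩
  · exact (QuotientGroup.eq_one_iff w).2 hw
  · refine (QuotientGroup.eq_one_iff _).1 ?_
    change π (g * w * g⁻¹ * w⁻¹) = 1
    rw [map_mul, map_mul, map_mul, map_inv, map_inv, Subgroup.mem_center_iff.1 hyc (π g),
      mul_inv_cancel_right, mul_inv_cancel]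

theorem main (q : ℕ) [Fact q.Prime] {V : Type*} [AddCommGroup V] [Module (ZMod q) V] [Finite V]
    [Nontrivial V] (hG : IsPGroup p G)
    (ρ : G →* (V ≃ₗ[ZMod q] V)) (hρ : Function.Injective ρ)
    (hirr : ∀ W : Submodule (ZMod q) V, (∀ g : G, ∀ w ∈ W, ρ g w ∈ W) → W = ⊥ ∨ W = ⊤)
    (hnc : ¬ IsCyclic G) (z w : G) (hzc : z ∈ Subgroup.center G) (hoz : orderOf z = p)
    (hwp : w ^ p = 1) (hwz : w ∉ Subgroup.zpowers z)
    (hcomm : ∀ g : G, g * w * g⁻¹ * w⁻¹ ∈ Subgroup.zpowers z) :
    ∃ (H : Subgroup G) (W : Fin p → Submodule (ZMod q) V), H.index = p ∧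
      iSup W = ⊤ ∧ iSupIndep W ∧
      (∀ h ∈ H, ∀ i, ∀ w ∈ W i, ρ h w ∈ W i) ∧
      (∀ i, ∃ h ∈ H, h ≠ 1 ∧ ∀ w ∈ W i, ρ h w = w) ∧
      ∀ g : G, g ∉ H → ∃ σ : Equiv.Perm (Fin p), orderOf σ = p ∧
        ∀ i, (W i).map (ρ g : V →ₗ[ZMod q] V) = W (σ i) := by
  classical
  have hp : p.Prime := hpF.out
  haveI : NeZero p := ⟨hp.ne_zero⟩
  have hz1 : z ≠ 1 := fun h => hp.ne_one (by rw [← hoz, h, orderOf_one])
  have hmul : ∀ (g h : G) (v : V), ρ (g * h) v = ρ g (ρ h v) := fun g h v => by rw [map_mul]; rfl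
  have hone : ∀ v : V, ρ 1 v = v := fun v => by rw [map_one]; rfl
  have hcz : ∀ g : G, g * z = z * g := fun g => Subgroup.mem_center_iff.1 hzc g
  -- fixed spaces
  let Fx : G → Submodule (ZMod q) V := fun x =>
    LinearMap.ker ((ρ x : V →ₗ[ZMod q] V) - LinearMap.id)
  have hFx : ∀ x v, v ∈ Fx x ↔ ρ x v = v := by
    intro x v; simp [Fx, sub_eq_zero]
  have hFxconj : ∀ g x v, v ∈ Fx x → ρ g v ∈ Fx (g * x * g⁻¹) := by
    intro g x v hv
    rw [hFx] at hv ⊢
    rw [← hmul, inv_mul_cancel_right, hmul, hv]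
  have hzfix : ∀ v, ρ z v = v → v = 0 := by
    intro v hv
    rcases hirr (Fx z) (fun g u hu => by
      have := hFxconj g z u hu
      rwa [hcz g, mul_inv_cancel_right] at this) with h | h
    · exact (Submodule.mem_bot (ZMod q)).1 (h ▸ (hFx z v).2 hv)
    · exfalso
      apply hz1
      apply hρ
      rw [map_one]
      exact LinearEquiv.ext fun u => (hFx z u).1 (h ▸ Submodule.mem_top)
  have hqp : (p : ZMod q) ≠ 0 := by
    intro h
    rw [ZMod.natCast_eq_zero_iff, Nat.prime_dvd_prime_iff_eq Fact.out hp] at h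
    subst h
    -- a `q`-group fixes a nonzero vector in characteristic `q`
    letI : MulAction G V :=
      { smul := fun g v => ρ g v
        one_smul := hone
        mul_smul := hmul }
    obtain ⟨n, hn⟩ : ∃ n, Nat.card V = q ^ n := by
      refine ⟨Module.finrank (ZMod q) V, ?_⟩
      rw [Module.natCard_eq_pow_finrank (K := ZMod q), Nat.card_zmod]
    have hdvd : q ∣ Nat.card V := by
      have := Finite.one_lt_card (α := V)
      rcases n with _ | n
      · rw [hn, pow_zero] at this; omega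
      · rw [hn, pow_succ]; exact dvd_mul_left _ _
    obtain ⟨b, hb, hb0⟩ := hG.exists_fixed_point_of_prime_dvd_card_of_fixed_point V hdvd
      (a := 0) (show ∀ g : G, g • (0 : V) = 0 from fun g => map_zero (ρ g))
    exact hb0 (hzfix b (hb z)).symm
  -- powers of `z`
  let zz : ZMod p → G := fun i => z ^ i.val
  have zz_add : ∀ i j, zz (i + j) = zz i * zz j := by
    intro i j
    simp only [zz]
    rw [← pow_add, ZMod.val_add]
    exact (pow_eq_pow_mod (i.val + j.val) (hoz ▸ pow_orderOf_eq_one z : z ^ p = 1)).symm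
  have zz0 : zz 0 = 1 := by simp [zz]
  have zz_inj : ∀ i, zz i = 1 → i = 0 := by
    intro i h
    have h1 := Nat.eq_zero_of_dvd_of_lt (orderOf_dvd_of_pow_eq_one h)
      (hoz.symm ▸ ZMod.val_lt i)
    exact (ZMod.val_eq_zero i).1 h1
  have hzzc : ∀ i g, g * zz i = zz i * g := fun i g =>
    Subgroup.mem_center_iff.1 ((Subgroup.center G).pow_mem hzc _) g
  have hzzfix : ∀ i : ZMod p, i ≠ 0 → ∀ v, ρ (zz i) v = v → v = 0 := by
    intro i hi v hv
    apply hzfix
    have hk : ∀ k : ℕ, ρ (zz (k * i)) v = v := by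
      intro k
      induction k with
      | zero => simp [zz0, hone]
      | succ k ih => rw [Nat.cast_succ, add_mul, one_mul, zz_add, hmul, hv, ih]
    have := hk (i⁻¹ : ZMod p).val
    rw [ZMod.natCast_zmod_val, inv_mul_cancel₀ hi] at this
    have h1 : zz 1 = z := by
      have : Fact (1 < p) := ⟨hp.one_lt⟩
      simp [zz, ZMod.val_one]
    rwa [h1] at this
  let xx : ZMod p → G := fun i => w * zz i
  have hxp : ∀ i, xx i ^ p = 1 := by
    intro i
    simp only [xx]
    rw [Commute.mul_pow (hzzc i w), hwp, one_mul, ← pow_mul, mul_comm, pow_mul]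
    rw [show z ^ p = 1 from hoz ▸ pow_orderOf_eq_one z, one_pow]
  -- sums along powers
  let S : ZMod p → V → V := fun i v => ∑ j ∈ Finset.range p, ρ (xx i ^ j) v
  have hSfix : ∀ i v, S i v ∈ Fx (xx i) := by
    intro i v
    rw [hFx, map_sum]
    have h2 := Finset.sum_range_succ (fun j => ρ (xx i ^ j) v) p
    rw [Finset.sum_range_succ', hxp, pow_zero] at h2
    simp only [hone] at h2
    simp only [S, ← hmul, ← pow_succ']
    exact add_right_cancel h2
  have hzsum : ∀ (d : ZMod p), d ≠ 0 → ∀ v, ∑ i : ZMod p, ρ (zz (d * i)) v = 0 := by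
    intro d hd v
    apply hzzfix d hd
    rw [map_sum]
    simp only [← hmul, ← zz_add]
    rw [← Equiv.sum_comp (Equiv.addLeft (1 : ZMod p)) (fun i => ρ (zz (d * i)) v)]
    simp [mul_add]
  have hzzpow : ∀ i (j : ℕ), zz i ^ j = zz ((j : ZMod p) * i) := by
    intro i j
    induction j with
    | zero => simp [zz0]
    | succ j ih => rw [pow_succ, ih, ← zz_add]; congr 1; push_cast; ring
  have hSsum : ∀ v, ∑ i : ZMod p, S i v = (p : ZMod q) • v := by
    intro v
    simp only [S]
    rw [Finset.sum_comm, Finset.sum_eq_single 0]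
    · simp only [pow_zero, hone, Finset.sum_const, Finset.card_univ, ZMod.card]
      rw [Nat.cast_smul_eq_nsmul]
    · intro j hj hj0
      simp only [xx, Commute.mul_pow (hzzc _ w), hzzpow, hmul]
      rw [← map_sum]
      rw [hzsum (j : ZMod p) (fun h => hj0 ?_) v, map_zero]
      exact Nat.eq_zero_of_dvd_of_lt ((ZMod.natCast_eq_zero_iff _ _).1 h) (Finset.mem_range.1 hj)
    · simp [hp.ne_zero]
  have hSkill : ∀ i k, i ≠ k → ∀ v ∈ Fx (xx k), S i v = 0 := by
    intro i k hik v hv
    have hd : i - k ≠ 0 := sub_ne_zero.2 hik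
    have e : xx i = zz (i - k) * xx k := by
      simp only [xx]
      rw [← hzzc, mul_assoc, ← zz_add, add_sub_cancel]
    have hj : ∀ j : ℕ, ρ (xx i ^ j) v = ρ (zz ((j : ZMod p) * (i - k))) v := by
      intro j
      rw [e, Commute.mul_pow (hzzc _ _).symm, hmul, hzzpow]
      congr 1
      induction j with
      | zero => rw [pow_zero, hone]
      | succ j ih => rw [pow_succ, hmul, (hFx _ _).1 hv, ih]
    simp only [S, hj]
    rw [← hzsum (i - k) hd v]
    refine Finset.sum_bij' (fun j _ => (j : ZMod p)) (fun x _ => x.val) (fun _ _ => Finset.mem_univ _)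
      (fun x _ => Finset.mem_range.2 (ZMod.val_lt x))
      (fun j hj => ZMod.val_natCast_of_lt (Finset.mem_range.1 hj))
      (fun x _ => ZMod.natCast_zmod_val x) (fun j _ => by rw [mul_comm])
  have hSself : ∀ i, ∀ v ∈ Fx (xx i), S i v = (p : ZMod q) • v := by
    intro i v hv
    rw [← hSsum v, Finset.sum_eq_single i (fun k _ hk => hSkill k i hk v hv) (by simp)]
  -- the exponent homomorphism
  have hc' : ∀ g : G, ∃ c : ZMod p, g * w * g⁻¹ = w * zz c := by
    intro g
    obtain ⟨k, hk⟩ := Subgroup.mem_zpowers_iff.1 (hcomm g)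
    refine ⟨(k : ZMod p), ?_⟩
    have h1 : zz (k : ZMod p) = z ^ k := by
      simp only [zz]
      rw [← zpow_natCast, ZMod.val_intCast]
      conv_rhs => rw [← zpow_mod_orderOf, hoz]
    rw [h1, Subgroup.mem_center_iff.1 ((Subgroup.center G).zpow_mem hzc k) w, hk]
    group
  choose c hc using hc'
  have hconj : ∀ g i, g * xx i * g⁻¹ = xx (i + c g) := by
    intro g i
    simp only [xx]
    rw [add_comm i, zz_add, ← mul_assoc w, ← hc g, mul_assoc (g * w) g⁻¹, hzzc i g⁻¹]
    group
  have hcmul : ∀ g h, c (g * h) = c g + c h := by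
    intro g h
    have e0 : w = xx 0 := by simp [xx, zz0]
    have h1 : g * h * w * (g * h)⁻¹ = xx (c h + c g) := by
      rw [← hconj g (c h), show xx (c h) = h * w * h⁻¹ from (hc h).symm]; group
    rw [hc (g * h)] at h1
    have h2 : zz (c (g * h)) = zz (c g + c h) := by
      rw [add_comm]; exact mul_left_cancel h1
    by_contra hne
    have h3 := zz_inj (c (g * h) - (c g + c h)) (by
      have h4 := zz_add (c (g * h) - (c g + c h)) (c g + c h)
      rw [sub_add_cancel, h2] at h4
      exact mul_eq_right.1 h4.symm)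
    exact hne (sub_eq_zero.1 h3)
  let φ : G →* Multiplicative (ZMod p) :=
    MonoidHom.mk' (fun g => Multiplicative.ofAdd (c g)) (fun g h => by rw [hcmul, ofAdd_add])
  let W : ZMod p → Submodule (ZMod q) V := fun i => Fx (xx i)
  have hmapW : ∀ g i, (W i).map (ρ g : V →ₗ[ZMod q] V) = W (i + c g) := by
    intro g i
    ext v
    constructor
    · rintro ⟨u, hu, rfl⟩
      change ρ g u ∈ Fx (xx (i + c g))
      rw [← hconj]; exact hFxconj g _ u hu
    · intro hv
      refine ⟨ρ g⁻¹ v, ?_, ?_⟩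
      · have h1 := hFxconj g⁻¹ _ v hv
        rw [← hconj] at h1
        change ρ g⁻¹ v ∈ Fx (xx i)
        convert h1 using 2; group
      · change ρ g (ρ g⁻¹ v) = v
        rw [← hmul, mul_inv_cancel, hone]
  have htop : iSup W = ⊤ := by
    rw [eq_top_iff]
    intro v _
    have h1 : v = (p : ZMod q)⁻¹ • ∑ i : ZMod p, S i v := by
      rw [hSsum, smul_smul, inv_mul_cancel₀ hqp, one_smul]
    rw [h1]
    exact Submodule.smul_mem _ _ (Submodule.sum_mem _ fun i _ =>
      Submodule.mem_iSup_of_mem i (hSfix i v))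
  have hxne : ∀ i, xx i ≠ 1 := by
    intro i h
    apply hwz
    rw [mul_eq_one_iff_eq_inv.1 h]
    exact Subgroup.inv_mem _ (Subgroup.pow_mem _ (Subgroup.mem_zpowers z) _)
  have hφsurj : Function.Surjective φ := by
    by_cases h : ∀ g, c g = 0
    · exfalso
      have hall : ∀ i, W i = ⊥ := by
        intro i
        rcases hirr (W i) (fun g u hu => by
          have := Submodule.mem_map_of_mem (f := (ρ g : V →ₗ[ZMod q] V)) hu
          rwa [hmapW, h, add_zero] at this) with h1 | h1
        · exact h1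
        · exfalso
          apply hxne i
          apply hρ
          rw [map_one]
          exact LinearEquiv.ext fun u => (hFx _ u).1 (show u ∈ W i by rw [h1]; exact Submodule.mem_top)
      exact bot_ne_top ((iSup_eq_bot.2 hall).symm.trans htop)
    · push Not at h
      obtain ⟨g₀, hg₀⟩ := h
      intro y
      refine ⟨g₀ ^ ((Multiplicative.toAdd y) * (c g₀)⁻¹).val, ?_⟩
      rw [map_pow]
      change Multiplicative.ofAdd (c g₀) ^ _ = y
      rw [← ofAdd_nsmul, nsmul_eq_mul, ZMod.natCast_zmod_val, mul_assoc, inv_mul_cancel₀ hg₀, mul_one,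
        ofAdd_toAdd]
  let e : Fin p ≃ ZMod p := (ZMod.finEquiv p).toEquiv
  have hker : ∀ g, g ∈ φ.ker ↔ c g = 0 := fun g => by
    rw [MonoidHom.mem_ker]; exact ofAdd_eq_one
  refine ⟨φ.ker, fun i => W (e i), ?_, ?_, ?_, ?_, ?_, ?_⟩
  · rw [Subgroup.index_ker, MonoidHom.range_eq_top.2 hφsurj, Subgroup.card_top,
      Nat.card_congr Multiplicative.toAdd, Nat.card_zmod]
  · rw [← htop]; exact e.surjective.iSup_comp W
  · have hind : iSupIndep W := by
      rw [iSupIndep_def]
      intro i
      rw [Submodule.disjoint_def]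
      intro v hv hv'
      have hle : (⨆ (k) (_ : k ≠ i), W k) ≤ LinearMap.ker
          (∑ j ∈ Finset.range p, (ρ (xx i ^ j) : V →ₗ[ZMod q] V)) := by
        refine iSup₂_le fun k hk u hu => ?_
        rw [LinearMap.mem_ker, LinearMap.sum_apply]
        exact hSkill i k hk.symm u hu
      have h0 : S i v = 0 := by
        have := hle hv'
        rwa [LinearMap.mem_ker, LinearMap.sum_apply] at this
      rw [hSself i v hv] at h0
      exact (smul_eq_zero.1 h0).resolve_left hqp
    exact hind.comp e.injective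
  · intro h hh i u hu
    have := Submodule.mem_map_of_mem (f := (ρ h : V →ₗ[ZMod q] V)) hu
    rwa [hmapW, (hker h).1 hh, add_zero] at this
  · intro i
    refine ⟨xx (e i), (hker _).2 ?_, hxne _, fun u hu => (hFx _ u).1 hu⟩
    by_contra hne
    have h1 := hconj (xx (e i)) 0
    have h2 : xx (e i) * xx 0 * (xx (e i))⁻¹ = xx 0 := by
      simp only [xx, zz0, mul_one]
      rw [mul_inv_eq_iff_eq_mul, mul_assoc, ← hzzc (e i) w]
    rw [h2, zero_add] at h1
    apply hne
    apply zz_inj
    rw [← mul_left_cancel h1, zz0]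
  · intro g hg
    have hcg : c g ≠ 0 := fun h => hg ((hker g).2 h)
    refine ⟨(e.trans (Equiv.addRight (c g))).trans e.symm, ?_, fun i => ?_⟩
    · refine orderOf_eq_prime ?_ ?_
      · ext i
        have hk : ∀ k : ℕ, (((e.trans (Equiv.addRight (c g))).trans e.symm) ^ k) i =
            e.symm (e i + (k : ZMod p) * c g) := by
          intro k
          induction k with
          | zero => simp
          | succ k ih =>
            rw [pow_succ', Equiv.Perm.mul_apply, ih]
            simp [add_mul, add_assoc]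
        simp [hk p]
      · intro h
        have := congrArg e (Equiv.congr_fun h (e.symm 0))
        simp [hcg] at this
    · rw [hmapW]; simp

end Cfsg.Agent.H29.PImprimitive
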