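import Mathlib

/-!
The number of fixed points is not constant on a product of two conjugacy classes.
-/

set_option autoImplicit false

namespace CfsgLib.H29.FixProduct

open Equiv MulAction Finset

variable {n : ℕ}

/-- Fixed points. -/
def nfix (g : Perm (Fin n)) : ℕ := (univ.filter fun x => g x = x).card

theorem card_fixedPoints (g : Perm (Fin n)) : Nat.card (Function.fixedPoints ⇑g) = nfix g := by
  rw [Nat.card_eq_fintype_card, nfix, ← Fintype.card_subtype]
  exact Fintype.card_congr (Equiv.subtypeEquivRight fun x => Iff.rfl)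

theorem nfix_comm (g h : Perm (Fin n)) : nfix (g * h) = nfix (h * g) := by
  refine card_bij (fun x _ => h x) ?_ ?_ ?_
  · intro x hx
    rw [mem_filter, Perm.mul_apply] at hx
    rw [mem_filter, Perm.mul_apply, hx.2]
    exact ⟨mem_univ _, rfl⟩
  · intro x _ y _ e
    exact h.injective e
  · intro y hy
    rw [mem_filter, Perm.mul_apply] at hy
    refine ⟨g y, ?_, hy.2⟩
    rw [mem_filter, Perm.mul_apply, hy.2]
    exact ⟨mem_univ _, rfl⟩

/-- Even permutations. -/
def evens (n : ℕ) : Finset (Perm (Fin n)) := univ.filter fun h => Perm.sign h = 1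

theorem mem_evens {h : Perm (Fin n)} : h ∈ evens n ↔ h ∈ alternatingGroup (Fin n) := by
  simp [evens, Perm.mem_alternatingGroup]

/-- The two-condition count. -/
def cnt (b : Perm (Fin n)) (u v x y : Fin n) : ℕ :=
  ((evens n).filter fun h => (h * b * h⁻¹) u = v ∧ (h * b * h⁻¹) x = y).card

theorem cnt_map (b : Perm (Fin n)) {g : Perm (Fin n)} (hg : g ∈ alternatingGroup (Fin n))
    (u v x y : Fin n) : cnt b (g u) (g v) (g x) (g y) = cnt b u v x y := by
  refine card_bij' (fun h _ => g⁻¹ * h) (fun h _ => g * h) ?_ ?_ (fun h _ => mul_inv_cancel_left g h)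
    (fun h _ => inv_mul_cancel_left g h)
  · intro h hh
    rw [mem_filter, mem_evens] at hh ⊢
    simp only [Perm.mul_apply, mul_inv_rev, inv_inv] at hh ⊢
    exact ⟨mul_mem (inv_mem hg) hh.1, by rw [hh.2.1]; simp, by rw [hh.2.2]; simp⟩
  · intro h hh
    rw [mem_filter, mem_evens] at hh ⊢
    simp only [Perm.mul_apply, mul_inv_rev] at hh ⊢
    exact ⟨mul_mem hg hh.1, by rw [Perm.inv_def g, Equiv.symm_apply_apply, hh.2.1], by rw [Perm.inv_def g, Equiv.symm_apply_apply, hh.2.2]⟩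

/-- Transfer along a tuple of distinct points. -/
theorem exists_even {k : ℕ} (hk : k + 2 ≤ n) (f f' : Fin k ↪ Fin n) :
    ∃ g : Perm (Fin n), g ∈ alternatingGroup (Fin n) ∧ ∀ i, g (f i) = f' i := by
  have h0 := alternatingGroup.isMultiplyPretransitive (Fin n)
  rw [Nat.card_fin] at h0
  have : IsMultiplyPretransitive (alternatingGroup (Fin n)) (Fin n) k :=
    MulAction.isMultiplyPretransitive_of_le' (n := n - 2) (by omega) (by simp)
  obtain ⟨g, hg⟩ := MulAction.exists_smul_eq (alternatingGroup (Fin n)) f f'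
  exact ⟨g, g.2, fun i => congrArg (fun e : Fin k ↪ Fin n => e i) hg⟩

theorem even2 (hn : 4 ≤ n) {a b a' b' : Fin n} (h : a ≠ b) (h' : a' ≠ b') :
    ∃ g : Perm (Fin n), g ∈ alternatingGroup (Fin n) ∧ g a = a' ∧ g b = b' := by
  have i : Function.Injective ![a, b] := by
    intro i j; fin_cases i <;> fin_cases j <;> simp [h, h.symm]
  have i' : Function.Injective ![a', b'] := by
    intro i j; fin_cases i <;> fin_cases j <;> simp [h', h'.symm]
  obtain ⟨g, hg, e⟩ := exists_even (k := 2) (by omega) ⟨_, i⟩ ⟨_, i'⟩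
  exact ⟨g, hg, e 0, e 1⟩

theorem even3 (hn : 5 ≤ n) {a b c a' b' c' : Fin n} (h1 : a ≠ b) (h2 : a ≠ c) (h3 : b ≠ c)
    (h1' : a' ≠ b') (h2' : a' ≠ c') (h3' : b' ≠ c') :
    ∃ g : Perm (Fin n), g ∈ alternatingGroup (Fin n) ∧ g a = a' ∧ g b = b' ∧ g c = c' := by
  have i : Function.Injective ![a, b, c] := by
    intro i j; fin_cases i <;> fin_cases j <;> simp [h1, h2, h3, h1.symm, h2.symm, h3.symm]
  have i' : Function.Injective ![a', b', c'] := by
    intro i j; fin_cases i <;> fin_cases j <;> simp [h1', h2', h3', h1'.symm, h2'.symm, h3'.symm]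
  obtain ⟨g, hg, e⟩ := exists_even (k := 3) (by omega) ⟨_, i⟩ ⟨_, i'⟩
  exact ⟨g, hg, e 0, e 1, e 2⟩

theorem even4 (hn : 6 ≤ n) {a b c d a' b' c' d' : Fin n} (h1 : a ≠ b) (h2 : a ≠ c) (h3 : b ≠ c)
    (h4 : a ≠ d) (h5 : b ≠ d) (h6 : c ≠ d)
    (h1' : a' ≠ b') (h2' : a' ≠ c') (h3' : b' ≠ c') (h4' : a' ≠ d') (h5' : b' ≠ d') (h6' : c' ≠ d') :
    ∃ g : Perm (Fin n), g ∈ alternatingGroup (Fin n) ∧ g a = a' ∧ g b = b' ∧ g c = c' ∧ g d = d' := by
  have i : Function.Injective ![a, b, c, d] := by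
    intro i j
    fin_cases i <;> fin_cases j <;>
      simp [h1, h2, h3, h4, h5, h6, h1.symm, h2.symm, h3.symm, h4.symm, h5.symm, h6.symm]
  have i' : Function.Injective ![a', b', c', d'] := by
    intro i j
    fin_cases i <;> fin_cases j <;>
      simp [h1', h2', h3', h4', h5', h6', h1'.symm, h2'.symm, h3'.symm, h4'.symm, h5'.symm, h6'.symm]
  obtain ⟨g, hg, e⟩ := exists_even (k := 4) (by omega) ⟨_, i⟩ ⟨_, i'⟩
  exact ⟨g, hg, e 0, e 1, e 2, e 3⟩

/-- A constant number of fixed points. -/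
def Const (a b : Perm (Fin n)) (K : ℕ) : Prop :=
  ∀ h ∈ evens n, nfix (a * (h * b * h⁻¹)) = K

theorem nonempty_count (hn : 4 ≤ n) {b : Perm (Fin n)} {u v p : Fin n} (hp : b p ≠ p) (huv : u ≠ v) :
    0 < ((evens n).filter fun h => (h * b * h⁻¹) u = v).card := by
  obtain ⟨g, hg, g1, g2⟩ := even2 hn (Ne.symm hp) huv
  refine card_pos.mpr ⟨g, mem_filter.mpr ⟨mem_evens.mpr hg, ?_⟩⟩
  rw [Perm.mul_apply, Perm.mul_apply, ← g1, Perm.inv_def, Equiv.symm_apply_apply, g2]

/-- The weighted sum over the conjugates with `u` going to `v`. -/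
theorem sum_cnt {a b : Perm (Fin n)} {K : ℕ} (hK : Const a b K) (u v : Fin n) :
    ∑ x, cnt b u v x (a⁻¹ x) = K * cnt b u v u v := by
  have e : cnt b u v u v = ((evens n).filter fun h => (h * b * h⁻¹) u = v).card := by
    unfold cnt
    exact congrArg Finset.card (filter_congr fun h _ => and_self_iff)
  simp only [cnt, card_eq_sum_ones ((evens n).filter _), sum_filter]
  rw [sum_comm, mul_sum]
  refine sum_congr rfl fun h hh => ?_
  by_cases hu : (h * b * h⁻¹) u = v
  · simp only [hu, true_and, and_self, if_true, mul_one]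
    rw [← hK h hh, nfix, card_filter]
    refine sum_congr rfl fun x _ => ?_
    congr 1
    rw [Perm.eq_inv_iff_eq, eq_iff_iff]
    rfl
  · simp only [hu, false_and, and_self, if_false, sum_const_zero, mul_zero]

theorem cnt_zero {b : Perm (Fin n)} {u v x y : Fin n}
    (h : ∀ h' : Perm (Fin n), (h' * b * h'⁻¹) u = v → (h' * b * h'⁻¹) x = y → False) :
    cnt b u v x y = 0 :=
  card_eq_zero.mpr (filter_eq_empty_iff.mpr fun h' _ hh => h h' hh.1 hh.2)

theorem cnt_le (b : Perm (Fin n)) (u v x y : Fin n) : cnt b u v x y ≤ cnt b u v u v :=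
  card_le_card fun h hh => by
    simp only [mem_filter] at hh ⊢
    exact ⟨hh.1, hh.2.1, hh.2.1⟩

theorem cnt_two_le (b : Perm (Fin n)) {u v x y x' y' : Fin n}
    (hd : ∀ h : Perm (Fin n), (h * b * h⁻¹) x = y → (h * b * h⁻¹) x' = y' → False) :
    cnt b u v x y + cnt b u v x' y' ≤ cnt b u v u v := by
  simp only [cnt]
  rw [← card_union_of_disjoint]
  · refine card_le_card fun h hh => ?_
    simp only [mem_union, mem_filter] at hh ⊢
    rcases hh with ⟨h1, h2, -⟩ | ⟨h1, h2, -⟩ <;> exact ⟨h1, h2, h2⟩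
  · refine disjoint_left.mpr fun h hh hh' => ?_
    simp only [mem_filter] at hh hh'
    exact hd h hh.2.2 hh'.2.2

/-- Both permutations have fixed points. -/
theorem not_const_fixed (hn : 5 ≤ n) {a b : Perm (Fin n)} {p q : Fin n} (hp : a p = p) (hq : b q = q)
    (ha : a ≠ 1) (hb : b ≠ 1) (K : ℕ) : ¬ Const a b K := by
  intro hK
  obtain ⟨r, hr⟩ : ∃ r, a r ≠ r := by
    by_contra h
    push Not at h
    exact ha (Equiv.ext h)
  obtain ⟨t, ht⟩ : ∃ t, b t ≠ t := by
    by_contra h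
    push Not at h
    exact hb (Equiv.ext h)
  have hcard : ∀ s : Finset (Fin n), s.card ≤ 3 → ∃ x, x ∉ s := fun s hs => by
    by_contra h
    push Not at h
    have := card_le_card (fun x _ => h x : (univ : Finset (Fin n)) ⊆ s)
    rw [card_univ, Fintype.card_fin] at this
    omega
  obtain ⟨k, hk⟩ := hcard {p} (by simp)
  obtain ⟨l, hl⟩ := hcard {p, k} (card_le_two.trans (by norm_num))
  simp only [mem_insert, mem_singleton, not_or] at hk hl
  set N : ℤ := (cnt b p p p p : ℤ)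
  set B : ℤ := (cnt b p p k k : ℤ)
  set C : ℤ := (cnt b p p k l : ℤ)
  have hN : ∀ u, (cnt b u u u u : ℤ) = N := by
    intro u
    obtain ⟨w, hw⟩ := hcard {u} (by simp)
    obtain ⟨g, hg, g1, -⟩ := even2 (by omega) (Ne.symm hk) (Ne.symm (by simpa using hw) : u ≠ w)
    simp only [N]
    rw [← cnt_map b hg p p p p, g1]
  have hB : ∀ u x, x ≠ u → (cnt b u u x x : ℤ) = B := by
    intro u x hx
    obtain ⟨g, hg, g1, g2⟩ := even2 (by omega) (Ne.symm hk) hx.symm
    simp only [B]
    rw [← cnt_map b hg p p k k, g1, g2]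
  have hC : ∀ u x y, x ≠ u → y ≠ u → x ≠ y → (cnt b u u x y : ℤ) = C := by
    intro u x y h1 h2 h3
    obtain ⟨g, hg, g1, g2, g3⟩ := even3 hn (Ne.symm hk) (Ne.symm hl.1) (Ne.symm hl.2)
      h1.symm h2.symm h3
    simp only [C]
    rw [← cnt_map b hg p p k l, g1, g2, g3]
  have hsum : ∀ u, ∑ x, (cnt b u u x (a⁻¹ x) : ℤ) = K * N := by
    intro u
    rw [← hN u]
    exact_mod_cast sum_cnt hK u u
  set base : Fin n → ℤ := fun x => if a⁻¹ x = x then B else C with hbase
  have key : ∀ u, ∀ s : Finset (Fin n), (∀ x ∉ s, x ≠ u ∧ a⁻¹ x ≠ u) →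
      ∑ x ∈ s, ((cnt b u u x (a⁻¹ x) : ℤ) - base x) = K * N - ∑ x, base x := by
    intro u s hs
    rw [← hsum u, ← sum_sub_distrib]
    refine sum_subset (subset_univ s) fun x _ hx => ?_
    obtain ⟨h1, h2⟩ := hs x hx
    simp only [base]
    split
    · next h => rw [h, hB u x h1, sub_self]
    · next h => rw [hC u x _ h1 h2 (Ne.symm h), sub_self]
  have k1 := key p {p} fun x hx => by
    have hx : x ≠ p := by simpa using hx
    exact ⟨hx, fun e => hx (by rw [← hp, ← e]; simp)⟩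
  have hpi : a⁻¹ p = p := by rw [Perm.inv_eq_iff_eq, hp]
  rw [sum_singleton, hpi, hN] at k1
  simp only [base, hpi, if_true] at k1
  have k2 := key r {r, a r} fun x hx => by
    simp only [mem_insert, mem_singleton, not_or] at hx
    exact ⟨hx.1, fun e => hx.2 (by rw [← e]; simp)⟩
  have har : a⁻¹ (a r) = r := by simp
  have hri : a⁻¹ r ≠ r := fun e => hr (by nth_rw 1 [← e]; simp)
  rw [sum_pair (Ne.symm hr), har] at k2
  have z1 : cnt b r r r (a⁻¹ r) = 0 := cnt_zero fun h h1 h2 => hri (h2.symm.trans h1)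
  have z2 : cnt b r r (a r) r = 0 := cnt_zero fun h h1 h2 =>
    hr ((h * b * h⁻¹).injective (h2.trans h1.symm))
  simp only [base, har, if_neg hri, if_neg (Ne.symm hr), z1, z2] at k2
  have hC0 : (0 : ℤ) ≤ C := Int.natCast_nonneg _
  have hlt : B < N := by
    obtain ⟨g, hg, g1, g2⟩ : ∃ g : Perm (Fin n), g ∈ alternatingGroup (Fin n) ∧ g q = p ∧ g t = k :=
      even2 (by omega) (fun e => ht (by rw [← e, hq])) (Ne.symm hk)
    simp only [B, N, cnt, Nat.cast_lt]
    refine card_lt_card ((ssubset_iff_of_subset (fun h hh => ?_)).mpr ⟨g, ?_, ?_⟩)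
    · simp only [mem_filter] at hh ⊢
      exact ⟨hh.1, hh.2.1, hh.2.1⟩
    · simp only [mem_filter, mem_evens, and_self]
      exact ⟨hg, by simp [Perm.mul_apply, ← g1, hq]⟩
    · simp only [mem_filter, not_and]
      intro _ _ e
      simp [Perm.mul_apply, ← g2] at e
      exact ht e
  push_cast at k2
  omega

/-- The second permutation has no fixed points. -/
theorem not_const_fpf (hn : 6 ≤ n) {a b : Perm (Fin n)} (hb : ∀ x, b x ≠ x) (ha : a ≠ 1) (K : ℕ) :
    ¬ Const a b K := by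
  intro hK
  obtain ⟨u, hu⟩ : ∃ u, a⁻¹ u ≠ u := by
    by_contra h
    push Not at h
    exact ha (Equiv.ext fun x => by have := h (a x); simpa using this.symm)
  set σ := a⁻¹ with hσ
  have hcard : ∀ s : Finset (Fin n), s.card ≤ 3 → ∃ x, x ∉ s := fun s hs => by
    by_contra h
    push Not at h
    have := card_le_card (fun x _ => h x : (univ : Finset (Fin n)) ⊆ s)
    rw [card_univ, Fintype.card_fin] at this
    omega
  let e : Fin n := u
  obtain ⟨p1, hp1⟩ := hcard {u} (by simp)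
  obtain ⟨p2, hp2⟩ := hcard {u, p1} (card_le_two.trans (by norm_num))
  obtain ⟨p3, hp3⟩ := hcard {u, p1, p2} card_le_three
  simp only [mem_insert, mem_singleton, not_or] at hp1 hp2 hp3
  set N : ℤ := (cnt b u p1 u p1 : ℤ)
  set A : ℤ := (cnt b u p1 p1 u : ℤ)
  set E : ℤ := (cnt b u p1 p1 p2 : ℤ)
  set E' : ℤ := (cnt b u p1 p2 u : ℤ)
  set G : ℤ := (cnt b u p1 p2 p3 : ℤ)
  have hN : ∀ s t, s ≠ t → (cnt b s t s t : ℤ) = N := by
    intro s t h
    obtain ⟨g, hg, g1, g2⟩ := even2 (by omega) (Ne.symm hp1) h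
    simp only [N]
    rw [← cnt_map b hg u p1 u p1, g1, g2]
  have hA : ∀ s t, s ≠ t → (cnt b s t t s : ℤ) = A := by
    intro s t h
    obtain ⟨g, hg, g1, g2⟩ := even2 (by omega) (Ne.symm hp1) h
    simp only [A]
    rw [← cnt_map b hg u p1 p1 u, g1, g2]
  have hE : ∀ s t y, s ≠ t → s ≠ y → t ≠ y → (cnt b s t t y : ℤ) = E := by
    intro s t y h1 h2 h3
    obtain ⟨g, hg, g1, g2, g3⟩ := even3 (by omega) (Ne.symm hp1) (Ne.symm hp2.1) (Ne.symm hp2.2) h1 h2 h3
    simp only [E]
    rw [← cnt_map b hg u p1 p1 p2, g1, g2, g3]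
  have hE' : ∀ s t x, s ≠ t → s ≠ x → t ≠ x → (cnt b s t x s : ℤ) = E' := by
    intro s t x h1 h2 h3
    obtain ⟨g, hg, g1, g2, g3⟩ := even3 (by omega) (Ne.symm hp1) (Ne.symm hp2.1) (Ne.symm hp2.2) h1 h2 h3
    simp only [E']
    rw [← cnt_map b hg u p1 p2 u, g1, g2, g3]
  have hG : ∀ s t x y, s ≠ t → x ≠ s → x ≠ t → y ≠ s → y ≠ t → x ≠ y →
      (cnt b s t x y : ℤ) = G := by
    intro s t x y h1 h2 h3 h4 h5 h6
    obtain ⟨g, hg, g1, g2, g3, g4⟩ := even4 hn (Ne.symm hp1) (Ne.symm hp2.1) (Ne.symm hp2.2)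
      (Ne.symm hp3.1) (Ne.symm hp3.2.1) (Ne.symm hp3.2.2) h1 h2.symm h3.symm h4.symm h5.symm h6
    simp only [G]
    rw [← cnt_map b hg u p1 p2 p3, g1, g2, g3, g4]
  have hZ : ∀ s t x, cnt b s t x x = 0 := fun s t x => cnt_zero fun h _ h2 => hb (h⁻¹ x) (by
    have := congrArg (fun z => h⁻¹ z) h2
    simpa using this)
  have hsum : ∀ t, u ≠ t → ∑ x, (cnt b u t x (σ x) : ℤ) = K * N := by
    intro t ht
    rw [← hN u t ht]
    exact_mod_cast sum_cnt hK u t
  set base : Fin n → ℤ := fun x => if σ x = x then 0 else G with hbase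
  have key : ∀ t, u ≠ t → ∀ s : Finset (Fin n), (∀ x ∉ s, x ≠ u ∧ x ≠ t ∧ σ x ≠ u ∧ σ x ≠ t) →
      ∑ x ∈ s, ((cnt b u t x (σ x) : ℤ) - base x) = K * N - ∑ x, base x := by
    intro t ht s hs
    rw [← hsum t ht, ← sum_sub_distrib]
    refine sum_subset (subset_univ s) fun x _ hx => ?_
    obtain ⟨h1, h2, h3, h4⟩ := hs x hx
    simp only [base]
    split
    · next h => rw [h, hZ]; simp
    · next h => rw [hG u t x _ ht h1 h2 h3 h4 (Ne.symm h), sub_self]
  have hσu' : ¬ σ u = u := hu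
  set v := σ u with hv
  set w := σ⁻¹ u with hw
  have hσw : σ w = u := by simp [hw]
  have huv : u ≠ v := Ne.symm hu
  have hσv : σ v ≠ v := fun h => hu (σ.injective h)
  have hwu : w ≠ u := fun h => hu (by rw [h] at hσw; exact hσw)
  have hz1 : cnt b u v u v = cnt b u v u (σ u) := rfl
  have hNpos : 0 < N := by
    have := nonempty_count (by omega) (hb u) (Ne.symm hp1)
    simp only [N, Nat.cast_pos]
    refine this.trans_le (le_of_eq ?_)
    unfold cnt
    exact congrArg Finset.card (filter_congr fun h _ => and_self_iff.symm)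
  have hG2 : G + G ≤ N := by
    obtain ⟨p4, hp4⟩ : ∃ p4, p4 ∉ ({u, p1, p2, p3} : Finset (Fin n)) := by
      by_contra h
      push Not at h
      have := (card_le_card (fun x _ => h x : (univ : Finset (Fin n)) ⊆ {u, p1, p2, p3})).trans card_le_four
      rw [card_univ, Fintype.card_fin] at this
      omega
    simp only [mem_insert, mem_singleton, not_or] at hp4
    have h2 := cnt_two_le b (u := u) (v := p1) (x := p2) (y := p3) (x' := p2) (y' := p4)
      fun h e1 e2 => hp4.2.2.2 (e2.symm.trans e1)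
    have e1 : (cnt b u p1 p2 p4 : ℤ) = G :=
      hG _ _ _ _ (Ne.symm hp1) hp2.1 hp2.2 hp4.1 hp4.2.1 (Ne.symm hp4.2.2.1)
    simp only [G, N] at e1 ⊢
    omega
  have bnd1 : E + E' < N := by
    obtain ⟨p4, hp4⟩ : ∃ p4, p4 ∉ ({u, p1, p2, p3} : Finset (Fin n)) := by
      by_contra h
      push Not at h
      have := (card_le_card (fun x _ => h x : (univ : Finset (Fin n)) ⊆ {u, p1, p2, p3})).trans card_le_four
      rw [card_univ, Fintype.card_fin] at this
      omega
    simp only [mem_insert, mem_singleton, not_or] at hp4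
    have three : ∀ (f : Perm (Fin n) → Fin n) (c : Fin n → ℕ),
        (∀ q, c q = ((evens n).filter fun h => (h * b * h⁻¹) u = p1 ∧ f h = q).card) →
        c p2 + c p3 + c p4 ≤ cnt b u p1 u p1 := by
      intro f c hc
      rw [hc, hc, hc, ← card_union_of_disjoint, ← card_union_of_disjoint]
      · refine card_le_card fun h hh => ?_
        simp only [mem_union, mem_filter] at hh ⊢
        rcases hh with (⟨h1, h2, -⟩ | ⟨h1, h2, -⟩) | ⟨h1, h2, -⟩ <;> exact ⟨h1, h2, h2⟩
      · refine disjoint_left.mpr fun h hh hh' => ?_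
        simp only [mem_union, mem_filter] at hh hh'
        rcases hh with hh | hh
        · exact hp4.2.2.1 (hh'.2.2.symm.trans hh.2.2)
        · exact hp4.2.2.2 (hh'.2.2.symm.trans hh.2.2)
      · refine disjoint_left.mpr fun h hh hh' => ?_
        simp only [mem_filter] at hh hh'
        exact hp3.2.2 (hh'.2.2.symm.trans hh.2.2)
    have h2 := three (fun h => (h * b * h⁻¹) p1) (fun q => cnt b u p1 p1 q) fun q => rfl
    have h3 := three (fun h => (h * b * h⁻¹)⁻¹ u) (fun q => cnt b u p1 q u) fun q => by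
      refine congrArg Finset.card (filter_congr fun h _ => and_congr_right fun _ => ?_)
      rw [Perm.inv_eq_iff_eq]
      exact eq_comm
    have e1 : (cnt b u p1 p1 p3 : ℤ) = E := hE _ _ _ (Ne.symm hp1) (Ne.symm hp3.1) (Ne.symm hp3.2.1)
    have e2 : (cnt b u p1 p3 u : ℤ) = E' := hE' _ _ _ (Ne.symm hp1) (Ne.symm hp3.1) (Ne.symm hp3.2.1)
    have e3 : (cnt b u p1 p1 p4 : ℤ) = E := hE _ _ _ (Ne.symm hp1) (Ne.symm hp4.1) (Ne.symm hp4.2.1)
    have e4 : (cnt b u p1 p4 u : ℤ) = E' := hE' _ _ _ (Ne.symm hp1) (Ne.symm hp4.1) (Ne.symm hp4.2.1)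
    simp only [E, E', N] at e1 e2 e3 e4 hNpos ⊢
    omega
  have hnn : 0 ≤ A ∧ 0 ≤ E ∧ 0 ≤ E' ∧ 0 ≤ G :=
    ⟨Int.natCast_nonneg _, Int.natCast_nonneg _, Int.natCast_nonneg _, Int.natCast_nonneg _⟩
  obtain ⟨t, ht⟩ := hcard {u, v, w} card_le_three
  simp only [mem_insert, mem_singleton, not_or] at ht
  obtain ⟨htu, htv, htw⟩ := ht
  -- the value at a non-adjacent second point
  have hother : E + E' - 4 * G = K * N - ∑ x, base x ∨ E' - 2 * G = K * N - ∑ x, base x := by
    have hσt : σ t ≠ u := fun h => htw (σ.injective (h.trans hσw.symm))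
    have c1 : (cnt b u t u (σ u) : ℤ) = 0 := by
      rw [cnt_zero fun h h1 h2 => htv (h1.symm.trans h2)]; rfl
    have c2 : (cnt b u t w u : ℤ) = E' := hE' u t w (Ne.symm htu) (Ne.symm hwu) htw
    by_cases hfix : σ t = t
    · refine Or.inr ?_
      have hk := key t (Ne.symm htu) {u, w, t} fun x hx => by
        simp only [mem_insert, mem_singleton, not_or] at hx
        exact ⟨hx.1, hx.2.2, fun h => hx.2.1 (σ.injective (h.trans hσw.symm)),
          fun h => hx.2.2 (σ.injective (h.trans hfix.symm))⟩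
      rw [sum_insert (by simp [Ne.symm hwu, Ne.symm htu]), sum_pair (Ne.symm htw)] at hk
      simp only [base, hσw, hfix, if_true, if_neg (show ¬ σ u = u from hu), if_neg (Ne.symm hwu), c1, c2, hZ] at hk
      push_cast at hk
      simp only [base]
      omega
    · refine Or.inl ?_
      set z := σ⁻¹ t with hz
      have hσz : σ z = t := by simp [hz]
      have hzu : z ≠ u := fun h => htv (by rw [← hσz, h])
      have hzt : z ≠ t := fun h => hfix (by rw [h] at hσz; exact hσz)
      have hzw : z ≠ w := fun h => htu (by rw [← hσz, h, hσw])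
      have c3 : (cnt b u t t (σ t) : ℤ) = E := hE u t _ (Ne.symm htu) (Ne.symm hσt) (Ne.symm hfix)
      have c4 : (cnt b u t z t : ℤ) = 0 := by
        rw [cnt_zero fun h h1 h2 => hzu ((h * b * h⁻¹).injective (h2.trans h1.symm))]; rfl
      have hk := key t (Ne.symm htu) {u, w, t, z} fun x hx => by
        simp only [mem_insert, mem_singleton, not_or] at hx
        exact ⟨hx.1, hx.2.2.1, fun h => hx.2.1 (σ.injective (h.trans hσw.symm)),
          fun h => hx.2.2.2 (σ.injective (h.trans hσz.symm))⟩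
      rw [sum_insert (by simp [Ne.symm hwu, Ne.symm htu, Ne.symm hzu]),
        sum_insert (by simp [Ne.symm htw, Ne.symm hzw]), sum_pair (Ne.symm hzt)] at hk
      simp only [base, hσw, hσz, if_neg (show ¬ σ u = u from hu), if_neg (Ne.symm hwu), if_neg hfix, if_neg (Ne.symm hzt),
        c1, c2, c3, c4] at hk
      simp only [base]
      omega
  by_cases hvu : σ v = u
  · have hk := key v huv {u, v} fun x hx => by
      simp only [mem_insert, mem_singleton, not_or] at hx
      exact ⟨hx.1, hx.2, fun h => hx.2 (σ.injective (h.trans hvu.symm)),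
        fun h => hx.1 (σ.injective h)⟩
    rw [sum_pair huv] at hk
    simp only [base, if_neg (show ¬ σ u = u from hu), hvu, if_neg huv, if_neg hσv] at hk
    rw [hN u v huv, hA u v huv] at hk
    simp only [base] at hother
    omega
  · have hwv : w ≠ v := fun h => hvu (by rw [← h]; exact hσw)
    have hk := key v huv {u, v, w} fun x hx => by
      simp only [mem_insert, mem_singleton, not_or] at hx
      exact ⟨hx.1, hx.2.1, fun h => hx.2.2 (σ.injective (h.trans hσw.symm)),
        fun h => hx.1 (σ.injective h)⟩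
    rw [sum_insert (by simp [huv, Ne.symm hwu]), sum_pair (Ne.symm hwv)] at hk
    simp only [base, if_neg (show ¬ σ u = u from hu), if_neg hσv, hσw, if_neg (Ne.symm hwu)] at hk hother
    rw [hN u v huv, hE u v _ huv (Ne.symm hvu) (Ne.symm hσv),
      hE' u v w huv (Ne.symm hwu) (Ne.symm hwv)] at hk
    omega

theorem five_reps : ∀ a : Perm (Fin 5), a ≠ 1 →
    (∃ h : Perm (Fin 5), Perm.sign h = 1 ∧
      nfix (a * finRotate 5) ≠ nfix (a * (h * finRotate 5 * h⁻¹))) ∧
    (∃ h : Perm (Fin 5), Perm.sign h = 1 ∧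
      nfix (a * (Equiv.swap 0 1 * Equiv.swap 2 3 * Equiv.swap 3 4)) ≠
        nfix (a * (h * (Equiv.swap 0 1 * Equiv.swap 2 3 * Equiv.swap 3 4) * h⁻¹))) := by
  decide +kernel

theorem five_conj : ∀ b : Perm (Fin 5), (∀ x, b x ≠ x) → ∃ t : Perm (Fin 5),
    t * b * t⁻¹ = finRotate 5 ∨ t * b * t⁻¹ = Equiv.swap 0 1 * Equiv.swap 2 3 * Equiv.swap 3 4 := by
  decide +kernel

theorem nfix_conj (t g : Perm (Fin n)) : nfix (t * g * t⁻¹) = nfix g := by
  rw [mul_assoc, nfix_comm, mul_assoc, inv_mul_cancel, mul_one]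

theorem not_const_five {a b : Perm (Fin 5)} (hb : ∀ x, b x ≠ x) (ha : a ≠ 1) (K : ℕ) :
    ¬ Const a b K := by
  intro hK
  obtain ⟨t, ht⟩ := five_conj b hb
  have hta : t * a * t⁻¹ ≠ 1 := fun h => ha (conj_eq_one_iff.mp h)
  have main : ∀ c h : Perm (Fin 5), t * b * t⁻¹ = c → Perm.sign h = 1 →
      nfix (t * a * t⁻¹ * c) = nfix (t * a * t⁻¹ * (h * c * h⁻¹)) := by
    rintro c h rfl hh
    have h1 := hK 1 (by simp [evens])
    have h2 := hK (t⁻¹ * h * t) (by simp [evens, hh, mul_comm, mul_assoc])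
    rw [show t * a * t⁻¹ * (t * b * t⁻¹) = t * (a * (1 * b * 1⁻¹)) * t⁻¹ by group,
      show t * a * t⁻¹ * (h * (t * b * t⁻¹) * h⁻¹) =
        t * (a * (t⁻¹ * h * t * b * (t⁻¹ * h * t)⁻¹)) * t⁻¹ by group,
      nfix_conj, nfix_conj, h1, h2]
  rcases ht with ht | ht
  · obtain ⟨h, hh, hne⟩ := (five_reps _ hta).1
    exact hne (main _ h ht hh)
  · obtain ⟨h, hh, hne⟩ := (five_reps _ hta).2
    exact hne (main _ h ht hh)

theorem exists_ne (hn : 5 ≤ n) {a b : Perm (Fin n)} (ha : a ≠ 1) (hb : b ≠ 1) :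
    ∃ h h' : Perm (Fin n), h ∈ alternatingGroup (Fin n) ∧ h' ∈ alternatingGroup (Fin n) ∧
      nfix (a * (h * b * h⁻¹)) ≠ nfix (a * (h' * b * h'⁻¹)) := by
  by_contra hcon
  push Not at hcon
  have hK : Const a b (nfix (a * b)) := fun h hh => by
    have := hcon h 1 (mem_evens.mp hh) (one_mem _)
    simpa using this
  have hK' : Const b a (nfix (a * b)) := fun h hh => by
    have := hK h⁻¹ (by simpa [evens] using hh)
    rw [inv_inv] at this
    rw [← this, nfix_comm, ← nfix_conj h⁻¹ (h * a * h⁻¹ * b)]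
    congr 1
    group
  by_cases hfa : ∃ p, a p = p
  · by_cases hfb : ∃ q, b q = q
    · exact not_const_fixed hn hfa.choose_spec hfb.choose_spec ha hb _ hK
    · push Not at hfb
      rcases Nat.lt_or_ge n 6 with h6 | h6
      · obtain rfl : n = 5 := by omega
        exact not_const_five hfb ha _ hK
      · exact not_const_fpf h6 hfb ha _ hK
  · push Not at hfa
    rcases Nat.lt_or_ge n 6 with h6 | h6
    · obtain rfl : n = 5 := by omega
      exact not_const_five hfa hb _ hK'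
    · exact not_const_fpf h6 hfa hb _ hK'

end CfsgLib.H29.FixProduct
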