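import Mathlib
import Cfsg.Agent.PLocalBasics.CyclicIndex
import Cfsg.Agent.S3975

set_option autoImplicit false
open scoped Classical commutatorElement

namespace Cfsg.Agent.H29.Kulakoff

variable {G : Type*} [Group G] [Finite G] {p : ℕ} [hpF : Fact p.Prime]

noncomputable local instance : Fintype (Subgroup G) := Fintype.ofFinite _

/-- The subgroups of order `n` between `D` and `M`. -/
noncomputable def between (D M : Subgroup G) (n : ℕ) : Finset (Subgroup G) :=
  Finset.univ.filter fun K => D ≤ K ∧ K ≤ M ∧ Nat.card K = n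

theorem mem_between {D M K : Subgroup G} {n : ℕ} :
    K ∈ between D M n ↔ D ≤ K ∧ K ≤ M ∧ Nat.card K = n := by simp [between]

theorem between_bot (M : Subgroup G) (n : ℕ) :
    (between ⊥ M n).card = Nat.card {S : Subgroup M // Nat.card S = n} := by
  rw [← Nat.card_eq_finsetCard]
  refine Nat.card_congr
    { toFun := fun K => ⟨K.1.subgroupOf M, ?_⟩
      invFun := fun S => ⟨S.1.map M.subtype, mem_between.2 ⟨bot_le, Subgroup.map_subtype_le _,
        (Subgroup.card_map_of_injective M.subtype_injective).trans S.2⟩⟩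
      left_inv := fun K => Subtype.ext (Subgroup.map_subgroupOf_eq_of_le (mem_between.1 K.2).2.1)
      right_inv := fun S => Subtype.ext ?_ }
  · obtain ⟨-, hKM, hK⟩ := mem_between.1 K.2
    exact (Nat.card_congr (Subgroup.subgroupOfEquivOfLe hKM).toEquiv).trans hK
  · exact Subgroup.comap_map_eq_self_of_injective M.subtype_injective _

/-- The correspondence theorem, counted. -/
theorem between_eq_quotient (D : Subgroup G) [D.Normal] (M : Subgroup G) (hDM : D ≤ M) (n : ℕ) :
    (between D M (Nat.card D * n)).card =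
      Nat.card {S : Subgroup (M ⧸ D.subgroupOf M) // Nat.card S = n} := by
  have hD : Nat.card (D.subgroupOf M) = Nat.card D :=
    Nat.card_congr (Subgroup.subgroupOfEquivOfLe hDM).toEquiv
  let π := QuotientGroup.mk' (D.subgroupOf M)
  have hsurj : Function.Surjective π := QuotientGroup.mk'_surjective _
  have hcard : ∀ S : Subgroup (M ⧸ D.subgroupOf M),
      Nat.card (S.comap π) = Nat.card D * Nat.card S := by
    intro S
    have h1 := (S.comap π).card_mul_index
    rw [Subgroup.index_comap_of_surjective S hsurj, ← (D.subgroupOf M).card_mul_index, hD,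
      Subgroup.index_eq_card (D.subgroupOf M), ← S.card_mul_index, ← mul_assoc] at h1
    exact Nat.eq_of_mul_eq_mul_right (Nat.pos_of_ne_zero Subgroup.index_ne_zero_of_finite) h1
  have hpos : 0 < Nat.card D := Nat.card_pos
  rw [← Nat.card_eq_finsetCard]
  refine Nat.card_congr
    { toFun := fun K => ⟨(K.1.subgroupOf M).map π, ?_⟩
      invFun := fun S => ⟨(S.1.comap π).map M.subtype, mem_between.2
        ⟨fun x hx => ⟨⟨x, hDM hx⟩, ?_, rfl⟩, Subgroup.map_subtype_le _, ?_⟩⟩
      left_inv := fun K => Subtype.ext ?_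
      right_inv := fun S => Subtype.ext ?_ }
  · obtain ⟨hDK, hKM, hK⟩ := mem_between.1 K.2
    have h1 := hcard ((K.1.subgroupOf M).map π)
    rw [Subgroup.comap_map_eq, QuotientGroup.ker_mk', sup_eq_left.2 (fun x hx => hDK hx),
      Nat.card_congr (Subgroup.subgroupOfEquivOfLe hKM).toEquiv, hK] at h1
    exact (Nat.eq_of_mul_eq_mul_left hpos h1).symm
  · change π ⟨x, hDM hx⟩ ∈ S.1
    rw [show π ⟨x, hDM hx⟩ = 1 from (QuotientGroup.eq_one_iff _).2 hx]
    exact one_mem _
  · rw [Subgroup.card_map_of_injective M.subtype_injective, hcard, S.2]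
  · obtain ⟨hDK, hKM, hK⟩ := mem_between.1 K.2
    change (((K.1.subgroupOf M).map π).comap π).map M.subtype = K.1
    rw [Subgroup.comap_map_eq, QuotientGroup.ker_mk', sup_eq_left.2 (fun x hx => hDK hx),
      Subgroup.map_subgroupOf_eq_of_le hKM]
  · change (((S.1.comap π).map M.subtype).subgroupOf M).map π = S.1
    rw [show ((S.1.comap π).map M.subtype).subgroupOf M = S.1.comap π from
      Subgroup.comap_map_eq_self_of_injective M.subtype_injective _,
      Subgroup.map_comap_eq_self_of_surjective hsurj]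

/-- Intermediate subgroups of prescribed order number `1` modulo `p`. -/
theorem between_modEq_one {D M : Subgroup G} [D.Normal] (hDM : D ≤ M) {d j e : ℕ}
    (hD : Nat.card D = p ^ d) (hM : Nat.card M = p ^ e) (hdj : d ≤ j) (hje : j ≤ e) :
    (between D M (p ^ j)).card ≡ 1 [MOD p] := by
  have h1 : p ^ j = Nat.card D * p ^ (j - d) := by
    rw [hD, ← pow_add]; congr 1; omega
  have h2 : Nat.card (M ⧸ D.subgroupOf M) = p ^ (e - d) := by
    have h3 := (D.subgroupOf M).card_eq_card_quotient_mul_card_subgroup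
    rw [hM, Nat.card_congr (Subgroup.subgroupOfEquivOfLe hDM).toEquiv, hD,
      show p ^ e = p ^ (e - d) * p ^ d by rw [← pow_add]; congr 1; omega] at h3
    exact (Nat.eq_of_mul_eq_mul_right (pow_pos hpF.out.pos _) h3).symm
  rw [h1, between_eq_quotient D M hDM]
  exact S3975.result p (j - d) hpF.out (h2 ▸ pow_dvd_pow p (by omega))

theorem card_prime_subgroups {Q : Type*} [Group Q] [Finite Q] (hQ : Nat.card Q = p ^ 2)
    (hexp : ∀ x : Q, x ^ p = 1) : Nat.card {H : Subgroup Q // Nat.card H = p} = p + 1 := by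
  have hp : p.Prime := hpF.out
  have := Fintype.ofFinite Q
  have := Fintype.ofFinite (Subgroup Q)
  have hord : ∀ x : Q, x ≠ 1 → orderOf x = p := fun x hx => orderOf_eq_prime (hexp x) hx
  rw [Nat.card_eq_fintype_card, Fintype.card_subtype]
  set T := Finset.univ.filter fun H : Subgroup Q => Nat.card H = p with hT
  have h := Finset.card_eq_sum_card_fiberwise (f := Subgroup.zpowers)
    (s := Finset.univ.erase (1 : Q)) (t := T) (fun x hx => Finset.mem_coe.2 (Finset.mem_filter.2
      ⟨Finset.mem_univ _, (Nat.card_zpowers x).trans (hord x (Finset.mem_erase.1 hx).1)⟩))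
  have hf : ∀ H ∈ T, ((Finset.univ.erase (1 : Q)).filter fun x => Subgroup.zpowers x = H).card =
      p - 1 := by
    intro H hH
    have hH' : Nat.card H = p := (Finset.mem_filter.1 hH).2
    have : (Finset.univ.filter fun x : Q => x ∈ H).card = p := by
      rw [← hH', Nat.card_eq_fintype_card, Fintype.card_subtype]
    rw [← this, ← Finset.card_erase_of_mem (show (1 : Q) ∈ Finset.univ.filter (· ∈ H) from
      Finset.mem_filter.2 ⟨Finset.mem_univ _, one_mem H⟩)]
    congr 1
    ext x
    simp only [Finset.mem_filter, Finset.mem_erase, Finset.mem_univ, and_true, true_and]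
    refine ⟨fun h => ⟨h.1, h.2 ▸ Subgroup.mem_zpowers x⟩, fun h => ⟨h.1, ?_⟩⟩
    exact Subgroup.eq_of_le_of_card_ge (Subgroup.zpowers_le.2 h.2)
      (by rw [hH', Nat.card_zpowers, hord x h.1])
  rw [Finset.sum_congr rfl hf, Finset.sum_const, smul_eq_mul,
    Finset.card_erase_of_mem (Finset.mem_univ _), Finset.card_univ, ← Nat.card_eq_fintype_card, hQ] at h
  have h2 : p ^ 2 - 1 = (p + 1) * (p - 1) := by
    simpa using Nat.sq_sub_sq p 1
  exact (Nat.eq_of_mul_eq_mul_right (by have := hp.two_le; omega) (h2.symm.trans h)).symm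

variable {m : ℕ} (hG : Nat.card G = p ^ m)
include hG

theorem index_of_card {K : Subgroup G} {j : ℕ} (hK : Nat.card K = p ^ j) : K.index = p ^ (m - j) := by
  have hj : j ≤ m := by
    have := Subgroup.card_le_card_group K
    rw [hK, hG] at this
    exact (Nat.pow_le_pow_iff_right hpF.out.one_lt).1 this
  have h := K.card_mul_index
  rw [hK, hG, show p ^ m = p ^ j * p ^ (m - j) by rw [← pow_add]; congr 1; omega] at h
  exact Nat.eq_of_mul_eq_mul_left (pow_pos hpF.out.pos _) h

theorem card_of_index {K : Subgroup G} {i : ℕ} (hK : K.index = p ^ i) :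
    Nat.card K = p ^ (m - i) := by
  have hi : i ≤ m := by
    have := Nat.le_of_dvd Nat.card_pos (K.index_dvd_card)
    rw [hK, hG] at this
    exact (Nat.pow_le_pow_iff_right hpF.out.one_lt).1 this
  have h := K.card_mul_index
  rw [hK, hG, show p ^ m = p ^ (m - i) * p ^ i by rw [← pow_add]; congr 1; omega] at h
  exact Nat.eq_of_mul_eq_mul_right (pow_pos hpF.out.pos _) h

theorem max_normal {M : Subgroup G} (hm : 1 ≤ m) (hM : Nat.card M = p ^ (m - 1)) : M.Normal :=
  (CfsgLib.Extraspecial.normal_of_index_eq (IsPGroup.of_card hG)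
    (by rw [index_of_card hG hM, show m - (m - 1) = 1 by omega, pow_one])).1

theorem max_props {M : Subgroup G} (hm : 1 ≤ m) (hM : Nat.card M = p ^ (m - 1)) :
    (∀ x : G, x ^ p ∈ M) ∧ commutator G ≤ M := by
  have := max_normal hG hm hM
  have hi : M.index = p := by rw [index_of_card hG hM, show m - (m - 1) = 1 by omega, pow_one]
  refine ⟨fun x => hi ▸ M.pow_index_mem x, ?_⟩
  have hc : IsCyclic (G ⧸ M) := isCyclic_of_prime_card ((Subgroup.index_eq_card M).symm.trans hi)
  rw [commutator_def, Subgroup.commutator_le]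
  intro x _ y _
  rw [← QuotientGroup.eq_one_iff]
  change QuotientGroup.mk' M ⁅x, y⁆ = 1
  rw [map_commutatorElement, commutatorElement_eq_one_iff_mul_comm]
  obtain ⟨g, hg⟩ := hc.exists_generator
  obtain ⟨i, hi'⟩ := Subgroup.mem_zpowers_iff.1 (hg (QuotientGroup.mk' M x))
  obtain ⟨j, hj'⟩ := Subgroup.mem_zpowers_iff.1 (hg (QuotientGroup.mk' M y))
  rw [← hi', ← hj', ← zpow_add, ← zpow_add, add_comm]

omit hG in
/-- The intersection of the subgroups of order `p ^ (m - 1)`. -/
noncomputable def phi (G : Type*) [Group G] (p m : ℕ) : Subgroup G :=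
  ⨅ M ∈ {M : Subgroup G | Nat.card M = p ^ (m - 1)}, M

omit hG [Finite G] hpF in
theorem phi_le {M : Subgroup G} (hM : Nat.card M = p ^ (m - 1)) : phi G p m ≤ M :=
  iInf₂_le M hM

theorem pow_mem_phi (hm : 1 ≤ m) (x : G) : x ^ p ∈ phi G p m := by
  simp only [phi, Subgroup.mem_iInf]
  exact fun M hM => (max_props hG hm hM).1 x

theorem commutator_le_phi (hm : 1 ≤ m) : commutator G ≤ phi G p m :=
  le_iInf₂ fun _ hM => (max_props hG hm hM).2

theorem normal_of_phi_le (hm : 1 ≤ m) {D : Subgroup G} (h : phi G p m ≤ D) : D.Normal :=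
  ⟨fun x hx g => by
    have h1 : ⁅g, x⁆ ∈ D :=
      h (commutator_le_phi hG hm (Subgroup.commutator_mem_commutator (Subgroup.mem_top g) (Subgroup.mem_top x)))
    have := D.mul_mem h1 hx
    rwa [commutatorElement_def, inv_mul_cancel_right] at this⟩

theorem exists_max_ge {D : Subgroup G} (hD : D ≠ ⊤) :
    ∃ M : Subgroup G, Nat.card M = p ^ (m - 1) ∧ D ≤ M := by
  obtain ⟨d, hd⟩ := IsPGroup.iff_card.1 ((IsPGroup.of_card hG).to_subgroup D)
  have hdm : d < m := by
    by_contra! hle
    exact hD (Subgroup.eq_top_of_card_eq D (le_antisymm (Subgroup.card_le_card_group D)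
      (by rw [hd, hG]; exact Nat.pow_le_pow_right hpF.out.pos hle)))
  exact Sylow.exists_subgroup_card_pow_prime_le p (hG ▸ pow_dvd_pow p (Nat.sub_le m 1)) D hd (by omega)

theorem phi_small (hnc : ¬ IsCyclic G) :
    2 ≤ m ∧ ∃ d, d + 2 ≤ m ∧ Nat.card (phi G p m) = p ^ d := by
  have hp : p.Prime := hpF.out
  have hm2 : 2 ≤ m := by
    by_contra! h
    rcases (show m = 0 ∨ m = 1 by omega) with rfl | rfl
    · rw [pow_zero, Nat.card_eq_one_iff_unique] at hG
      have := hG.1
      exact hnc inferInstance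
    · exact hnc (isCyclic_of_prime_card (hG.trans (pow_one p)))
  refine ⟨hm2, ?_⟩
  obtain ⟨M, hM⟩ := Sylow.exists_subgroup_card_pow_prime p (G := G) (n := m - 1)
    (hG ▸ pow_dvd_pow p (Nat.sub_le m 1))
  obtain ⟨x, hx⟩ : ∃ x, x ∉ M := by
    by_contra! h
    have : Nat.card M = Nat.card G := by
      rw [(eq_top_iff.2 fun x _ => h x : M = ⊤), Subgroup.card_top]
    rw [hM, hG] at this
    have := Nat.pow_right_injective hp.two_le this
    omega
  have hx2 : Subgroup.zpowers x ≠ ⊤ := fun h => hnc ⟨⟨x, fun y =>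
    (h.symm ▸ Subgroup.mem_top y : y ∈ Subgroup.zpowers x)⟩⟩
  obtain ⟨M', hM', hxM'⟩ := exists_max_ge hG hx2
  obtain ⟨d, hd⟩ := IsPGroup.iff_card.1 ((IsPGroup.of_card hG).to_subgroup (phi G p m))
  refine ⟨d, ?_, hd⟩
  have hlt : phi G p m < M := by
    refine lt_of_le_of_ne (phi_le hM) fun he => hx ?_
    have hle : M ≤ M' := he ▸ phi_le hM'
    have heq : M = M' := Subgroup.eq_of_le_of_card_ge hle (by rw [hM, hM'])
    exact heq ▸ hxM' (Subgroup.mem_zpowers x)
  have := Set.ncard_lt_ncard (SetLike.coe_ssubset_coe.2 hlt) (Set.toFinite _)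
  rw [← Nat.card_coe_set_eq, ← Nat.card_coe_set_eq] at this
  change Nat.card (phi G p m) < Nat.card M at this
  rw [hd, hM] at this
  have := (Nat.pow_lt_pow_iff_right hp.one_lt).1 this
  omega

/-- `p + 1` maximal subgroups contain a given subgroup of index `p ^ 2` above `phi`. -/
theorem card_above (hm : 2 ≤ m) {K : Subgroup G} (hK : phi G p m ≤ K)
    (hKc : Nat.card K = p ^ (m - 2)) : (between K ⊤ (p ^ (m - 1))).card = p + 1 := by
  have := normal_of_phi_le hG (by omega) hK
  rw [show p ^ (m - 1) = Nat.card K * p by rw [hKc, ← pow_succ]; congr 1; omega,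
    between_eq_quotient K ⊤ le_top]
  apply card_prime_subgroups
  · rw [← Subgroup.index_eq_card]
    have h := index_of_card hG hKc
    rw [show m - (m - 2) = 2 by omega] at h
    rw [← h]
    change K.relIndex ⊤ = K.index
    exact Subgroup.relIndex_top_right K
  · intro x
    obtain ⟨x, rfl⟩ := QuotientGroup.mk'_surjective _ x
    rw [← map_pow]
    exact (QuotientGroup.eq_one_iff _).2 (Subgroup.mem_subgroupOf.2
      (hK (pow_mem_phi hG (by omega) (x : G))))

/-- The maximal subgroups over `D`, modulo `p ^ 2`. -/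
theorem above_modEq {D : Subgroup G} (hm : 2 ≤ m) (hD : phi G p m ≤ D) {d : ℕ}
    (hDc : Nat.card D = p ^ d) (hd : d + 2 ≤ m) :
    (between D ⊤ (p ^ (m - 1))).card ≡ 1 + p [MOD p ^ 2] := by
  have hp : p.Prime := hpF.out
  have := normal_of_phi_le hG (by omega) hD
  obtain ⟨M₀, hM₀, hDM₀⟩ := exists_max_ge hG (D := D) (fun h => by
    rw [h, Subgroup.card_top, hG] at hDc
    have := Nat.pow_right_injective hp.two_le hDc
    omega)
  set A := between D ⊤ (p ^ (m - 1)) with hA
  set B := between D M₀ (p ^ (m - 2)) with hB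
  have hM₀A : M₀ ∈ A := mem_between.2 ⟨hDM₀, le_top, hM₀⟩
  have hmap : Set.MapsTo (fun M => M ⊓ M₀) ↑(A.erase M₀) (↑B : Set (Subgroup G)) := by
    intro M hM
    obtain ⟨hne, hM⟩ := Finset.mem_erase.1 hM
    obtain ⟨hDM, -, hMc⟩ := mem_between.1 hM
    refine Finset.mem_coe.2 (mem_between.2 ⟨le_inf hDM hDM₀, inf_le_right, ?_⟩)
    obtain ⟨i, hi⟩ := (IsPGroup.of_card hG).index (M ⊓ M₀)
    have h1 := Subgroup.index_inf_le (H := M) (K := M₀)
    rw [hi, index_of_card hG hMc, index_of_card hG hM₀, show m - (m - 1) = 1 by omega, pow_one,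
      ← pow_two] at h1
    have h2 := (Nat.pow_le_pow_iff_right hp.one_lt).1 h1
    have h3 := card_of_index hG hi
    by_cases hi2 : i = 2
    · rw [h3, hi2]
    exfalso
    apply hne
    have h4 : Nat.card M ≤ Nat.card ↥(M ⊓ M₀) := by
      rw [h3, hMc]; exact Nat.pow_le_pow_right hp.pos (by omega)
    have h5 : M ≤ M₀ :=
      (Subgroup.eq_of_le_of_card_ge (inf_le_left : M ⊓ M₀ ≤ M) h4).symm.le.trans inf_le_right
    exact Subgroup.eq_of_le_of_card_ge h5 (by rw [hMc, hM₀])
  have hfib : ∀ K ∈ B, ((A.erase M₀).filter fun M => M ⊓ M₀ = K).card = p := by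
    intro K hK
    obtain ⟨hDK, hKM₀, hKc⟩ := mem_between.1 hK
    have e : ((A.erase M₀).filter fun M => M ⊓ M₀ = K) = (between K ⊤ (p ^ (m - 1))).erase M₀ := by
      ext M
      simp only [Finset.mem_filter, Finset.mem_erase, hA, mem_between, le_top, true_and]
      constructor
      · rintro ⟨⟨hne, -, hMc⟩, rfl⟩; exact ⟨hne, inf_le_left, hMc⟩
      · rintro ⟨hne, hKM, hMc⟩
        refine ⟨⟨hne, hDK.trans hKM, hMc⟩, (Subgroup.eq_of_le_of_card_ge (le_inf hKM hKM₀) ?_).symm⟩
        have h := hmap (Finset.mem_coe.2 (Finset.mem_erase.2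
          ⟨hne, mem_between.2 ⟨hDK.trans hKM, le_top, hMc⟩⟩))
        rw [(mem_between.1 h).2.2, hKc]
    rw [e, Finset.card_erase_of_mem (mem_between.2 ⟨hKM₀, le_top, hM₀⟩),
      card_above hG hm (hD.trans hDK) hKc]
    omega
  have hcard : (A.erase M₀).card = B.card * p := by
    rw [Finset.card_eq_sum_card_fiberwise hmap, Finset.sum_congr rfl hfib, Finset.sum_const,
      smul_eq_mul]
  have hA1 : A.card = 1 + B.card * p := by
    rw [← hcard, Finset.card_erase_of_mem hM₀A]
    have := Finset.card_pos.2 ⟨M₀, hM₀A⟩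
    omega
  have hB1 := between_modEq_one (D := D) (M := M₀) hDM₀ hDc hM₀ (j := m - 2) (by omega) (by omega)
  rw [hA1, pow_two]
  simpa using (Nat.ModEq.mul_right' p hB1).add_left 1

/-- Hall's enumeration principle modulo `p ^ 2`. -/
theorem enumeration (hnc : ¬ IsCyclic G) {k : ℕ} (hkm : k < m) :
    ∑ M ∈ between (⊥ : Subgroup G) ⊤ (p ^ (m - 1)), (between ⊥ M (p ^ k)).card ≡
      (between (⊥ : Subgroup G) ⊤ (p ^ k)).card +
        p * ∑ K ∈ between (phi G p m) ⊤ (p ^ (m - 2)), (between ⊥ K (p ^ k)).card [MOD p ^ 2] := by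
  have hp : p.Prime := hpF.out
  obtain ⟨hm2, -⟩ := phi_small hG hnc
  set S := between (⊥ : Subgroup G) ⊤ (p ^ k) with hS
  have hcnt : ∀ F : Finset (Subgroup G), ∑ M ∈ F, (between ⊥ M (p ^ k)).card =
      ∑ X ∈ S, (F.filter fun M => X ≤ M).card := by
    intro F
    simp only [Finset.card_filter]
    rw [Finset.sum_comm]
    refine Finset.sum_congr rfl fun M _ => ?_
    rw [← Finset.card_filter]
    congr 1
    ext X
    simp [hS, mem_between, and_comm]
  rw [hcnt, hcnt, Finset.card_eq_sum_ones S, Finset.mul_sum, ← Finset.sum_add_distrib]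
  refine Nat.ModEq.sum fun X hX => ?_
  obtain ⟨-, -, hXc⟩ := mem_between.1 hX
  set D := X ⊔ phi G p m with hD
  have eA : (between (⊥ : Subgroup G) ⊤ (p ^ (m - 1))).filter (fun M => X ≤ M) = between D ⊤ (p ^ (m - 1)) := by
    ext M
    simp only [Finset.mem_filter, mem_between, bot_le, le_top, true_and, hD, sup_le_iff]
    exact ⟨fun h => ⟨⟨h.2, phi_le h.1⟩, h.1⟩, fun h => ⟨h.2, h.1.1⟩⟩
  have eB : (between (phi G p m) ⊤ (p ^ (m - 2))).filter (fun K => X ≤ K) =
      between D ⊤ (p ^ (m - 2)) := by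
    ext K
    simp only [Finset.mem_filter, mem_between, le_top, true_and, hD, sup_le_iff]
    exact ⟨fun h => ⟨⟨h.2, h.1.1⟩, h.1.2⟩, fun h => ⟨⟨h.1.2, h.2⟩, h.1.1⟩⟩
  rw [eA, eB]
  obtain ⟨M, hM, hXM⟩ := exists_max_ge hG (D := X) (fun h => by
    rw [h, Subgroup.card_top, hG] at hXc
    have := Nat.pow_right_injective hp.two_le hXc
    omega)
  have hDM : D ≤ M := sup_le hXM (phi_le hM)
  obtain ⟨d, hd⟩ := IsPGroup.iff_card.1 ((IsPGroup.of_card hG).to_subgroup D)
  have hd1 : d ≤ m - 1 := (Nat.pow_le_pow_iff_right hp.one_lt).1 (hd ▸ hM ▸ Subgroup.card_le_of_le hDM)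
  have hDn := normal_of_phi_le hG (by omega) (le_sup_right : phi G p m ≤ D)
  by_cases hd2 : d + 2 ≤ m
  · refine (above_modEq hG hm2 le_sup_right hd hd2).trans (Nat.ModEq.add_left 1 ?_)
    have h := between_modEq_one (D := D) (M := (⊤ : Subgroup G)) le_top hd
      (Subgroup.card_top.trans hG) (j := m - 2) (by omega) (by omega)
    rw [pow_two]
    simpa using (Nat.ModEq.mul_left' p h).symm
  · have hdeq : Nat.card D = p ^ (m - 1) := by rw [hd]; congr 1; omega
    have hDM' : D = M := Subgroup.eq_of_le_of_card_ge hDM (by rw [hdeq, hM])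
    have e1 : between D ⊤ (p ^ (m - 1)) = {D} := by
      ext K
      simp only [mem_between, le_top, true_and, Finset.mem_singleton]
      exact ⟨fun h => (Subgroup.eq_of_le_of_card_ge h.1 (by rw [hdeq, h.2])).symm,
        fun h => ⟨h ▸ le_rfl, h.symm ▸ hdeq⟩⟩
    have e2 : between D ⊤ (p ^ (m - 2)) = ∅ := by
      ext K
      simp only [mem_between, le_top, true_and, Finset.notMem_empty, iff_false, not_and]
      intro hle hc
      have := Subgroup.card_le_of_le hle
      rw [hc, hdeq] at this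
      have := (Nat.pow_le_pow_iff_right hp.one_lt).1 this
      omega
    rw [e1, e2]
    simp
    rfl

/-- The form of the enumeration used for the induction. -/
theorem enumeration' (hnc : ¬ IsCyclic G) {k : ℕ} (hk : k + 2 ≤ m) :
    ∑ M ∈ between (⊥ : Subgroup G) ⊤ (p ^ (m - 1)), (between ⊥ M (p ^ k)).card ≡
      (between (⊥ : Subgroup G) ⊤ (p ^ k)).card + p [MOD p ^ 2] := by
  refine (enumeration hG hnc (by omega)).trans (Nat.ModEq.add_left _ ?_)
  obtain ⟨hm2, d, hd, hdc⟩ := phi_small hG hnc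
  have := normal_of_phi_le hG (by omega) (le_refl (phi G p m))
  have hB := between_modEq_one (D := phi G p m) (M := (⊤ : Subgroup G)) le_top hdc
    (Subgroup.card_top.trans hG) (j := m - 2) (by omega) (by omega)
  have hsum : ∑ K ∈ between (phi G p m) ⊤ (p ^ (m - 2)), (between ⊥ K (p ^ k)).card ≡
      ∑ K ∈ between (phi G p m) ⊤ (p ^ (m - 2)), 1 [MOD p] := by
    refine Nat.ModEq.sum fun K hK => ?_
    rw [between_bot]
    exact S3975.result p k hpF.out ((mem_between.1 hK).2.2 ▸ pow_dvd_pow p (by omega))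
  rw [← Finset.card_eq_sum_ones] at hsum
  rw [pow_two]
  simpa using Nat.ModEq.mul_left' p (hsum.trans hB)

theorem max_count (hnc : ¬ IsCyclic G) :
    (between (⊥ : Subgroup G) ⊤ (p ^ (m - 1))).card ≡ 1 + p [MOD p ^ 2] := by
  obtain ⟨hm2, d, hd, hdc⟩ := phi_small hG hnc
  have e : between (⊥ : Subgroup G) ⊤ (p ^ (m - 1)) = between (phi G p m) ⊤ (p ^ (m - 1)) := by
    ext M
    simp only [mem_between, bot_le, le_top, true_and]
    exact ⟨fun h => ⟨phi_le h, h⟩, fun h => h.2⟩
  rw [e]
  exact above_modEq hG hm2 le_rfl hdc hd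

end Cfsg.Agent.H29.Kulakoff
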