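import Mathlib
import Cfsg.Agent.H29.KulakoffBase
import Cfsg.Agent.Hall.Taussky
import Cfsg.Agent.PLocalBasics.CyclicIndex

set_option autoImplicit false
open scoped Classical commutatorElement

namespace Cfsg.Agent.H29.Kulakoff

universe u

variable {G : Type u} [Group G] [Finite G]

noncomputable local instance : Fintype (Subgroup G) := Fintype.ofFinite _

/-- Maximal class, for `2`-groups of order at least `8`. -/
def IsMC (G : Type*) [Group G] (p m : ℕ) : Prop :=
  p = 2 ∧ 3 ≤ m ∧ (commutator G).index = 4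

theorem mem_zpowers_zpow_odd {a : G} {m : ℕ} (ha : orderOf a = 2 ^ m) {k : ℤ} (hk : Odd k) :
    a ∈ Subgroup.zpowers (a ^ k) := by
  rw [mem_zpowers_zpow_iff, ha]
  have h2 : Nat.Coprime k.natAbs 2 := by
    rw [Nat.coprime_two_right]
    exact Int.natAbs_odd.2 hk
  exact h2.pow_right m

theorem not_cyclic_of_noncomm {x y : G} (h : x * y ≠ y * x) : ¬ IsCyclic G := fun hc => by
  obtain ⟨g, hg⟩ := hc.exists_generator
  obtain ⟨i, rfl⟩ := Subgroup.mem_zpowers_iff.1 (hg x)
  obtain ⟨j, rfl⟩ := Subgroup.mem_zpowers_iff.1 (hg y)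
  exact h (by rw [← zpow_add, ← zpow_add, add_comm])

/-- An element acting like an inversion on a cyclic subgroup of index two gives maximal class. -/
theorem mc_of_twist {n : ℕ} (hn : 3 ≤ n) (hG : Nat.card G = 2 ^ n) {x y : G}
    (hx : orderOf x = 2 ^ (n - 1)) {r : ℤ} (hr : y * x * y⁻¹ = x ^ r) (h4 : (4 : ℤ) ∣ r + 1) :
    commutator G = Subgroup.zpowers (x ^ 2) ∧ (commutator G).index = 4 := by
  haveI : Fact (Nat.Prime 2) := ⟨Nat.prime_two⟩
  obtain ⟨w, hw⟩ := h4
  have hox2 : orderOf (x ^ 2) = 2 ^ (n - 2) := by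
    rw [orderOf_pow' x two_ne_zero, hx, show 2 ^ (n - 1) = 2 * 2 ^ (n - 2) by
      rw [← pow_succ']; congr 1; omega, Nat.gcd_eq_right (dvd_mul_right 2 _),
      Nat.mul_div_cancel_left _ two_pos]
  have hc : x ^ (r - 1) ∈ commutator G := by
    have h := Subgroup.commutator_mem_commutator (Subgroup.mem_top y) (Subgroup.mem_top x)
    rwa [commutatorElement_def, hr, ← zpow_neg_one, ← zpow_add] at h
  have hle : Subgroup.zpowers (x ^ 2) ≤ commutator G := by
    rw [Subgroup.zpowers_le]
    have h := mem_zpowers_zpow_odd (a := x ^ 2) hox2 (k := 2 * w - 1) ⟨w - 1, by ring⟩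
    refine Subgroup.zpowers_le.2 ?_ h
    rw [← zpow_natCast, ← zpow_mul]
    convert hc using 2
    push_cast; linarith
  have hne : x * y ≠ y * x := by
    intro h
    have h1 : x ^ r = x := by rw [← hr, ← h, mul_inv_cancel_right]
    have h2 : x ^ (r - 1) = 1 := by rw [zpow_sub_one, h1, mul_inv_cancel]
    rw [← orderOf_dvd_iff_zpow_eq_one, hx] at h2
    have h3 : (4 : ℤ) ∣ r - 1 := by
      refine dvd_trans ?_ h2
      rw [show n - 1 = 2 + (n - 3) by omega, pow_add]
      push_cast
      exact dvd_mul_right _ _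
    omega
  obtain ⟨-, d, hd, hdc⟩ := phi_small (p := 2) hG (not_cyclic_of_noncomm hne)
  have hcard : Nat.card ↥(commutator G) ≤ 2 ^ (n - 2) :=
    (Subgroup.card_le_of_le (commutator_le_phi (p := 2) hG (by omega))).trans
      (hdc ▸ Nat.pow_le_pow_right two_pos (by omega))
  have heq : Subgroup.zpowers (x ^ 2) = commutator G :=
    Subgroup.eq_of_le_of_card_ge hle (by rwa [Nat.card_zpowers, hox2])
  refine ⟨heq.symm, ?_⟩
  have := index_of_card (p := 2) hG (K := commutator G) (j := n - 2)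
    (by rw [← heq, Nat.card_zpowers, hox2])
  rw [this, show n - (n - 2) = 2 by omega]
  norm_num

/-- The data of a group of maximal class. -/
theorem mc_data {n : ℕ} (hn : 3 ≤ n) (hG : Nat.card G = 2 ^ n) (hi : (commutator G).index = 4) :
    ∃ (a b : G) (r : ℤ), orderOf a = 2 ^ (n - 1) ∧ b ∉ Subgroup.zpowers a ∧
      (Subgroup.zpowers a).index = 2 ∧ b * a * b⁻¹ = a ^ r ∧ (4 : ℤ) ∣ r + 1 ∧
      (n = 3 → r = -1) := by
  obtain ⟨a, b, ha, hb, hidx, h | h | ⟨h4, -, h⟩⟩ := CfsgLib.Hall.Taussky.struct n hn hG hi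
  · exact ⟨a, b, -1, ha, hb, hidx, by rw [h.2, zpow_neg_one], by norm_num, fun _ => rfl⟩
  · exact ⟨a, b, -1, ha, hb, hidx, by rw [h.2, zpow_neg_one], by norm_num, fun _ => rfl⟩
  · refine ⟨a, b, ((2 ^ (n - 2) - 1 : ℕ) : ℤ), ha, hb, hidx, by rw [h, zpow_natCast], ?_, ?_⟩
    · rw [Nat.cast_sub Nat.one_le_two_pow, show n - 2 = 2 + (n - 4) by omega, pow_add]
      push_cast
      ring_nf
      exact dvd_mul_left _ _
    · omega

theorem between_cyclic_one {p e k : ℕ} [Fact p.Prime] {M : Subgroup G} [IsCyclic M]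
    (hM : Nat.card M = p ^ e) (hk : k ≤ e) : (between ⊥ M (p ^ k)).card = 1 := by
  have := Fintype.ofFinite M
  rw [between_bot, Nat.card_eq_one_iff_unique]
  constructor
  · constructor
    rintro ⟨S, hS⟩ ⟨T, hT⟩
    have key : ∀ R : Subgroup M, Nat.card R = p ^ k →
        (Finset.univ.filter fun x : M => x ∈ R) =
          (Finset.univ.filter fun x : M => x ^ (p ^ k) = 1) := by
      intro R hR
      refine Finset.eq_of_subset_of_card_le (fun x hx => ?_) ?_
      · simp only [Finset.mem_filter, Finset.mem_univ, true_and] at hx ⊢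
        rw [← hR]
        exact congrArg Subtype.val (pow_card_eq_one' (x := (⟨x, hx⟩ : R)))
      · refine (IsCyclic.card_pow_eq_one_le (pow_pos (Fact.out : p.Prime).pos k)).trans ?_
        rw [← hR, Nat.card_eq_fintype_card, Fintype.card_subtype]
    apply Subtype.ext
    ext x
    have := Finset.ext_iff.1 ((key S hS).trans (key T hT).symm) x
    simpa using this
  · obtain ⟨S, hS⟩ := Sylow.exists_subgroup_card_pow_prime p (G := M) (n := k)
      (hM ▸ pow_dvd_pow p hk)
    exact ⟨⟨S, hS⟩⟩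

theorem top_eq_bot (H : Subgroup G) (n : ℕ) :
    (between (G := H) ⊥ ⊤ n).card = (between ⊥ H n).card := by
  rw [between_bot, between_bot]
  refine Nat.card_congr
    { toFun := fun S => ⟨S.1.map (Subgroup.subtype _),
        (Subgroup.card_map_of_injective (Subgroup.subtype_injective _)).trans S.2⟩
      invFun := fun S => ⟨S.1.subgroupOf ⊤,
        (Nat.card_congr (Subgroup.subgroupOfEquivOfLe le_top).toEquiv).trans S.2⟩
      left_inv := fun S => Subtype.ext (Subgroup.comap_map_eq_self_of_injective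
        (Subgroup.subtype_injective _) _)
      right_inv := fun S => Subtype.ext (Subgroup.map_subgroupOf_eq_of_le le_top) }

theorem card_four_noncyclic {M : Subgroup G} (hM : Nat.card M = 4) (hnc : ¬ IsCyclic M) :
    (between ⊥ M 2).card ≡ 3 [MOD 4] := by
  haveI : Fact (Nat.Prime 2) := ⟨Nat.prime_two⟩
  have h := max_count (G := M) (p := 2) (m := 2) (by rw [hM]; norm_num) hnc
  rw [top_eq_bot] at h
  simpa using h

/-- The counts in a group of maximal class. -/
theorem mc_values : ∀ (n : ℕ) {G : Type u} [Group G] [Finite G], 3 ≤ n → Nat.card G = 2 ^ n →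
    (commutator G).index = 4 → ∀ k : ℕ, k + 2 ≤ n →
      (between (⊥ : Subgroup G) ⊤ (2 ^ k)).card ≡ 1 [MOD 4] := by
  haveI : Fact (Nat.Prime 2) := ⟨Nat.prime_two⟩
  intro n
  induction n with
  | zero => intros; omega
  | succ n IH =>
  intro G _ _ hn hG hi k hk
  obtain ⟨a, b, r, ha, hb, hidx, hr, h4, h3r⟩ := mc_data hn hG hi
  have hne : a * b ≠ b * a := by
    intro h
    have h1 : a ^ r = a := by rw [← hr, ← h, mul_inv_cancel_right]
    have h2 : a ^ (r - 1) = 1 := by rw [zpow_sub_one, h1, mul_inv_cancel]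
    rw [← orderOf_dvd_iff_zpow_eq_one, ha] at h2
    have h3 : (4 : ℤ) ∣ r - 1 := by
      refine dvd_trans ?_ h2
      rw [show n + 1 - 1 = 2 + (n - 2) by omega, pow_add]
      push_cast
      exact dvd_mul_right _ _
    omega
  have hnc := not_cyclic_of_noncomm hne
  obtain ⟨hcomm, -⟩ := mc_of_twist hn hG ha hr h4
  set R := Subgroup.zpowers (a ^ 2) with hR
  have hRc : Nat.card R = 2 ^ (n + 1 - 2) := by
    rw [← hcomm]
    exact card_of_index (p := 2) hG (by rw [hi]; norm_num)
  have hphi : phi G 2 (n + 1) = R := by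
    obtain ⟨-, d, hd, hdc⟩ := phi_small (p := 2) hG hnc
    refine (Subgroup.eq_of_le_of_card_ge (hcomm ▸ commutator_le_phi (p := 2) hG (by omega)) ?_).symm
    rw [hdc, hRc]; exact Nat.pow_le_pow_right two_pos (by omega)
  set A := Subgroup.zpowers a with hA
  have hAc : Nat.card A = 2 ^ (n + 1 - 1) := by rw [hA, Nat.card_zpowers, ha]
  have hsK : (between (phi G 2 (n + 1)) ⊤ (2 ^ (n + 1 - 2))) = {R} := by
    ext K
    simp only [mem_between, le_top, true_and, Finset.mem_singleton, hphi]
    exact ⟨fun h => (Subgroup.eq_of_le_of_card_ge h.1 (by rw [h.2, hRc])).symm,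
      fun h => ⟨h ▸ le_rfl, h.symm ▸ hRc⟩⟩
  have : IsCyclic R := Subgroup.isCyclic_zpowers _
  have henum := enumeration (p := 2) hG hnc (k := k) (by omega)
  rw [hsK, Finset.sum_singleton, between_cyclic_one hRc (by omega), mul_one] at henum
  have hb3 : (between (⊥ : Subgroup G) ⊤ (2 ^ (n + 1 - 1))).card = 3 := by
    rw [show (3 : ℕ) = 2 + 1 from rfl, ← card_above (p := 2) hG (by omega) (le_refl (phi G 2 (n + 1))) (by rw [hphi, hRc])]
    congr 1
    ext M
    simp only [mem_between, bot_le, le_top, true_and]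
    exact ⟨fun h => ⟨phi_le h, h⟩, fun h => h.2⟩
  -- the value on the two maximal subgroups other than `A`
  obtain ⟨v, hv, hvM⟩ : ∃ v, (v ≡ 1 [MOD 4] ∨ v ≡ 3 [MOD 4]) ∧
      ∀ M : Subgroup G, Nat.card M = 2 ^ (n + 1 - 1) → M ≠ A →
        (between ⊥ M (2 ^ k)).card ≡ v [MOD 4] := by
    have hy : ∀ M : Subgroup G, Nat.card M = 2 ^ (n + 1 - 1) → M ≠ A →
        a ^ 2 ∈ M ∧ ∃ y, y ∈ M ∧ y ∉ A ∧ ∃ i : ℤ, y = a ^ i * b := by
      intro M hM hMA
      refine ⟨(hphi ▸ phi_le hM : R ≤ M) (Subgroup.mem_zpowers _), ?_⟩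
      obtain ⟨y, hyM, hyA⟩ := SetLike.not_le_iff_exists.1 fun h : M ≤ A =>
        hMA (Subgroup.eq_of_le_of_card_ge h (by rw [hAc, hM]))
      refine ⟨y, hyM, hyA, ?_⟩
      have : y * b⁻¹ ∈ A := by
        rw [Subgroup.mul_mem_iff_of_index_two hidx, inv_mem_iff]
        exact ⟨fun h => absurd h hyA, fun h => absurd h hb⟩
      obtain ⟨i, hi⟩ := Subgroup.mem_zpowers_iff.1 this
      exact ⟨i, by rw [hi, inv_mul_cancel_right]⟩
    by_cases hn4 : 4 ≤ n + 1
    · refine ⟨if k + 3 ≤ n + 1 then 1 else 3, by split <;> simp [Nat.ModEq], fun M hM hMA => ?_⟩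
      obtain ⟨ha2, y, hyM, hyA, i, hi'⟩ := hy M hM hMA
      have hxo : orderOf (⟨a ^ 2, ha2⟩ : M) = 2 ^ (n - 1) := by
        rw [Subgroup.orderOf_mk, ← Nat.card_zpowers, ← hR, hRc]
        congr 1
      have hyr : (⟨y, hyM⟩ : M) * ⟨a ^ 2, ha2⟩ * (⟨y, hyM⟩ : M)⁻¹ = (⟨a ^ 2, ha2⟩ : M) ^ r := by
        apply Subtype.ext
        simp only [Subgroup.coe_mul, Subgroup.coe_inv, SubgroupClass.coe_zpow]
        rw [hi', ← zpow_natCast, show a ^ i * b * a ^ ((2 : ℕ) : ℤ) * (a ^ i * b)⁻¹ =
          a ^ i * (b * a ^ ((2 : ℕ) : ℤ) * b⁻¹) * (a ^ i)⁻¹ by group, ← conj_zpow, hr, ← zpow_mul,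
          ← zpow_neg, ← zpow_add, ← zpow_add, ← zpow_mul]
        congr 1; ring
      obtain ⟨-, hMmc⟩ := mc_of_twist (G := M) (n := n) (by omega) (by rw [hM]; congr 1) hxo hyr h4
      have hMn : Nat.card M = 2 ^ n := by rw [hM]; congr 1
      rw [← top_eq_bot]
      split_ifs with hk3
      · exact IH (by omega) hMn hMmc k (by omega)
      · have hk' : k = n - 1 := by omega
        subst hk'
        have hncM : ¬ IsCyclic M := by
          intro hc
          have hb : commutator M = ⊥ := by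
            rw [commutator_def, eq_bot_iff, Subgroup.commutator_le]
            intro x _ z _
            rw [Subgroup.mem_bot, commutatorElement_eq_one_iff_mul_comm]
            exact hc.isMulCommutative.is_comm.comm x z
          rw [hb, Subgroup.index_bot, hMn] at hMmc
          have : 2 ^ 3 ≤ 2 ^ n := Nat.pow_le_pow_right two_pos (by omega)
          omega
        exact max_count (p := 2) hMn hncM
    · have hn2 : n = 2 := by omega
      subst hn2
      have hr1 : r = -1 := h3r rfl
      have hsq : ∀ i : ℤ, (a ^ i * b) ^ 2 = b ^ 2 := fun i => by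
        rw [pow_two, show a ^ i * b * (a ^ i * b) = a ^ i * (b * a ^ i * b⁻¹) * (b * b) by group,
          ← conj_zpow, hr, hr1, ← zpow_mul, ← zpow_add, show i + -1 * i = 0 by ring, zpow_zero,
          one_mul, pow_two]
      have hexp : ∀ x : G, x ∈ A → x ^ 2 ∈ R := fun x hx => by
        obtain ⟨i, rfl⟩ := Subgroup.mem_zpowers_iff.1 hx
        exact ⟨i, by simp only [← zpow_natCast, ← zpow_mul, mul_comm]⟩
      have hk01 : k = 0 ∨ k = 1 := by omega
      rcases hk01 with rfl | rfl
      · refine ⟨1, Or.inl rfl, fun M hM _ => ?_⟩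
        have h1 : between ⊥ M (2 ^ 0) = {⊥} := by
          ext K
          simp only [mem_between, bot_le, true_and, pow_zero, Subgroup.card_eq_one,
            Finset.mem_singleton]
          exact ⟨fun h => h.2, fun h => ⟨h ▸ bot_le, h⟩⟩
        rw [h1]; rfl
      by_cases hb2 : b ^ 2 = 1
      · refine ⟨3, Or.inr rfl, fun M hM hMA => ?_⟩
        obtain ⟨ha2, y, hyM, hyA, i, hi'⟩ := hy M hM hMA
        refine card_four_noncyclic (by rw [hM]; norm_num) fun hc => hyA ?_
        -- two elements of order two in a cyclic group coincide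
        have hy2 : y ^ 2 = 1 := by rw [hi', hsq, hb2]
        have hy1 : y ≠ 1 := fun h => hyA (h ▸ one_mem A)
        have hoy : orderOf (⟨y, hyM⟩ : M) = 2 := by
          rw [Subgroup.orderOf_mk]; exact orderOf_eq_prime hy2 hy1
        have hoa : orderOf (⟨a ^ 2, ha2⟩ : M) = 2 := by
          rw [Subgroup.orderOf_mk, ← Nat.card_zpowers, ← hR, hRc]; norm_num
        have h := CfsgLib.RankOneP.zpowers_eq_of_orderOf_eq (hoa.trans hoy.symm)
        obtain ⟨j, hj⟩ := Subgroup.mem_zpowers_iff.1 (h ▸ Subgroup.mem_zpowers (⟨y, hyM⟩ : M))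
        have := congrArg Subtype.val hj
        simp only [SubgroupClass.coe_zpow] at this
        rw [← this]
        exact Subgroup.zpow_mem _ (Subgroup.pow_mem _ (Subgroup.mem_zpowers a) 2) _
      · refine ⟨1, Or.inl rfl, fun M hM hMA => ?_⟩
        obtain ⟨ha2, y, hyM, hyA, i, hi'⟩ := hy M hM hMA
        have hy4 : orderOf y = 2 ^ 2 := by
          refine orderOf_eq_prime_pow (by rw [pow_one, hi', hsq]; exact hb2) ?_
          rw [show (2 : ℕ) ^ (1 + 1) = 4 by norm_num, ← hM.trans (show (2 : ℕ) ^ (2 + 1 - 1) = 4 by norm_num)]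
          exact congrArg Subtype.val (pow_card_eq_one' (x := (⟨y, hyM⟩ : M)))
        have hc : IsCyclic M := isCyclic_of_orderOf_eq_card (⟨y, hyM⟩ : M)
          (by rw [Subgroup.orderOf_mk, hy4, hM])
        rw [between_cyclic_one (p := 2) hM (by omega)]
  -- sum up
  have hAmem : A ∈ between (⊥ : Subgroup G) ⊤ (2 ^ (n + 1 - 1)) :=
    mem_between.2 ⟨bot_le, le_top, hAc⟩
  have : IsCyclic A := Subgroup.isCyclic_zpowers _
  rw [← Finset.add_sum_erase _ _ hAmem, between_cyclic_one hAc (by omega)] at henum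
  have hsum : ∑ M ∈ (between (⊥ : Subgroup G) ⊤ (2 ^ (n + 1 - 1))).erase A,
      (between ⊥ M (2 ^ k)).card ≡ 2 * v [MOD 4] := by
    refine (Nat.ModEq.sum fun M hM => hvM M (mem_between.1 (Finset.mem_of_mem_erase hM)).2.2
      (Finset.ne_of_mem_erase hM)).trans ?_
    rw [Finset.sum_const, Finset.card_erase_of_mem hAmem, hb3, smul_eq_mul]
  unfold Nat.ModEq at *
  omega

/-- In a non-cyclic group which is not of maximal class, the cyclic maximal subgroups number a
multiple of `p`. -/
theorem cyclic_count {p m : ℕ} [hpF : Fact p.Prime] (hG : Nat.card G = p ^ m) (hm : 3 ≤ m)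
    (hnc : ¬ IsCyclic G) (hmc : ¬ IsMC G p m) :
    p ∣ ((between (⊥ : Subgroup G) ⊤ (p ^ (m - 1))).filter fun M : Subgroup G => IsCyclic M).card := by
  have hp : p.Prime := hpF.out
  set F := between (⊥ : Subgroup G) ⊤ (p ^ (m - 1)) with hF
  by_cases hex : ∃ C ∈ F, IsCyclic C
  swap
  · push Not at hex
    rw [Finset.filter_false_of_mem hex]; simp
  obtain ⟨C, hCF, hC⟩ := hex
  have hCc := (mem_between.1 hCF).2.2
  have hCi : C.index = p := by rw [index_of_card hG hCc, show m - (m - 1) = 1 by omega, pow_one]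
  have hN : p ∣ p ^ (m - 2) := dvd_pow_self p (by omega)
  -- the power map is a homomorphism
  have hpow : ∀ u v : G, (u * v) ^ p ^ (m - 2) = u ^ p ^ (m - 2) * v ^ p ^ (m - 2) := by
    by_cases hab : ∀ u v : G, u * v = v * u
    · exact fun u v => Commute.mul_pow (hab u v) _
    push Not at hab
    obtain ⟨a, b', ha, hb', hconj, hbig⟩ : ∃ a b : G, orderOf a = p ^ (m - 1) ∧
        b ∉ Subgroup.zpowers a ∧ b * a * b⁻¹ = a ^ (1 + p ^ (m - 2)) ∧ (p = 2 → 4 ≤ m) := by
      by_cases hp2 : p = 2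
      · subst hp2
        obtain ⟨a, b, ha, hb, h | h | ⟨h4, -, h⟩ | ⟨h4, -, h⟩⟩ :=
          CfsgLib.PLocalBasics.two_case m hm hG C hC hCi hab
        · exact absurd ⟨rfl, hm, (mc_of_twist hm hG ha (r := -1) (by rw [h.2, zpow_neg_one])
            (by norm_num)).2⟩ hmc
        · exact absurd ⟨rfl, hm, (mc_of_twist hm hG ha (r := -1) (by rw [h.2, zpow_neg_one])
            (by norm_num)).2⟩ hmc
        · exact ⟨a, b, ha, hb, h, fun _ => h4⟩
        · refine absurd ⟨rfl, hm, (mc_of_twist hm hG ha (r := ((2 ^ (m - 2) - 1 : ℕ) : ℤ))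
            (by rw [h, zpow_natCast]) ?_).2⟩ hmc
          rw [Nat.cast_sub Nat.one_le_two_pow, show m - 2 = 2 + (m - 4) by omega, pow_add]
          push_cast
          ring_nf
          exact dvd_mul_left _ _
      · obtain ⟨a, b, ha, -, hb, h⟩ := CfsgLib.PLocalBasics.odd_case hp2 hm hG C hC hCi hab
        exact ⟨a, b, ha, hb, h, fun h => absurd h hp2⟩
    set z := a ^ p ^ (m - 2) with hz
    have hzp : z ^ p = 1 := by
      rw [hz, ← pow_mul, ← pow_succ, show m - 2 + 1 = m - 1 by omega, ← ha, pow_orderOf_eq_one]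
    have hba : b' * a * b'⁻¹ = a * z := by rw [hconj, pow_add, pow_one]
    have hzb : b' * z = z * b' := by
      have h1 : b' * z * b'⁻¹ = z := by
        rw [hz, ← conj_pow, hba, Commute.mul_pow ((Commute.refl a).pow_right _), ← hz]
        obtain ⟨c, hc⟩ := hN
        rw [hc, pow_mul, hzp, one_pow, mul_one]
      exact mul_inv_eq_iff_eq_mul.1 h1
    have hgen : Subgroup.closure ({a, b'} : Set G) = ⊤ := by
      by_contra h
      obtain ⟨M, hM, hle⟩ := exists_max_ge hG h
      have hamem : a ∈ M := hle (Subgroup.subset_closure (by simp))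
      have heq : Subgroup.zpowers a = M := Subgroup.eq_of_le_of_card_ge (Subgroup.zpowers_le.2 hamem)
        (by rw [hM, Nat.card_zpowers, ha])
      exact hb' (heq ▸ hle (Subgroup.subset_closure (by simp)))
    have hzc : z ∈ Subgroup.center G := by
      have hle : Subgroup.closure ({a, b'} : Set G) ≤ Subgroup.centralizer ({z} : Set G) := by
        rw [Subgroup.closure_le]
        rintro x (rfl | rfl) <;> rw [SetLike.mem_coe, Subgroup.mem_centralizer_singleton_iff]
        · exact ((Commute.refl x).pow_right _).eq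
        · exact hzb
      rw [hgen] at hle
      exact Subgroup.mem_center_iff.2 fun g =>
        Subgroup.mem_centralizer_singleton_iff.1 (hle (Subgroup.mem_top g))
    haveI : (Subgroup.zpowers z).Normal := ⟨fun x hx g => by
      have := Subgroup.mem_center_iff.1 (Subgroup.zpowers_le.2 hzc hx) g
      rwa [this, mul_inv_cancel_right]⟩
    let π := QuotientGroup.mk' (Subgroup.zpowers z)
    have hQ : ∀ x y : G ⧸ Subgroup.zpowers z, x * y = y * x := by
      have h := Subgroup.isMulCommutative_closure (k := π '' ({a, b'} : Set G)) ?_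
      · intro x y
        have htop : Subgroup.closure (π '' ({a, b'} : Set G)) = ⊤ := by
          rw [← MonoidHom.map_closure, hgen, Subgroup.map_top_of_surjective _ (QuotientGroup.mk'_surjective _)]
        have hx : x ∈ Subgroup.closure (π '' ({a, b'} : Set G)) := htop ▸ Subgroup.mem_top x
        have hy : y ∈ Subgroup.closure (π '' ({a, b'} : Set G)) := htop ▸ Subgroup.mem_top y
        exact congrArg Subtype.val (h.is_comm.comm ⟨x, hx⟩ ⟨y, hy⟩)
      · have hπ : π b' * π a = π a * π b' := by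
          have h1 : π (b' * a * b'⁻¹) = π a := by
            rw [hba, map_mul, show π z = 1 from (QuotientGroup.eq_one_iff _).2 (Subgroup.mem_zpowers z), mul_one]
          rw [map_mul, map_mul, map_inv] at h1
          exact mul_inv_eq_iff_eq_mul.1 h1
        rintro _ ⟨x, (rfl | rfl), rfl⟩ _ ⟨y, (rfl | rfl), rfl⟩
        · rfl
        · exact hπ.symm
        · exact hπ
        · rfl
    intro u v
    have hc : ⁅v, u⁆ ∈ Subgroup.zpowers z := by
      refine (QuotientGroup.eq_one_iff _).1 ?_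
      change π ⁅v, u⁆ = 1
      rw [map_commutatorElement, commutatorElement_eq_one_iff_mul_comm]
      exact hQ _ _
    set c := ⁅v, u⁆ with hcdef
    have hcc : ∀ g : G, g * c = c * g := fun g =>
      Subgroup.mem_center_iff.1 (Subgroup.zpowers_le.2 hzc hc) g
    have hcp : c ^ p = 1 := by
      obtain ⟨j, hj⟩ := Subgroup.mem_zpowers_iff.1 hc
      rw [← hj, ← zpow_natCast, ← zpow_mul, mul_comm, zpow_mul, zpow_natCast, hzp, one_zpow]
    have hswap : ∀ k : ℕ, v ^ k * u = u * v ^ k * c ^ k := by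
      intro k
      induction k with
      | zero => simp
      | succ k ih =>
        rw [pow_succ', mul_assoc, ih, ← mul_assoc, ← mul_assoc,
          show v * u = c * u * v by rw [hcdef, commutatorElement_def]; group, pow_succ c k]
        rw [mul_assoc c u v, ← hcc]
        simp only [mul_assoc]
        congr 1; congr 1
        rw [← mul_assoc c (v ^ k), ← hcc (v ^ k), mul_assoc, ← pow_succ', pow_succ]
    have hform : ∀ k : ℕ, u ^ k * v ^ k * c ^ (k.choose 2) = (u * v) ^ k := by
      intro k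
      induction k with
      | zero => simp
      | succ k ih =>
        have hck : ∀ j : ℕ, ∀ g : G, c ^ j * g = g * c ^ j := fun j g =>
          ((show Commute g c from hcc g).pow_right j).eq.symm
        rw [pow_succ (u * v), ← ih, mul_assoc _ (c ^ _) (u * v), hck, ← mul_assoc _ (u * v) (c ^ _),
          ← mul_assoc _ u v, mul_assoc (u ^ k) (v ^ k) u, hswap, ← mul_assoc (u ^ k), ← mul_assoc (u ^ k),
          ← pow_succ, mul_assoc _ (c ^ k) v, hck k v, ← mul_assoc _ v (c ^ k), mul_assoc (u ^ (k + 1)) (v ^ k) v,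
          ← pow_succ, mul_assoc _ (c ^ k) (c ^ _), ← pow_add]
        congr 2
        rw [Nat.choose_succ_succ, Nat.choose_one_right]
    have hdvd : p ∣ (p ^ (m - 2)).choose 2 := by
      rw [Nat.choose_two_right]
      by_cases hp2 : p = 2
      · subst hp2
        have h4 := hbig rfl
        rw [show m - 2 = 2 + (m - 4) by omega, pow_add, mul_assoc,
          show (2 : ℕ) ^ 2 = 2 * 2 by norm_num, mul_assoc, Nat.mul_div_cancel_left _ two_pos]
        exact dvd_mul_right _ _
      · have hcop : Nat.Coprime p 2 := (Nat.coprime_primes hp Nat.prime_two).2 hp2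
        refine hcop.dvd_of_dvd_mul_right ?_
        rw [Nat.div_mul_cancel (even_iff_two_dvd.1 (Nat.even_mul_pred_self _))]
        exact hN.mul_right _
    obtain ⟨j, hj⟩ := hdvd
    rw [← hform, hj, pow_mul, hcp, one_pow, mul_one]
  let φ : G →* G := MonoidHom.mk' (fun u => u ^ p ^ (m - 2)) hpow
  obtain ⟨g, hg⟩ := hC.exists_generator
  have hg' : orderOf (g : G) = p ^ (m - 1) := by
    rw [Subgroup.orderOf_coe, orderOf_eq_card_of_forall_mem_zpowers hg, hCc]
  have hne : φ.ker ≠ ⊤ := by
    intro h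
    have h1 : (g : G) ^ p ^ (m - 2) = 1 := (h ▸ Subgroup.mem_top (g : G) : (g : G) ∈ φ.ker)
    have h2 := orderOf_dvd_of_pow_eq_one h1
    rw [hg', Nat.pow_dvd_pow_iff_le_right hp.one_lt] at h2
    omega
  have hker : Nat.card φ.ker = p ^ (m - 1) := by
    have hrange : φ.range ≤ Subgroup.zpowers ((g : G) ^ p ^ (m - 2)) := by
      rintro _ ⟨u, rfl⟩
      have huC : u ^ p ∈ C := (max_props hG (by omega) hCc).1 u
      obtain ⟨j, hj⟩ := Subgroup.mem_zpowers_iff.1 (hg ⟨u ^ p, huC⟩)
      have hj' : (g : G) ^ j = u ^ p := by simpa using congrArg Subtype.val hj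
      have hord : ((g : G) ^ j) ^ (p ^ (m - 2)) = 1 := by
        rw [hj', ← pow_mul, ← pow_succ', show m - 2 + 1 = m - 1 by omega]
        by_contra hne1
        have h1 : orderOf u ∣ p ^ m := hG ▸ orderOf_dvd_natCard u
        obtain ⟨i, him, hi⟩ := (Nat.dvd_prime_pow hp).1 h1
        by_cases hi' : i ≤ m - 1
        · exact hne1 (orderOf_dvd_iff_pow_eq_one.1 (hi ▸ pow_dvd_pow p hi'))
        · apply hnc
          exact isCyclic_of_orderOf_eq_card u (by rw [hi, hG]; congr 1; omega)
      rw [← zpow_natCast, ← zpow_mul, ← orderOf_dvd_iff_zpow_eq_one, hg'] at hord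
      have hpj : (p : ℤ) ∣ j := by
        have : ((p ^ (m - 2) : ℕ) : ℤ) * p ∣ ((p ^ (m - 2) : ℕ) : ℤ) * j := by
          rw [← Nat.cast_mul, ← pow_succ, show m - 2 + 1 = m - 1 by omega, mul_comm _ j]
          exact hord
        exact Int.dvd_of_mul_dvd_mul_left (Nat.cast_ne_zero.2 (pow_ne_zero _ hp.ne_zero)) this
      obtain ⟨i, rfl⟩ := hpj
      change u ^ p ^ (m - 2) ∈ _
      rw [show u ^ p ^ (m - 2) = (u ^ p) ^ p ^ (m - 3) by
        rw [← pow_mul, ← pow_succ', show m - 3 + 1 = m - 2 by omega], ← hj']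
      refine Subgroup.mem_zpowers_iff.2 ⟨i, ?_⟩
      simp only [← zpow_natCast, ← zpow_mul]
      congr 1; push_cast
      rw [show (p : ℤ) * i * (p : ℤ) ^ (m - 3) = ((p : ℤ) ^ (m - 3) * p) * i by ring, ← pow_succ,
        show m - 3 + 1 = m - 2 by omega]
    have hrc : Nat.card φ.range ≤ p := by
      refine (Subgroup.card_le_of_le hrange).trans ?_
      rw [Nat.card_zpowers]
      refine Nat.le_of_dvd hp.pos (orderOf_dvd_of_pow_eq_one ?_)
      rw [← pow_mul, ← pow_succ, show m - 2 + 1 = m - 1 by omega, ← hg', pow_orderOf_eq_one]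
    obtain ⟨i, hi⟩ := (IsPGroup.of_card hG).index φ.ker
    rw [← Subgroup.index_ker, hi] at hrc
    have hi1 : i = 1 := by
      rcases Nat.eq_zero_or_pos i with rfl | h
      · exact absurd (Subgroup.index_eq_one.1 (hi.trans (pow_zero p))) hne
      · have := (Nat.pow_le_pow_iff_right hp.one_lt).1 (hrc.trans (le_of_eq (pow_one p).symm))
        omega
    rw [card_of_index hG hi, hi1]
  have hKF : φ.ker ∈ F := mem_between.2 ⟨bot_le, le_top, hker⟩
  have heq : F.filter (fun M : Subgroup G => IsCyclic M) = F.erase φ.ker := by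
    ext M
    simp only [Finset.mem_filter, Finset.mem_erase]
    constructor
    · rintro ⟨hM, hMc⟩
      refine ⟨fun he => ?_, hM⟩
      obtain ⟨w, hw⟩ := hMc.exists_generator
      have h1 : orderOf (w : G) = p ^ (m - 1) := by
        rw [Subgroup.orderOf_coe, orderOf_eq_card_of_forall_mem_zpowers hw, (mem_between.1 hM).2.2]
      have h2 : (w : G) ^ p ^ (m - 2) = 1 := (he.le w.2 : (w : G) ∈ φ.ker)
      have h3 := orderOf_dvd_of_pow_eq_one h2
      rw [h1, Nat.pow_dvd_pow_iff_le_right hp.one_lt] at h3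
      omega
    · rintro ⟨hne', hM⟩
      refine ⟨hM, ?_⟩
      obtain ⟨w, hwM, hwk⟩ := SetLike.not_le_iff_exists.1 fun h : M ≤ φ.ker =>
        hne' (Subgroup.eq_of_le_of_card_ge h (by rw [hker, (mem_between.1 hM).2.2]))
      have hdvd : orderOf (⟨w, hwM⟩ : M) ∣ p ^ (m - 1) :=
        (mem_between.1 hM).2.2 ▸ orderOf_dvd_natCard _
      obtain ⟨i, hi, hio⟩ := (Nat.dvd_prime_pow hp).1 hdvd
      refine isCyclic_of_orderOf_eq_card (⟨w, hwM⟩ : M) ?_
      rw [hio, (mem_between.1 hM).2.2]
      by_contra hne2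
      apply hwk
      change w ^ p ^ (m - 2) = 1
      have hi2 : i ≤ m - 2 := by
        by_contra h
        exact hne2 (by congr 1; omega)
      rw [← orderOf_dvd_iff_pow_eq_one, ← Subgroup.orderOf_mk (H := M) w hwM, hio]
      exact pow_dvd_pow p hi2
  rw [heq, Finset.card_erase_of_mem hKF]
  have := max_count hG hnc
  rw [← hF] at this
  have h2 : F.card ≡ 1 [MOD p] := (this.of_dvd (dvd_pow_self p two_ne_zero)).trans (by simp [Nat.ModEq])
  exact (Nat.modEq_iff_dvd' (Finset.card_pos.2 ⟨_, hKF⟩)).1 h2.symm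

end Cfsg.Agent.H29.Kulakoff
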