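import Mathlib
import Cfsg.Agent.H29.Kulakoff
import Cfsg.Agent.S3975
import Cfsg.Agent.S3976

set_option autoImplicit false
open scoped Classical commutatorElement Pointwise

namespace Cfsg.Agent.H29.Kulakoff

universe u

variable {G : Type u} [Group G] [Finite G]

noncomputable local instance : Fintype (Subgroup G) := Fintype.ofFinite _

/-- A maximal subgroup of maximal class in a `2`-group not of maximal class: there are no cyclic
maximal subgroups, and the maximal subgroups of maximal class number an even number. -/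
theorem mc_count {m : ℕ} (hG : Nat.card G = 2 ^ m) (hm : 4 ≤ m) (hmc : ¬ IsMC G 2 m)
    {M : Subgroup G} (hM : Nat.card M = 2 ^ (m - 1)) (hMmc : (commutator M).index = 4) :
    (∀ C ∈ between (⊥ : Subgroup G) ⊤ (2 ^ (m - 1)), ¬ IsCyclic C) ∧
      2 ∣ ((between (⊥ : Subgroup G) ⊤ (2 ^ (m - 1))).filter
        fun N : Subgroup G => (commutator N).index = 4).card := by
  haveI : Fact (Nat.Prime 2) := ⟨Nat.prime_two⟩
  have hGi : (commutator G).index ≠ 4 := fun h => hmc ⟨rfl, by omega, h⟩
  obtain ⟨α, β, r, hα, hβ, hαi, hr, h4, -⟩ := mc_data (G := M) (n := m - 1) (by omega) hM hMmc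
  obtain ⟨hMc, -⟩ := mc_of_twist (G := M) (n := m - 1) (by omega) hM hα hr h4
  set a : G := (α : G) with ha
  set b : G := (β : G) with hb
  have hao : orderOf a = 2 ^ (m - 2) := by
    rw [ha, Subgroup.orderOf_coe, hα, show m - 1 - 1 = m - 2 by omega]
  have hab : b * a * b⁻¹ = a ^ r := by
    have := congrArg Subtype.val hr
    simpa using this
  set R := Subgroup.zpowers (a ^ 2) with hR
  have hRM : (commutator M).map M.subtype = R := by
    rw [hMc, MonoidHom.map_zpowers, hR, ha]
    rfl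
  have hMn : M.Normal := max_normal hG (by omega) hM
  have hRn : R.Normal := by
    rw [← hRM, Subgroup.map_subtype_commutator]
    exact Subgroup.commutator_normal M M
  have hoa2 : orderOf (a ^ 2) = 2 ^ (m - 3) := by
    rw [orderOf_pow' a two_ne_zero, hao, show 2 ^ (m - 2) = 2 * 2 ^ (m - 3) by
      rw [← pow_succ']; congr 1; omega, Nat.gcd_eq_right (dvd_mul_right 2 _),
      Nat.mul_div_cancel_left _ two_pos]
  have hRc : Nat.card R = 2 ^ (m - 3) := by rw [hR, Nat.card_zpowers, hoa2]
  have hne : ¬ IsCyclic G := by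
    intro hc
    have h1 : commutator M = ⊥ := by
      rw [commutator_def, eq_bot_iff, Subgroup.commutator_le]
      intro x _ y _
      rw [Subgroup.mem_bot, commutatorElement_eq_one_iff_mul_comm]
      exact hc.isMulCommutative.is_comm.comm (x : G) y |> Subtype.ext
    rw [h1, Subgroup.index_bot, hM] at hMmc
    have : 2 ^ 3 ≤ 2 ^ (m - 1) := Nat.pow_le_pow_right two_pos (by omega)
    omega
  have hGR : commutator G = R := by
    have hle : R ≤ commutator G := by
      rw [← hRM, Subgroup.map_subtype_commutator, commutator_def]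
      exact Subgroup.commutator_mono le_top le_top
    obtain ⟨-, d, hd, hdc⟩ := phi_small (p := 2) hG hne
    obtain ⟨e, he⟩ := IsPGroup.iff_card.1 ((IsPGroup.of_card hG).to_subgroup (commutator G))
    have he2 : e ≤ m - 2 := by
      have h := Subgroup.card_le_of_le (commutator_le_phi (p := 2) hG (by omega))
      rw [he, hdc] at h
      have := (Nat.pow_le_pow_iff_right (by norm_num : 1 < 2)).1 h
      omega
    refine (Subgroup.eq_of_le_of_card_ge hle ?_).symm
    rw [hRc, he]
    refine Nat.pow_le_pow_right two_pos ?_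
    by_contra hlt
    apply hGi
    rw [index_of_card hG he, show m - e = 2 by omega]
    norm_num
  have hGmem : ∀ u v : G, ⁅u, v⁆ ∈ R := fun u v => by
    rw [← hGR]; exact Subgroup.commutator_mem_commutator (Subgroup.mem_top u) (Subgroup.mem_top v)
  have hMsq : ∀ x ∈ M, x ^ 2 ∈ R := by
    intro x hx
    obtain ⟨-, d, hd, hdc⟩ := phi_small (G := M) (p := 2) hM (fun hc => hne (by
      exfalso
      have h1 : commutator M = ⊥ := by
        rw [commutator_def, eq_bot_iff, Subgroup.commutator_le]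
        intro u _ v _
        rw [Subgroup.mem_bot, commutatorElement_eq_one_iff_mul_comm]
        exact hc.isMulCommutative.is_comm.comm u v
      rw [h1, Subgroup.index_bot, hM] at hMmc
      have : 2 ^ 3 ≤ 2 ^ (m - 1) := Nat.pow_le_pow_right two_pos (by omega)
      omega))
    have hphiM : commutator M = phi M 2 (m - 1) := by
      refine Subgroup.eq_of_le_of_card_ge (commutator_le_phi (p := 2) hM (by omega)) ?_
      rw [hdc, card_of_index (p := 2) hM (K := commutator M) (i := 2) (by rw [hMmc]; norm_num)]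
      exact Nat.pow_le_pow_right two_pos (by omega)
    rw [← hRM]
    exact ⟨⟨x, hx⟩ ^ 2, hphiM ▸ pow_mem_phi (p := 2) hM (by omega) _, rfl⟩
  have hpar : ∀ i : ℤ, a ^ i ∈ R → Even i := by
    intro i hi
    obtain ⟨k, hk⟩ := Subgroup.mem_zpowers_iff.1 hi
    rw [← zpow_natCast, ← zpow_mul, ← mul_inv_eq_one, ← zpow_neg, ← zpow_add,
      ← orderOf_dvd_iff_zpow_eq_one, hao] at hk
    have h2 : (2 : ℤ) ∣ ((2 : ℕ) : ℤ) * k + -i := by
      refine dvd_trans ?_ hk
      rw [show m - 2 = 1 + (m - 3) by omega, pow_add]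
      push_cast; exact dvd_mul_right _ _
    rw [even_iff_two_dvd]
    push_cast at h2
    omega
  have hsq : ∀ x : G, x ^ 2 ∈ R := by
    intro x
    by_cases hxM : x ∈ M
    · exact hMsq x hxM
    have hMi : M.index = 2 := by
      rw [index_of_card hG hM, show m - (m - 1) = 1 by omega]; rfl
    have hx2 : x ^ 2 ∈ M := hMi ▸ M.pow_index_mem x
    obtain ⟨k, hk⟩ := Subgroup.mem_zpowers_iff.1 (hGmem x a)
    have hxa : x * a * x⁻¹ = a ^ (2 * k + 1) := by
      rw [zpow_add_one, zpow_mul]
      have hk' : (a ^ (2 : ℤ)) ^ k = ⁅x, a⁆ := by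
        rw [← hk, zpow_ofNat]
      rw [hk', commutatorElement_def]; group
    have hxxa : x ^ 2 * a * (x ^ 2)⁻¹ = a ^ ((2 * k + 1) * (2 * k + 1)) := by
      rw [zpow_mul, ← hxa, conj_zpow, hxa.symm.trans hxa, pow_two]
      rw [← hxa]; group
    have hmod : ∀ z : ℤ, a ^ z = 1 → (4 : ℤ) ∣ z := fun z hz => by
      rw [← orderOf_dvd_iff_zpow_eq_one, hao] at hz
      refine dvd_trans ?_ hz
      rw [show m - 2 = 2 + (m - 4) by omega, pow_add]
      push_cast; exact dvd_mul_right _ _
    have hxA : (⟨x ^ 2, hx2⟩ : M) ∈ Subgroup.zpowers α := by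
      by_contra hnA
      have h1 : (⟨x ^ 2, hx2⟩ : M) * β⁻¹ ∈ Subgroup.zpowers α := by
        rw [Subgroup.mul_mem_iff_of_index_two hαi, inv_mem_iff]
        exact ⟨fun h => absurd h hnA, fun h => absurd h hβ⟩
      obtain ⟨j, hj⟩ := Subgroup.mem_zpowers_iff.1 h1
      have hj' : a ^ j * b = x ^ 2 := by
        have := congrArg Subtype.val (eq_mul_inv_iff_mul_eq.1 hj)
        simpa using this
      have h2 : x ^ 2 * a * (x ^ 2)⁻¹ = a ^ r := by
        rw [← hj', show a ^ j * b * a * (a ^ j * b)⁻¹ = a ^ j * (b * a * b⁻¹) * (a ^ j)⁻¹ by group,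
          hab, ← zpow_add, ← zpow_neg, ← zpow_add]
        congr 1; ring
      have h3 := hmod ((2 * k + 1) * (2 * k + 1) - r) (by
        rw [zpow_sub, ← hxxa, h2, mul_inv_cancel])
      have h5 : (4 : ℤ) ∣ (2 * k + 1) * (2 * k + 1) - 1 := ⟨k * k + k, by ring⟩
      omega
    obtain ⟨i, hi⟩ := Subgroup.mem_zpowers_iff.1 hxA
    have hi' : a ^ i = x ^ 2 := by simpa using congrArg Subtype.val hi
    rcases Int.even_or_odd i with ⟨l, hl⟩ | hodd
    · rw [← hi', hl, ← two_mul, zpow_mul]
      exact Subgroup.mem_zpowers_iff.2 ⟨l, by rw [← zpow_natCast]; rfl⟩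
    exfalso
    obtain ⟨k', hk'⟩ := Subgroup.mem_zpowers_iff.1 (hGmem b x)
    have hcomm : Commute x a := by
      have hxi : Commute x (a ^ i) := by rw [hi']; exact Commute.self_pow x 2
      obtain ⟨j, hj⟩ := Subgroup.mem_zpowers_iff.1 (mem_zpowers_zpow_odd hao hodd)
      have := hxi.zpow_right j
      rwa [hj] at this
    have hbx : b * x * b⁻¹ = a ^ (2 * k') * x := by
      rw [zpow_mul, show (a ^ (2 : ℤ)) ^ k' = ⁅b, x⁆ from by rw [← hk', zpow_ofNat], commutatorElement_def]
      group
    have h1 : b * a ^ i * b⁻¹ = a ^ (4 * k' + i) := by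
      rw [hi', ← conj_pow, hbx, ((hcomm.symm).zpow_left _).mul_pow, ← hi', ← zpow_natCast,
        ← zpow_mul, ← zpow_add]
      congr 1; push_cast; ring
    rw [← conj_zpow, hab, ← zpow_mul] at h1
    have h3 := hmod (r * i - (4 * k' + i)) (by rw [zpow_sub, h1, mul_inv_cancel])
    obtain ⟨l, rfl⟩ := hodd
    obtain ⟨w, hw⟩ := h4
    have hr' : r = 4 * w - 1 := by omega
    subst hr'
    have e : (4 * w - 1) * (2 * l + 1) - (4 * k' + (2 * l + 1)) =
        4 * (w * (2 * l + 1) - k' - l) - 2 := by ring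
    omega
  constructor
  · intro C hC hcyc
    obtain ⟨g, hg⟩ := hcyc.exists_generator
    have hgo : orderOf (g : G) = 2 ^ (m - 1) := by
      rw [Subgroup.orderOf_coe, orderOf_eq_card_of_forall_mem_zpowers hg, (mem_between.1 hC).2.2]
    have h1 := Subgroup.card_le_of_le (Subgroup.zpowers_le.2 (hsq (g : G)))
    rw [Nat.card_zpowers, orderOf_pow' (g : G) two_ne_zero, hgo, hRc,
      show 2 ^ (m - 1) = 2 * 2 ^ (m - 2) by rw [← pow_succ']; congr 1; omega,
      Nat.gcd_eq_right (dvd_mul_right 2 _), Nat.mul_div_cancel_left _ two_pos] at h1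
    have := (Nat.pow_le_pow_iff_right (by norm_num : 1 < 2)).1 h1
    omega
  -- commutators modulo `R₁`
  set R₁ := Subgroup.zpowers (a ^ 4) with hR₁
  have hR₁R : R₁ ≤ R := Subgroup.zpowers_le.2 ⟨2, by simp only [← zpow_natCast, ← zpow_mul]; norm_num⟩
  have hR₁n : R₁.Normal := by
    refine ⟨fun x hx g => ?_⟩
    obtain ⟨k, rfl⟩ := Subgroup.mem_zpowers_iff.1 hx
    rw [← conj_zpow]
    refine Subgroup.zpow_mem _ ?_ k
    obtain ⟨s, hs⟩ := Subgroup.mem_zpowers_iff.1 (hRn.conj_mem _ (Subgroup.mem_zpowers (a ^ 2)) g)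
    refine ⟨s, ?_⟩
    have e : g * a ^ 4 * g⁻¹ = (g * a ^ 2 * g⁻¹) ^ 2 := by rw [conj_pow, ← pow_mul]
    rw [e, ← hs]
    simp only [← zpow_natCast, ← zpow_mul]
    congr 1; ring
  let π := QuotientGroup.mk' R₁
  let Q := G ⧸ R₁
  have hRbar : Nat.card (R.map π) ≤ 2 := by
    rw [hR, MonoidHom.map_zpowers, Nat.card_zpowers]
    refine Nat.le_of_dvd two_pos (orderOf_dvd_of_pow_eq_one ?_)
    rw [← map_pow, ← pow_mul]
    exact (QuotientGroup.eq_one_iff _).2 (Subgroup.mem_zpowers _)
  have hcentral : ∀ y ∈ R.map π, ∀ q : Q, q * y = y * q := by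
    intro y hy q
    obtain ⟨g, rfl⟩ := QuotientGroup.mk'_surjective R₁ q
    obtain ⟨r₀, hr₀, rfl⟩ := hy
    have hmem : π (g * r₀ * g⁻¹) ∈ R.map π := ⟨_, hRn.conj_mem _ hr₀ g, rfl⟩
    rw [map_mul, map_mul, map_inv] at hmem
    by_cases h1 : π r₀ = 1
    · rw [h1, mul_one, one_mul]
    by_contra hne'
    have h2 : π g * π r₀ * (π g)⁻¹ ≠ π r₀ := fun h => hne' (mul_inv_eq_iff_eq_mul.1 h)
    have h3 : π g * π r₀ * (π g)⁻¹ ≠ 1 := fun h => h1 (by
      rwa [conj_eq_one_iff] at h)
    have hsub : ({π r₀, π g * π r₀ * (π g)⁻¹, 1} : Finset Q) ⊆ (Set.toFinite (R.map π : Set Q)).toFinset := by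
      intro z hz
      simp only [Finset.mem_insert, Finset.mem_singleton] at hz
      rw [Set.Finite.mem_toFinset]
      rcases hz with rfl | rfl | rfl
      exacts [⟨r₀, hr₀, rfl⟩, hmem, one_mem _]
    have h4 := Finset.card_le_card hsub
    rw [← Set.ncard_eq_toFinset_card, ← Nat.card_coe_set_eq,
      Finset.card_eq_three.2 ⟨_, _, _, h2.symm, h1, h3, rfl⟩] at h4
    exact absurd (h4.trans hRbar) (by norm_num)
  have hcR : ∀ u v : G, ⁅π u, π v⁆ ∈ R.map π := fun u v =>
    ⟨_, hGmem u v, map_commutatorElement π u v⟩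
  let Cq : G → Subgroup G := fun u => (Subgroup.centralizer ({π u} : Set Q)).comap π
  have hCq : ∀ u v : G, v ∈ Cq u ↔ π v * π u = π u * π v := fun u v => by
    rw [Subgroup.mem_comap, Subgroup.mem_centralizer_singleton_iff]
  have hCqcard : ∀ u v : G, π v * π u ≠ π u * π v → Nat.card (Cq u) = 2 ^ (m - 1) := by
    intro u v huv
    let φ : G →* Q := MonoidHom.mk' (fun w => ⁅π w, π u⁆) (fun w w' => by
      simp only [map_mul]
      have hc := hcentral _ (hcR w' u)
      calc ⁅π w * π w', π u⁆ = π w * ⁅π w', π u⁆ * (π w)⁻¹ * ⁅π w, π u⁆ := by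
            simp only [commutatorElement_def]; group
        _ = ⁅π w', π u⁆ * ⁅π w, π u⁆ := by rw [hc (π w), mul_inv_cancel_right]
        _ = ⁅π w, π u⁆ * ⁅π w', π u⁆ := (hc _).symm)
    have hker : φ.ker = Cq u := by
      ext w
      rw [MonoidHom.mem_ker, hCq]
      exact commutatorElement_eq_one_iff_mul_comm
    obtain ⟨i, hi⟩ := (IsPGroup.of_card hG).index (Cq u)
    have h1 : (Cq u).index ≤ 2 := by
      rw [← hker, Subgroup.index_ker]
      exact (Subgroup.card_le_of_le (by rintro _ ⟨w, rfl⟩; exact hcR w u)).trans hRbar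
    have hi1 : i = 1 := by
      rcases Nat.eq_zero_or_pos i with rfl | h
      · exact absurd ((hCq u v).1 (Subgroup.index_eq_one.1 (hi.trans (pow_zero 2)) ▸
          Subgroup.mem_top v)) huv
      · have := (Nat.pow_le_pow_iff_right (by norm_num : 1 < 2)).1
          (hi ▸ h1.trans (le_of_eq (pow_one 2).symm))
        omega
    rw [card_of_index hG hi, hi1]
  -- `a` and `b` do not commute modulo `R₁`
  have hR1par : ∀ z : ℤ, a ^ z ∈ R₁ → (4 : ℤ) ∣ z := by
    intro z hz
    obtain ⟨k, hk⟩ := Subgroup.mem_zpowers_iff.1 hz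
    rw [← zpow_natCast, ← zpow_mul, ← mul_inv_eq_one, ← zpow_neg, ← zpow_add,
      ← orderOf_dvd_iff_zpow_eq_one, hao] at hk
    have h2 : (4 : ℤ) ∣ ((4 : ℕ) : ℤ) * k + -z := by
      refine dvd_trans ?_ hk
      rw [show m - 2 = 2 + (m - 4) by omega, pow_add]
      push_cast; exact dvd_mul_right _ _
    push_cast at h2
    omega
  have hba : π b * π a ≠ π a * π b := by
    intro h
    have h1 : π (b * a * b⁻¹ * a⁻¹) = 1 := by
      simp only [map_mul, map_inv, h]; group
    have h2 := (QuotientGroup.eq_one_iff _).1 h1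
    rw [hab, ← zpow_sub_one] at h2
    have := hR1par _ h2
    omega
  have hAc := hCqcard a b hba
  have hBc := hCqcard b a hba.symm
  set Z : Subgroup G := Cq a ⊓ Cq b with hZ
  have hselfA : a ∈ Cq a := (hCq a a).2 rfl
  have hselfB : b ∈ Cq b := (hCq b b).2 rfl
  have hRC : ∀ u : G, R ≤ Cq u := fun u x hx => (hCq u x).2 ((hcentral _ ⟨x, hx, rfl⟩ (π u)).symm)
  have haB : a ∉ Cq b := fun h => hba ((hCq b a).1 h).symm
  have hbA : b ∉ Cq a := fun h => hba ((hCq a b).1 h)
  have hexp : ∀ u : G, u ^ 2 ∈ R := hsq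
  -- `Cq a` is abelian modulo `R₁`
  have hZc : Nat.card Z = 2 ^ (m - 2) := by
    obtain ⟨i, hi⟩ := (IsPGroup.of_card hG).index Z
    have h1 := Subgroup.index_inf_le (H := Cq a) (K := Cq b)
    rw [← hZ, hi, index_of_card hG hAc, index_of_card hG hBc, show m - (m - 1) = 1 by omega,
      pow_one] at h1
    have h2 : i ≤ 2 := (Nat.pow_le_pow_iff_right (by norm_num : 1 < 2)).1 (by simpa using h1)
    have h3 := card_of_index hG hi
    by_cases hi2 : i = 2
    · rw [h3, hi2]
    exfalso
    have h4 : Nat.card (Cq a) ≤ Nat.card Z := by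
      rw [h3, hAc]; exact Nat.pow_le_pow_right two_pos (by omega)
    have h5 : Cq a ≤ Cq b :=
      (Subgroup.eq_of_le_of_card_ge (inf_le_left : Z ≤ Cq a) h4).symm.le.trans inf_le_right
    exact haB (h5 hselfA)
  have hphiZ : phi G 2 m ≤ Z := le_inf (phi_le hAc) (phi_le hBc)
  have hZcomm : ∀ z ∈ Z, ∀ g : G, π g * π z = π z * π g := by
    intro z hz g
    obtain ⟨hza, hzb⟩ := hz
    -- the commutator with `z` is trivial on a generating set
    have hT : ∀ w, w ∈ Cq z ↔ π w * π z = π z * π w := hCq z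
    have htop : Cq z = ⊤ := by
      by_contra hne'
      obtain ⟨v, hv⟩ : ∃ v, π v * π z ≠ π z * π v := by
        by_contra! hall
        exact hne' (eq_top_iff.2 fun w _ => (hT w).2 (hall w))
      have hzc := hCqcard z v hv
      have haz : a ∈ Cq z := (hT a).2 ((hCq a z).1 hza).symm
      have hbz : b ∈ Cq z := (hT b).2 ((hCq b z).1 hzb).symm
      have hMz : Cq z = M := by
        refine (Subgroup.eq_of_le_of_card_ge (?_ : M ≤ Cq z) (by rw [hzc, hM])).symm
        intro x hx
        by_cases hxA : (⟨x, hx⟩ : M) ∈ Subgroup.zpowers α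
        · obtain ⟨j, hj⟩ := Subgroup.mem_zpowers_iff.1 hxA
          have : a ^ j = x := by simpa using congrArg Subtype.val hj
          exact this ▸ Subgroup.zpow_mem _ haz j
        · have h1 : (⟨x, hx⟩ : M) * β⁻¹ ∈ Subgroup.zpowers α := by
            rw [Subgroup.mul_mem_iff_of_index_two hαi, inv_mem_iff]
            exact ⟨fun h => absurd h hxA, fun h => absurd h hβ⟩
          obtain ⟨j, hj⟩ := Subgroup.mem_zpowers_iff.1 h1
          have : a ^ j * b = x := by
            simpa using congrArg Subtype.val (eq_mul_inv_iff_mul_eq.1 hj)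
          exact this ▸ mul_mem (Subgroup.zpow_mem _ haz j) hbz
      -- so `z ∈ M` is central in `M` modulo `R₁`
      have hzM : z ∈ M := hMz ▸ (hT z).2 rfl
      have hzR : z ∈ R := by
        by_cases hzA : (⟨z, hzM⟩ : M) ∈ Subgroup.zpowers α
        · obtain ⟨j, hj⟩ := Subgroup.mem_zpowers_iff.1 hzA
          have hj' : a ^ j = z := by simpa using congrArg Subtype.val hj
          rcases Int.even_or_odd j with ⟨l, hl⟩ | hodd
          · rw [← hj', hl, ← two_mul, zpow_mul]
            exact Subgroup.mem_zpowers_iff.2 ⟨l, by rw [← zpow_natCast]; rfl⟩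
          · exfalso
            obtain ⟨i, hi⟩ := Subgroup.mem_zpowers_iff.1 (mem_zpowers_zpow_odd hao hodd)
            rw [hj'] at hi
            exact hba ((hCq a b).1 (hi ▸ (by
              rw [hCq, map_zpow]
              exact ((show Commute (π b) (π z) from (hT b).1 hbz).zpow_right i).eq : b ∈ Cq (z ^ i))))
        · exfalso
          have h1 : (⟨z, hzM⟩ : M) * β⁻¹ ∈ Subgroup.zpowers α := by
            rw [Subgroup.mul_mem_iff_of_index_two hαi, inv_mem_iff]
            exact ⟨fun h => absurd h hzA, fun h => absurd h hβ⟩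
          obtain ⟨j, hj⟩ := Subgroup.mem_zpowers_iff.1 h1
          have hj' : a ^ j * b = z := by
            simpa using congrArg Subtype.val (eq_mul_inv_iff_mul_eq.1 hj)
          apply hbA
          have : a ^ (-j) * z = b := by rw [← hj', zpow_neg, inv_mul_cancel_left]
          exact this ▸ mul_mem (Subgroup.zpow_mem _ hselfA _) hza
      exact hv (hcentral _ ⟨z, hzR, rfl⟩ (π v))
    exact (hT g).1 (htop.ge (Subgroup.mem_top g))
  -- which maximal subgroups have maximal class
  have hiff : ∀ N : Subgroup G, Nat.card N = 2 ^ (m - 1) →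
      ((commutator N).index = 4 ↔ ¬ Z ≤ N) := by
    intro N hN
    have hmapR : (commutator N).map N.subtype ≤ R := by
      rw [Subgroup.map_subtype_commutator, Subgroup.commutator_le]
      exact fun u _ v _ => hGmem u v
    have hcN : Nat.card ((commutator N).map N.subtype) = Nat.card (commutator N) :=
      Subgroup.card_map_of_injective N.subtype_injective
    constructor
    · intro hNi hZN
      have hab' : (commutator N).map N.subtype ≤ R₁ := by
        obtain ⟨u₀, hu₀N, hu₀Z⟩ := SetLike.not_le_iff_exists.1 fun h : N ≤ Z => by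
          have := Subgroup.card_le_of_le h
          rw [hN, hZc] at this
          have := (Nat.pow_le_pow_iff_right (by norm_num : 1 < 2)).1 this
          omega
        have hgen : Z ⊔ Subgroup.zpowers u₀ = N := by
          refine Subgroup.eq_of_le_of_card_ge (sup_le hZN (Subgroup.zpowers_le.2 hu₀N)) ?_
          obtain ⟨e, he⟩ := IsPGroup.iff_card.1
            ((IsPGroup.of_card hG).to_subgroup (Z ⊔ Subgroup.zpowers u₀))
          have hlt : Z < Z ⊔ Subgroup.zpowers u₀ := lt_of_le_not_ge le_sup_left fun h =>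
            hu₀Z (h ((le_sup_right : Subgroup.zpowers u₀ ≤ _) (Subgroup.mem_zpowers u₀)))
          have h1 := Set.ncard_lt_ncard (SetLike.coe_ssubset_coe.2 hlt) (Set.toFinite _)
          rw [← Nat.card_coe_set_eq, ← Nat.card_coe_set_eq] at h1
          change Nat.card Z < Nat.card ↥(Z ⊔ Subgroup.zpowers u₀) at h1
          rw [hZc, he] at h1
          have := (Nat.pow_lt_pow_iff_right (by norm_num : 1 < 2)).1 h1
          rw [he, hN]; exact Nat.pow_le_pow_right two_pos (by omega)
        rw [Subgroup.map_subtype_commutator, Subgroup.commutator_le]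
        intro u hu v hv
        rw [← QuotientGroup.eq_one_iff]
        change π ⁅u, v⁆ = 1
        rw [map_commutatorElement, commutatorElement_eq_one_iff_mul_comm]
        have hle : N ≤ Cq u₀ := by
          rw [← hgen]
          exact sup_le (fun z hz => (hCq u₀ z).2 (hZcomm z hz u₀).symm)
            (Subgroup.zpowers_le.2 ((hCq u₀ u₀).2 rfl))
        have hle2 : N ≤ Cq u := by
          rw [← hgen]
          exact sup_le (fun z hz => (hCq u z).2 (hZcomm z hz u).symm)
            (Subgroup.zpowers_le.2 ((hCq u u₀).2 ((hCq u₀ u).1 (hle hu)).symm))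
        exact ((hCq u v).1 (hle2 hv)).symm
      have h1 := Subgroup.card_le_of_le hab'
      rw [hcN, card_of_index (p := 2) hN (K := commutator N) (i := 2) (by rw [hNi]; norm_num),
        hR₁, Nat.card_zpowers, orderOf_pow' a (by norm_num : 4 ≠ 0), hao,
        show 2 ^ (m - 2) = 4 * 2 ^ (m - 4) by
          rw [show (4 : ℕ) = 2 ^ 2 by norm_num, ← pow_add]; congr 1; omega,
        Nat.gcd_eq_right (dvd_mul_right 4 _), Nat.mul_div_cancel_left _ (by norm_num : 0 < 4)] at h1
      have := (Nat.pow_le_pow_iff_right (by norm_num : 1 < 2)).1 h1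
      omega
    · intro hZN
      obtain ⟨u, hu, v, hv, huv⟩ : ∃ u ∈ N, ∃ v ∈ N, π u * π v ≠ π v * π u := by
        by_contra! hall
        obtain ⟨z, hz, hzN⟩ := SetLike.not_le_iff_exists.1 hZN
        have hNn := max_normal hG (by omega) hN
        have hi2 : N.index = 2 := by rw [index_of_card hG hN, show m - (m - 1) = 1 by omega]; rfl
        apply hba
        have hdec : ∀ g : G, g ∈ N ∨ g * z⁻¹ ∈ N := fun g => by
          by_cases hg : g ∈ N
          · exact Or.inl hg
          · refine Or.inr ?_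
            rw [Subgroup.mul_mem_iff_of_index_two hi2, inv_mem_iff]
            exact ⟨fun h => absurd h hg, fun h => absurd h hzN⟩
        have hcz : ∀ g, Commute (π g) (π z) := fun g => hZcomm z hz g
        have key : ∀ g n, n ∈ N → Commute (π g) (π n) := by
          intro g n hn
          rcases hdec g with h | h
          · exact hall g h n hn
          · have : π g = π (g * z⁻¹) * π z := by rw [← map_mul, inv_mul_cancel_right]
            rw [this]
            exact (show Commute _ _ from hall _ h n hn).mul_left (hcz n).symm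
        rcases hdec a with h | h
        · exact (key b a h).eq
        · have : π a = π (a * z⁻¹) * π z := by rw [← map_mul, inv_mul_cancel_right]
          rw [this]
          exact ((key b _ h).mul_right (hcz b)).eq
      have hnot : ⁅u, v⁆ ∉ R₁ := fun h => huv (by
        rw [← commutatorElement_eq_one_iff_mul_comm, ← map_commutatorElement]
        exact (QuotientGroup.eq_one_iff _).2 h)
      obtain ⟨k, hk⟩ := Subgroup.mem_zpowers_iff.1 (hGmem u v)
      have hko : Odd k := by
        by_contra hk'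
        rw [Int.not_odd_iff_even] at hk'
        obtain ⟨l, rfl⟩ := hk'
        exact hnot ⟨l, by rw [← hk]; simp only [← zpow_natCast, ← zpow_mul]; congr 1; push_cast; ring⟩
      have hle : R ≤ (commutator N).map N.subtype := by
        refine Subgroup.zpowers_le.2 (Subgroup.zpowers_le.2 ?_ (mem_zpowers_zpow_odd hoa2 hko))
        rw [hk, Subgroup.map_subtype_commutator]
        exact Subgroup.commutator_mem_commutator hu hv
      have h1 : Nat.card (commutator N) = 2 ^ (m - 3) := by
        rw [← hcN, le_antisymm hmapR hle, hRc]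
      rw [index_of_card (p := 2) hN h1, show m - 1 - (m - 3) = 2 by omega]
      norm_num
  have he : (between (⊥ : Subgroup G) ⊤ (2 ^ (m - 1))).filter
      (fun N : Subgroup G => (commutator N).index = 4) =
      between (⊥ : Subgroup G) ⊤ (2 ^ (m - 1)) \ between Z ⊤ (2 ^ (m - 1)) := by
    ext N
    simp only [Finset.mem_filter, Finset.mem_sdiff, mem_between, bot_le, le_top, true_and]
    exact ⟨fun h => ⟨h.1, fun h' => (hiff N h.1).1 h.2 h'.1⟩,
      fun h => ⟨h.1, (hiff N h.1).2 fun h' => h.2 ⟨h', h.1⟩⟩⟩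
  have hsub : between Z ⊤ (2 ^ (m - 1)) ⊆ between (⊥ : Subgroup G) ⊤ (2 ^ (m - 1)) := fun N hN =>
    mem_between.2 ⟨bot_le, le_top, (mem_between.1 hN).2.2⟩
  rw [he, Finset.card_sdiff_of_subset hsub, card_above (p := 2) hG (by omega) hphiZ hZc]
  have hcnt := max_count (p := 2) hG hne
  have := Finset.card_le_card hsub
  rw [card_above (p := 2) hG (by omega) hphiZ hZc] at this
  unfold Nat.ModEq at hcnt
  omega

theorem not_cyclic_of_mc {m : ℕ} (hm : 3 ≤ m) (hG : Nat.card G = 2 ^ m)
    (h : (commutator G).index = 4) : ¬ IsCyclic G := by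
  intro hc
  have h1 : commutator G = ⊥ := by
    rw [commutator_def, eq_bot_iff, Subgroup.commutator_le]
    intro x _ y _
    rw [Subgroup.mem_bot, commutatorElement_eq_one_iff_mul_comm]
    exact hc.isMulCommutative.is_comm.comm x y
  rw [h1, Subgroup.index_bot, hG] at h
  have : 2 ^ 3 ≤ 2 ^ m := Nat.pow_le_pow_right two_pos hm
  omega

/-- Kulakoff's theorem. -/
theorem main {p : ℕ} [hpF : Fact p.Prime] : ∀ (m : ℕ) {G : Type u} [Group G] [Finite G],
    Nat.card G = p ^ m → ¬ IsCyclic G → ¬ IsMC G p m → ∀ k, 1 ≤ k → k < m →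
      (between (⊥ : Subgroup G) ⊤ (p ^ k)).card ≡ 1 + p [MOD p ^ 2] := by
  have hp : p.Prime := hpF.out
  intro m
  induction m with
  | zero => intros; omega
  | succ m IH =>
  intro G _ _ hG hnc hmc k hk1 hkm
  by_cases hkm1 : k = m
  · subst hkm1
    exact max_count hG hnc
  set F := between (⊥ : Subgroup G) ⊤ (p ^ (m + 1 - 1)) with hF
  let bad : Subgroup G → Prop := fun M =>
    IsCyclic M ∨ (IsMC M p m ∧ k + 3 ≤ m + 1)
  have hval : ∀ M ∈ F, (between ⊥ M (p ^ k)).card + (if bad M then p else 0) ≡ 1 + p [MOD p ^ 2] := by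
    intro M hM
    have hMc : Nat.card M = p ^ m := (mem_between.1 hM).2.2
    by_cases hcyc : IsCyclic M
    · rw [if_pos (Or.inl hcyc), between_cyclic_one (e := m) hMc (by omega)]
    by_cases hMmc : IsMC M p m
    · obtain ⟨hp2, hm3, hidx⟩ := hMmc
      subst hp2
      by_cases hk3 : k + 3 ≤ m + 1
      · rw [if_pos (Or.inr ⟨⟨rfl, hm3, hidx⟩, hk3⟩), ← top_eq_bot]
        have := mc_values m (G := M) hm3 hMc hidx k (by omega)
        simpa using this.add_right 2
      · rw [if_neg (by rintro (h | ⟨-, h⟩); exacts [hcyc h, hk3 h]), add_zero, ← top_eq_bot,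
          show k = m - 1 by omega]
        exact max_count (G := M) (p := 2) hMc hcyc
    · rw [if_neg (by rintro (h | ⟨h, -⟩); exacts [hcyc h, hMmc h]), add_zero, ← top_eq_bot]
      exact IH hMc hcyc hMmc k hk1 (by omega)
  have hbad : p ∣ (F.filter bad).card := by
    by_cases hex : ∃ M ∈ F, IsMC M p m
    · obtain ⟨M, hM, hp2, hm3, hidx⟩ := hex
      subst hp2
      obtain ⟨hnoC, heven⟩ := mc_count (m := m + 1) hG (by omega) hmc (mem_between.1 hM).2.2 hidx
      by_cases hk3 : k + 3 ≤ m + 1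
      · refine heven.trans (dvd_of_eq ?_)
        congr 1
        refine Finset.filter_congr fun N hN => ?_
        exact ⟨fun h => Or.inr ⟨⟨rfl, hm3, h⟩, hk3⟩, fun h => h.elim
          (fun h' => absurd h' (hnoC N hN)) (fun h' => h'.1.2.2)⟩
      · rw [Finset.filter_false_of_mem fun N hN => by
          rintro (h | ⟨-, h⟩); exacts [hnoC N hN h, hk3 h]]
        simp
    · push Not at hex
      have := cyclic_count (m := m + 1) hG (by omega) hnc hmc
      refine this.trans (dvd_of_eq ?_)
      congr 1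
      refine Finset.filter_congr fun N hN => ?_
      exact ⟨fun h => Or.inl h, fun h => h.elim id fun h' => absurd h'.1 (hex N hN)⟩
  have hS : (∑ M ∈ F, (between ⊥ M (p ^ k)).card) + (F.filter bad).card * p ≡
      F.card * (1 + p) [MOD p ^ 2] := by
    have h := Nat.ModEq.sum hval
    rw [Finset.sum_add_distrib, Finset.sum_const, smul_eq_mul,
      ← Finset.sum_filter, Finset.sum_const, smul_eq_mul] at h
    exact h
  obtain ⟨c, hc⟩ := hbad
  have h1 : (F.filter bad).card * p ≡ 0 [MOD p ^ 2] := by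
    rw [hc, Nat.modEq_zero_iff_dvd]; exact ⟨c, by ring⟩
  have h2 : F.card * (1 + p) ≡ (1 + p) * (1 + p) [MOD p ^ 2] := (max_count hG hnc).mul_right _
  have h3 : (1 + p) * (1 + p) ≡ 1 + p + p [MOD p ^ 2] := by
    rw [show (1 + p) * (1 + p) = 1 + p + p + p ^ 2 by ring]
    exact Nat.add_modEq_right
  have h4 : ∑ M ∈ F, (between ⊥ M (p ^ k)).card ≡ 1 + p + p [MOD p ^ 2] := by
    have := (((Nat.ModEq.refl _).add h1).symm.trans hS).trans (h2.trans h3)
    simpa using this
  exact Nat.ModEq.add_right_cancel' p ((enumeration' hG hnc (by omega)).symm.trans h4)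

/-- In any `p`-group the count is `1` or `1 + p`. -/
theorem value {p : ℕ} [hpF : Fact p.Prime] (n k : ℕ) {G : Type u} [Group G] [Finite G]
    (hG : Nat.card G = p ^ n) (hk : k < n) :
    (between (⊥ : Subgroup G) ⊤ (p ^ k)).card ≡ 1 [MOD p ^ 2] ∨
      (between (⊥ : Subgroup G) ⊤ (p ^ k)).card ≡ 1 + p [MOD p ^ 2] := by
  by_cases hk0 : k = 0
  · subst hk0
    left
    have e : between (⊥ : Subgroup G) ⊤ (p ^ 0) = {⊥} := by
      ext K
      simp only [mem_between, bot_le, le_top, true_and, pow_zero, Subgroup.card_eq_one,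
        Finset.mem_singleton]
    rw [e]; rfl
  by_cases hc : IsCyclic G
  · left
    have : IsCyclic (⊤ : Subgroup G) := isCyclic_of_surjective _ Subgroup.topEquiv.symm.surjective
    rw [between_cyclic_one (M := (⊤ : Subgroup G)) (Subgroup.card_top.trans hG) (by omega)]
  by_cases hmc : IsMC G p n
  · obtain ⟨hp2, hn, hidx⟩ := hmc
    subst hp2
    by_cases hk2 : k + 2 ≤ n
    · left; exact mc_values n hn hG hidx k hk2
    · right
      rw [show k = n - 1 by omega]
      exact max_count hG hc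
  · right; exact main n hG hc hmc k (by omega) hk

/-- A weighted orbit count. -/
theorem dvd_weighted {P X : Type*} [Group P] [MulAction P X] (q : ℕ)
    (S : Finset X) (hS : ∀ g : P, ∀ x ∈ S, g • x ∈ S) (f : X → ℕ)
    (hf : ∀ g : P, ∀ x ∈ S, f (g • x) = f x)
    (h : ∀ x ∈ S, q ∣ (MulAction.orbit P x).ncard * f x) : q ∣ ∑ x ∈ S, f x := by
  induction hn : S.card using Nat.strong_induction_on generalizing S with
  | _ n IH =>
  subst hn
  rcases S.eq_empty_or_nonempty with rfl | ⟨x, hx⟩
  · simp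
  have hsub : MulAction.orbit P x ⊆ (S : Set X) := by
    rintro _ ⟨g, rfl⟩; exact hS g x hx
  set O := (S.finite_toSet.subset hsub).toFinset with hO
  have hOS : O ⊆ S := fun y hy => hsub ((Set.Finite.mem_toFinset _).1 hy)
  have hsum : ∑ y ∈ O, f y = (MulAction.orbit P x).ncard * f x := by
    rw [Finset.sum_congr rfl (g := fun _ => f x), Finset.sum_const, smul_eq_mul,
      Set.ncard_eq_toFinset_card _ (S.finite_toSet.subset hsub)]
    intro y hy
    obtain ⟨g, rfl⟩ := (Set.Finite.mem_toFinset _).1 hy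
    exact hf g x hx
  rw [← Finset.sum_sdiff hOS]
  refine Nat.dvd_add (IH _ ?_ (S \ O) ?_ ?_ ?_ rfl) (hsum ▸ h x hx)
  · exact Finset.card_lt_card (Finset.sdiff_ssubset hOS ⟨x, (Set.Finite.mem_toFinset _).2
      (MulAction.mem_orbit_self x)⟩)
  · intro g y hy
    obtain ⟨hyS, hyO⟩ := Finset.mem_sdiff.1 hy
    refine Finset.mem_sdiff.2 ⟨hS g y hyS, fun hg => hyO ?_⟩
    rw [hO, Set.Finite.mem_toFinset] at hg ⊢
    obtain ⟨g', hg'⟩ := hg
    refine ⟨g⁻¹ * g', ?_⟩
    have e : g' • x = g • y := hg'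
    change (g⁻¹ * g') • x = y
    rw [mul_smul, e, inv_smul_smul]
  · exact fun g y hy => hf g y (Finset.mem_sdiff.1 hy).1
  · exact fun y hy => h y (Finset.mem_sdiff.1 hy).1

/-- In any finite group the count of subgroups of order `p ^ a` reduces to a Sylow subgroup. -/
theorem sylow_reduce {p : ℕ} [hpF : Fact p.Prime] (P : Sylow p G) {n a : ℕ}
    (hP : Nat.card (P : Subgroup G) = p ^ n) (ha : a < n) :
    (between (⊥ : Subgroup G) ⊤ (p ^ a)).card ≡
      (between ⊥ (P : Subgroup G) (p ^ a)).card [MOD p ^ 2] := by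
  have hp : p.Prime := hpF.out
  set P₀ : Subgroup G := (P : Subgroup G) with hP₀
  have hP' : IsPGroup p P₀ := P.isPGroup'
  letI : MulAction P₀ (Subgroup G) :=
    MulAction.compHom _ ((MulAut.conj (G := G)).comp P₀.subtype)
  have hsmul : ∀ (g : P₀) (H : Subgroup G), g • H = MulAut.conj (g : G) • H := fun _ _ => rfl
  have hcard : ∀ (g : P₀) (H : Subgroup G), Nat.card ↥(g • H) = Nat.card H := fun g H =>
    (Nat.card_congr (H.equivMapOfInjective _ (MulAut.conj (g : G)).injective).toEquiv).symm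
  have hPfix : ∀ g : P₀, g • P₀ = P₀ := fun g => Subgroup.conj_smul_eq_self_of_mem g.2
  have hnorm : ∀ (g : P₀) (H : Subgroup G), g • H = H ↔ (g : G) ∈ Subgroup.normalizer (H : Set G) :=
    fun g H => (Subgroup.mem_normalizer_iff_map_conj_eq).symm
  have hnorm_smul : ∀ (g : P₀) (H : Subgroup G), Subgroup.normalizer ((g • H : Subgroup G) : Set G) =
      g • Subgroup.normalizer (H : Set G) := fun g H =>
    (Subgroup.map_equiv_normalizer_eq H (MulAut.conj (g : G))).symm
  have hmax : ∀ T : Subgroup G, IsPGroup p T → P₀ ≤ T → T = P₀ := fun T hT hle =>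
    P.is_maximal' hT hle
  -- a subgroup normalised by a `p`-group generates a `p`-group with it
  have hjoin : ∀ H T : Subgroup G, IsPGroup p H → IsPGroup p T →
      T ≤ Subgroup.normalizer (H : Set G) → IsPGroup p ↥(H ⊔ T) := fun H T hH hT hle =>
    hH.to_sup_of_normal_left' hT hle
  set X := (between (⊥ : Subgroup G) ⊤ (p ^ a)).filter fun H => ¬ H ≤ P₀ with hX
  have hXsplit : (between (⊥ : Subgroup G) ⊤ (p ^ a)).card =
      (between ⊥ P₀ (p ^ a)).card + X.card := by
    rw [hX, ← Finset.card_filter_add_card_filter_not (fun H => H ≤ P₀)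
      (s := between (⊥ : Subgroup G) ⊤ (p ^ a))]
    congr 2
    ext H
    simp [mem_between, and_comm]
  have hXmem : ∀ H ∈ X, IsPGroup p H ∧ Nat.card H = p ^ a ∧ ¬ H ≤ P₀ := fun H hH => by
    obtain ⟨h1, h2⟩ := Finset.mem_filter.1 hH
    exact ⟨IsPGroup.of_card (mem_between.1 h1).2.2, (mem_between.1 h1).2.2, h2⟩
  have hXinv : ∀ g : P₀, ∀ H ∈ X, g • H ∈ X := by
    intro g H hH
    refine Finset.mem_filter.2 ⟨mem_between.2 ⟨bot_le, le_top, (hcard g H).trans (hXmem H hH).2.1⟩,
      fun h => (hXmem H hH).2.2 ?_⟩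
    have h' : MulAut.conj (g : G) • H ≤ MulAut.conj (g : G) • P₀ := by
      rw [← hsmul g P₀, hPfix g, ← hsmul g H]; exact h
    exact Subgroup.pointwise_smul_le_pointwise_smul_iff.1 h'
  set Y := X.filter fun H => (MulAction.orbit P₀ H).ncard = p with hY
  -- the Sylow subgroups meeting `P` in a subgroup of index `p`
  set 𝒬 := (between (⊥ : Subgroup G) ⊤ (p ^ n)).filter
    fun Q => Nat.card ↥(Q ⊓ P₀) = p ^ (n - 1) with hQdef
  have hpn : p ^ (n - 1) < p ^ n := Nat.pow_lt_pow_right hp.one_lt (by omega)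
  let J : Subgroup G → Subgroup G := fun H => H ⊔ (P₀ ⊓ Subgroup.normalizer (H : Set G))
  have hJ : ∀ H ∈ Y, Nat.card (J H) = p ^ n ∧ J H ⊓ P₀ = P₀ ⊓ Subgroup.normalizer (H : Set G) ∧
      Nat.card ↥(P₀ ⊓ Subgroup.normalizer (H : Set G)) = p ^ (n - 1) := by
    intro H hH
    obtain ⟨hHX, horb⟩ := Finset.mem_filter.1 hH
    obtain ⟨hHp, hHc, hHP⟩ := hXmem H hHX
    set P₁ := P₀ ⊓ Subgroup.normalizer (H : Set G) with hP₁
    have hstab : MulAction.stabilizer P₀ H = P₁.subgroupOf P₀ := by
      ext g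
      rw [MulAction.mem_stabilizer_iff, hnorm, hP₁, Subgroup.mem_subgroupOf, Subgroup.mem_inf]
      exact ⟨fun h => ⟨g.2, h⟩, fun h => h.2⟩
    have hi : (P₁.subgroupOf P₀).index = p := by
      rw [← hstab, MulAction.index_stabilizer, horb]
    have hP₁c : Nat.card P₁ = p ^ (n - 1) := by
      rw [← Nat.card_congr (Subgroup.subgroupOfEquivOfLe (inf_le_left : P₁ ≤ P₀)).toEquiv]
      exact card_of_index (G := P₀) hP (i := 1) (by rw [hi, pow_one])
    have hPP : IsPGroup p P₁ := hP'.to_le inf_le_left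
    have hJp : IsPGroup p ↥(J H) := hjoin H P₁ hHp hPP inf_le_right
    obtain ⟨T, hT⟩ := hJp.exists_le_sylow
    have hTc : Nat.card (T : Subgroup G) = p ^ n := by
      rw [Sylow.card_eq_multiplicity, ← Sylow.card_eq_multiplicity P]; exact hP
    obtain ⟨e, he⟩ := IsPGroup.iff_card.1 hJp
    have hle := Subgroup.card_le_of_le hT
    rw [he, hTc] at hle
    have hlt : P₁ < J H := by
      refine lt_of_le_of_ne le_sup_right fun h => hHP ?_
      exact ((le_sup_left : H ≤ J H).trans h.symm.le).trans inf_le_left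
    have hlt' := Set.ncard_lt_ncard (SetLike.coe_ssubset_coe.2 hlt) (Set.toFinite _)
    rw [← Nat.card_coe_set_eq, ← Nat.card_coe_set_eq] at hlt'
    change Nat.card P₁ < Nat.card (J H) at hlt'
    rw [hP₁c, he] at hlt'
    have h1 := (Nat.pow_le_pow_iff_right hp.one_lt).1 hle
    have h2 := (Nat.pow_lt_pow_iff_right hp.one_lt).1 hlt'
    have hJc : Nat.card (J H) = p ^ n := by rw [he]; congr 1; omega
    refine ⟨hJc, ?_, hP₁c⟩
    refine (Subgroup.eq_of_le_of_card_ge (le_inf le_sup_right inf_le_left) ?_).symm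
    rw [hP₁c]
    obtain ⟨e', he'⟩ := IsPGroup.iff_card.1 (hP'.to_le (inf_le_right : J H ⊓ P₀ ≤ P₀))
    have hlt2 : J H ⊓ P₀ < P₀ := by
      refine lt_of_le_of_ne inf_le_right fun h => hHP ?_
      have hPJ : P₀ ≤ J H := h ▸ inf_le_left
      exact (le_sup_left : H ≤ J H).trans (hmax _ hJp hPJ).le
    have h3 := Set.ncard_lt_ncard (SetLike.coe_ssubset_coe.2 hlt2) (Set.toFinite _)
    rw [← Nat.card_coe_set_eq, ← Nat.card_coe_set_eq] at h3
    change Nat.card ↥(J H ⊓ P₀) < Nat.card P₀ at h3
    rw [he', hP] at h3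
    have h4 := (Nat.pow_lt_pow_iff_right hp.one_lt).1 h3
    rw [he']
    exact Nat.pow_le_pow_right hp.pos (by omega)
  -- the weight of a Sylow subgroup
  let f : Subgroup G → ℕ := fun Q => (Y.filter fun H => J H = Q).card
  have hfib : Y.card = ∑ Q ∈ 𝒬, f Q := Finset.card_eq_sum_card_fiberwise fun H hH => by
    obtain ⟨h1, h2, h3⟩ := hJ H hH
    exact Finset.mem_coe.2 (Finset.mem_filter.2
      ⟨mem_between.2 ⟨bot_le, le_top, h1⟩, by rw [h2, h3]⟩)
  have hQinv : ∀ g : P₀, ∀ Q ∈ 𝒬, g • Q ∈ 𝒬 := by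
    intro g Q hQ
    obtain ⟨h1, h2⟩ := Finset.mem_filter.1 hQ
    refine Finset.mem_filter.2
      ⟨mem_between.2 ⟨bot_le, le_top, (hcard g Q).trans (mem_between.1 h1).2.2⟩, ?_⟩
    rw [← h2, ← hcard g (Q ⊓ P₀)]
    rw [show g • (Q ⊓ P₀) = g • Q ⊓ P₀ by
      rw [hsmul, Subgroup.smul_inf, ← hsmul, ← hsmul, hPfix]]
  have horb_smul : ∀ (g : P₀) (H : Subgroup G),
      MulAction.orbit P₀ (g • H) = MulAction.orbit P₀ H := fun g H => MulAction.orbit_smul g H
  have hYinv : ∀ g : P₀, ∀ H ∈ Y, g • H ∈ Y := fun g H hH =>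
    Finset.mem_filter.2 ⟨hXinv g H (Finset.mem_filter.1 hH).1, by
      rw [horb_smul]; exact (Finset.mem_filter.1 hH).2⟩
  have hJsmul : ∀ (g : P₀) (H : Subgroup G), J (g • H) = g • J H := by
    intro g H
    simp only [J]
    rw [hnorm_smul]
    simp only [hsmul, Subgroup.smul_sup, Subgroup.smul_inf]
    rw [← hsmul g P₀, hPfix]
  have hfinv : ∀ g : P₀, ∀ Q ∈ 𝒬, f (g • Q) = f Q := by
    intro g Q _
    symm
    refine Finset.card_nbij' (fun H => g • H) (fun H => g⁻¹ • H) ?_ ?_ ?_ ?_
    · intro H hH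
      obtain ⟨h1, h2⟩ := Finset.mem_filter.1 hH
      exact Finset.mem_coe.2 (Finset.mem_filter.2 ⟨hYinv g H h1, by rw [hJsmul, h2]⟩)
    · intro H hH
      obtain ⟨h1, h2⟩ := Finset.mem_filter.1 hH
      exact Finset.mem_coe.2 (Finset.mem_filter.2 ⟨hYinv g⁻¹ H h1, by rw [hJsmul, h2, inv_smul_smul]⟩)
    · intro H _; simp
    · intro H _; simp
  have horbp : ∀ H : Subgroup G, ∃ i, (MulAction.orbit P₀ H).ncard = p ^ i := fun H => by
    obtain ⟨i, hi⟩ := hP'.card_orbit H
    exact ⟨i, by rw [← Nat.card_coe_set_eq, hi]⟩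
  have horb1 : ∀ H : Subgroup G, (MulAction.orbit P₀ H).ncard = 1 →
      P₀ ≤ Subgroup.normalizer (H : Set G) := by
    intro H h x hx
    obtain ⟨w, hw⟩ := Set.ncard_eq_one.1 h
    have h1 : (⟨x, hx⟩ : P₀) • H ∈ MulAction.orbit P₀ H := MulAction.mem_orbit H _
    have h2 := MulAction.mem_orbit_self (M := P₀) H
    rw [hw, Set.mem_singleton_iff] at h1 h2
    exact (hnorm ⟨x, hx⟩ H).1 (h1.trans h2.symm)
  have hfdvd : ∀ Q ∈ 𝒬, p ∣ f Q := by
    intro Q hQ
    obtain ⟨hQb, hQ1⟩ := Finset.mem_filter.1 hQ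
    have hQc := (mem_between.1 hQb).2.2
    set P₁ := Q ⊓ P₀ with hP₁
    have hQp : IsPGroup p Q := IsPGroup.of_card hQc
    have hQS : ¬ Q ≤ P₀ := fun h => by
      have : P₁ = Q := inf_eq_left.2 h
      rw [this, hQc] at hQ1
      omega
    have hP₁n : Q ≤ Subgroup.normalizer (P₁ : Set G) := by
      have := max_normal (G := Q) hQc (by omega)
        (M := P₁.subgroupOf Q) ((Nat.card_congr (Subgroup.subgroupOfEquivOfLe inf_le_left).toEquiv).trans hQ1)
      exact (Subgroup.normal_subgroupOf_iff_le_normalizer inf_le_left).1 this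
    have e : Y.filter (fun H => J H = Q) =
        (between ⊥ Q (p ^ a)).filter (fun H : Subgroup G => Q ≤ Subgroup.normalizer (H : Set G) ∧ ¬ H ≤ P₁) := by
      ext H
      simp only [Finset.mem_filter, mem_between, bot_le, true_and]
      constructor
      · rintro ⟨hH, rfl⟩
        obtain ⟨-, h2, -⟩ := hJ H hH
        obtain ⟨-, hHc, hHP⟩ := hXmem H (Finset.mem_filter.1 hH).1
        exact ⟨⟨le_sup_left, hHc⟩, sup_le Subgroup.le_normalizer inf_le_right,
          fun h => hHP (h.trans inf_le_right)⟩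
      · rintro ⟨⟨hHQ, hHc⟩, hHn, hHP₁⟩
        have hHp : IsPGroup p H := IsPGroup.of_card hHc
        have hHP : ¬ H ≤ P₀ := fun h => hHP₁ (le_inf hHQ h)
        have hHX : H ∈ X := Finset.mem_filter.2 ⟨mem_between.2 ⟨bot_le, le_top, hHc⟩, hHP⟩
        have hnP : ¬ P₀ ≤ Subgroup.normalizer (H : Set G) := fun h =>
          hHP ((le_sup_left : H ≤ H ⊔ P₀).trans (hmax _ (hjoin H P₀ hHp hP' h) le_sup_right).le)
        have hP₁le : P₁ ≤ P₀ ⊓ Subgroup.normalizer (H : Set G) :=
          le_inf inf_le_right (inf_le_left.trans hHn)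
        have hstab : P₀ ⊓ Subgroup.normalizer (H : Set G) = P₁ := by
          refine (Subgroup.eq_of_le_of_card_ge hP₁le ?_).symm
          obtain ⟨e', he'⟩ := IsPGroup.iff_card.1
            (hP'.to_le (inf_le_left : P₀ ⊓ Subgroup.normalizer (H : Set G) ≤ P₀))
          have hlt : P₀ ⊓ Subgroup.normalizer (H : Set G) < P₀ :=
            lt_of_le_of_ne inf_le_left fun h => hnP (h ▸ inf_le_right)
          have h3 := Set.ncard_lt_ncard (SetLike.coe_ssubset_coe.2 hlt) (Set.toFinite _)
          rw [← Nat.card_coe_set_eq, ← Nat.card_coe_set_eq] at h3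
          change Nat.card ↥(P₀ ⊓ Subgroup.normalizer (H : Set G)) < Nat.card P₀ at h3
          rw [he', hP] at h3
          have h4 := (Nat.pow_lt_pow_iff_right hp.one_lt).1 h3
          rw [he', hQ1]
          exact Nat.pow_le_pow_right hp.pos (by omega)
        refine ⟨Finset.mem_filter.2 ⟨hHX, ?_⟩, ?_⟩
        · rw [← MulAction.index_stabilizer]
          have hs : MulAction.stabilizer P₀ H = P₁.subgroupOf P₀ := by
            ext g
            rw [MulAction.mem_stabilizer_iff, hnorm, ← hstab, Subgroup.mem_subgroupOf, Subgroup.mem_inf]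
            exact ⟨fun h => ⟨g.2, h⟩, fun h => h.2⟩
          rw [hs, index_of_card (G := P₀) hP ((Nat.card_congr
            (Subgroup.subgroupOfEquivOfLe inf_le_right).toEquiv).trans hQ1),
            show n - (n - 1) = 1 by omega, pow_one]
        · simp only [J, hstab]
          refine Subgroup.eq_of_le_of_card_ge (sup_le hHQ inf_le_left) ?_
          obtain ⟨e', he'⟩ := IsPGroup.iff_card.1 (hQp.to_le (sup_le hHQ inf_le_left : H ⊔ P₁ ≤ Q))
          have hlt : P₁ < H ⊔ P₁ := lt_of_le_of_ne le_sup_right fun h => hHP₁ (h ▸ le_sup_left)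
          have h3 := Set.ncard_lt_ncard (SetLike.coe_ssubset_coe.2 hlt) (Set.toFinite _)
          rw [← Nat.card_coe_set_eq, ← Nat.card_coe_set_eq] at h3
          change Nat.card P₁ < Nat.card ↥(H ⊔ P₁) at h3
          rw [hQ1, he'] at h3
          have h4 := (Nat.pow_lt_pow_iff_right hp.one_lt).1 h3
          rw [he', hQc]
          exact Nat.pow_le_pow_right hp.pos (by omega)
    change p ∣ (Y.filter fun H => J H = Q).card
    rw [e]
    -- `Q` acting on its subgroups
    letI : MulAction Q (Subgroup G) :=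
      MulAction.compHom _ ((MulAut.conj (G := G)).comp Q.subtype)
    have hQnorm : ∀ H : Subgroup G, (∀ g : Q, g • H = H) ↔ Q ≤ Subgroup.normalizer (H : Set G) :=
      fun H => ⟨fun h x hx => Subgroup.mem_normalizer_iff_map_conj_eq.2 (h ⟨x, hx⟩),
        fun h g => Subgroup.mem_normalizer_iff_map_conj_eq.1 (h g.2)⟩
    have hmod : ∀ W : Finset (Subgroup G), (∀ g : Q, ∀ H ∈ W, g • H ∈ W) →
        (W.filter fun H : Subgroup G => Q ≤ Subgroup.normalizer (H : Set G)).card ≡ W.card [MOD p] := by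
      intro W hW
      have hd := dvd_weighted p W hW
        (fun H => if Q ≤ Subgroup.normalizer (H : Set G) then 0 else 1) ?_ ?_
      · rw [← Finset.card_filter_add_card_filter_not
          (fun H : Subgroup G => Q ≤ Subgroup.normalizer (H : Set G)) (s := W)]
        rw [Finset.sum_ite, Finset.sum_const_zero, zero_add, Finset.sum_const, smul_eq_mul,
          mul_one] at hd
        rw [Nat.modEq_iff_dvd' (Nat.le_add_right _ _), Nat.add_sub_cancel_left]
        exact hd
      · intro g H _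
        have hiff' : Q ≤ Subgroup.normalizer ((g • H : Subgroup G) : Set G) ↔
            Q ≤ Subgroup.normalizer (H : Set G) := by
          rw [← hQnorm, ← hQnorm]
          constructor
          · intro h g'
            have := h (g * g' * g⁻¹)
            rw [mul_smul, mul_smul, inv_smul_smul] at this
            exact MulAction.injective g this
          · intro h g'
            rw [h g]; exact h g'
        simp only [hiff']
      · intro H _
        split_ifs with hh
        · simp
        · obtain ⟨i, hi⟩ := hQp.card_orbit H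
          rw [mul_one, ← Nat.card_coe_set_eq, hi]
          refine dvd_pow_self p fun hi0 => hh ?_
          rw [hi0, pow_zero, Nat.card_coe_set_eq, Set.ncard_eq_one] at hi
          obtain ⟨w, hw⟩ := hi
          rw [← hQnorm]
          intro g
          have h1 : g • H ∈ MulAction.orbit Q H := MulAction.mem_orbit H g
          have h2 := MulAction.mem_orbit_self (M := Q) H
          rw [hw, Set.mem_singleton_iff] at h1 h2
          exact h1.trans h2.symm
    have hbinv : ∀ T : Subgroup G, Q ≤ Subgroup.normalizer (T : Set G) →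
        ∀ g : Q, ∀ H ∈ between ⊥ T (p ^ a), g • H ∈ between ⊥ T (p ^ a) := by
      intro T hT g H hH
      obtain ⟨-, h1, h2⟩ := mem_between.1 hH
      refine mem_between.2 ⟨bot_le, ?_, ?_⟩
      · rw [← (hQnorm T).2 hT g]
        exact Subgroup.map_mono h1
      · rw [← h2]
        exact (Nat.card_congr (H.equivMapOfInjective _ (MulAut.conj (g : G)).injective).toEquiv).symm
    have h1 : ∀ (T : Subgroup G) (e' : ℕ), Nat.card T = p ^ e' → a ≤ e' →
        (between ⊥ T (p ^ a)).card ≡ 1 [MOD p] := fun T e' hT he' => by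
      rw [between_bot]
      exact S3975.result p a hp (hT ▸ pow_dvd_pow p he')
    have hAll := (hmod _ (hbinv Q Subgroup.le_normalizer)).trans (h1 Q n hQc (by omega))
    have hIn := (hmod _ (hbinv P₁ hP₁n)).trans (h1 P₁ (n - 1) hQ1 (by omega))
    set A := (between ⊥ Q (p ^ a)).filter fun H : Subgroup G => Q ≤ Subgroup.normalizer (H : Set G) with hA
    set B := (between ⊥ P₁ (p ^ a)).filter fun H : Subgroup G => Q ≤ Subgroup.normalizer (H : Set G) with hB
    have eB : A.filter (fun H => H ≤ P₁) = B := by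
      ext H
      simp only [hA, hB, Finset.mem_filter, mem_between, bot_le, true_and]
      exact ⟨fun h => ⟨⟨h.2, h.1.1.2⟩, h.1.2⟩,
        fun h => ⟨⟨⟨h.1.1.trans inf_le_left, h.1.2⟩, h.2⟩, h.1.1⟩⟩
    have hAB := Finset.card_filter_add_card_filter_not (fun H : Subgroup G => H ≤ P₁) (s := A)
    rw [eB] at hAB
    rw [← Finset.filter_filter, ← hA]
    rw [← Nat.modEq_zero_iff_dvd]
    refine Nat.ModEq.add_left_cancel' B.card ?_
    rw [hAB, add_zero]
    exact hAll.trans hIn.symm
  have hQdvd : p ^ 2 ∣ ∑ Q ∈ 𝒬, f Q := by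
    refine dvd_weighted (P := P₀) (p ^ 2) 𝒬 hQinv f hfinv fun Q hQ => ?_
    obtain ⟨i, hi⟩ := horbp Q
    obtain ⟨c, hc⟩ := hfdvd Q hQ
    obtain ⟨hQb, hQ1⟩ := Finset.mem_filter.1 hQ
    have hQc := (mem_between.1 hQb).2.2
    have hQp : IsPGroup p Q := IsPGroup.of_card hQc
    have hi0 : i ≠ 0 := by
      rintro rfl
      have hN := horb1 Q (hi.trans (pow_zero p))
      have hle : Q ≤ P₀ := (le_sup_left : Q ≤ Q ⊔ P₀).trans
        (hmax _ (hjoin Q P₀ hQp hP' hN) le_sup_right).le
      rw [inf_eq_left.2 hle, hQc] at hQ1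
      omega
    rw [hi, hc, pow_two, show i = i - 1 + 1 by omega, pow_succ]
    exact ⟨p ^ (i - 1) * c, by ring⟩
  have hrest : p ^ 2 ∣ (X.filter fun H => ¬ (MulAction.orbit P₀ H).ncard = p).card := by
    have h := dvd_weighted (P := P₀) (p ^ 2) (X.filter fun H => ¬ (MulAction.orbit P₀ H).ncard = p)
      (fun g H hH => Finset.mem_filter.2 ⟨hXinv g H (Finset.mem_filter.1 hH).1, by
        rw [horb_smul]; exact (Finset.mem_filter.1 hH).2⟩)
      (fun _ => 1) (fun _ _ _ => rfl) ?_
    · rwa [← Finset.card_eq_sum_ones] at h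
    intro H hH
    obtain ⟨hHX, hne⟩ := Finset.mem_filter.1 hH
    obtain ⟨i, hi⟩ := horbp H
    rw [mul_one, hi]
    refine pow_dvd_pow p ?_
    by_contra hlt
    rcases (show i = 0 ∨ i = 1 by omega) with rfl | rfl
    · obtain ⟨hHp, -, hHP⟩ := hXmem H hHX
      exact hHP ((le_sup_left : H ≤ H ⊔ P₀).trans
        (hmax _ (hjoin H P₀ hHp hP' (horb1 H (hi.trans (pow_zero p)))) le_sup_right).le)
    · exact hne (hi.trans (pow_one p))
  have hXdvd : p ^ 2 ∣ X.card := by
    rw [← Finset.card_filter_add_card_filter_not (fun H => (MulAction.orbit P₀ H).ncard = p) (s := X),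
      ← hY, hfib]
    exact Nat.dvd_add hQdvd hrest
  rw [hXsplit]
  have := (Nat.modEq_zero_iff_dvd.2 hXdvd).add_left (between ⊥ P₀ (p ^ a)).card
  simpa using this

end Cfsg.Agent.H29.Kulakoff
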