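import Cfsg.Agent.NilCover.Basic

set_option autoImplicit false

/-!
No nilpotent minimal cover of the symmetric and alternating groups.
-/

namespace CfsgLib.H29.NilCoverSym

open Equiv Equiv.Perm CfsgLib.NilCover

/-- A Sylow subgroup of prime order whose centralizer lies in a proper subgroup not normalizing it. -/
theorem false_of_prime_sylow {G : Type*} [Group G] [Finite G] {𝓐 : Finset (Subgroup G)}
    (h : MinCover 𝓐) (hZ : Subgroup.center G = ⊥) {p : ℕ} [Fact p.Prime]
    (hp2 : ¬ p ^ 2 ∣ Nat.card G) {σ : G} (hσ : orderOf σ = p) {M : Subgroup G} (hM : M ≠ ⊤)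
    (hC : ∀ g : G, g * σ = σ * g → g ∈ M) {m : G} (hm : m ∈ M)
    (hnc : m * σ * m⁻¹ * σ ≠ σ * (m * σ * m⁻¹)) : False := by
  have hpg : IsPGroup p ↥(Subgroup.zpowers σ) :=
    IsPGroup.of_card (n := 1) (by rw [Nat.card_zpowers, hσ, pow_one])
  obtain ⟨P, hP⟩ := hpg.exists_le_sylow
  obtain ⟨k, hk⟩ := IsPGroup.iff_card.1 P.isPGroup'
  have hkle : k ≤ 1 := by
    by_contra hk2
    exact hp2 (((pow_dvd_pow p (show 2 ≤ k by omega)).trans hk.symm.dvd).trans
      (Subgroup.card_subgroup_dvd_card _))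
  have hPeq : Subgroup.zpowers σ = (P : Subgroup G) := by
    refine Subgroup.eq_of_le_of_card_ge hP ?_
    rw [Nat.card_zpowers, hσ, hk]
    calc p ^ k ≤ p ^ 1 := Nat.pow_le_pow_right (Fact.out : p.Prime).pos hkle
      _ = p := pow_one p
  have hcyc : IsCyclic ↥(P : Subgroup G) := hPeq ▸ inferInstance
  have hP1 : (P : Subgroup G) ≠ ⊥ := by
    rw [← hPeq, Ne, Subgroup.zpowers_eq_bot]
    rintro rfl
    rw [orderOf_one] at hσ
    exact (Fact.out : p.Prime).one_lt.ne hσ
  have hab : IsMulCommutative ↥(P : Subgroup G) := hPeq ▸ inferInstance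
  have hle : Subgroup.centralizer ((P : Subgroup G) : Set G) ≤ M := fun g hg =>
    hC g (Subgroup.mem_centralizer_iff.1 hg σ (hP (Subgroup.mem_zpowers σ))).symm
  have hN := h.le_normalizer hZ P hab hP1 (Or.inl hcyc) hM hle hm
  have hmem := (Subgroup.mem_normalizer_iff.1 hN σ).1 (hP (Subgroup.mem_zpowers σ))
  rw [← hPeq] at hmem
  obtain ⟨i, hi⟩ := Subgroup.mem_zpowers_iff.1 hmem
  apply hnc
  rw [← hi, ← zpow_add_one, add_comm, zpow_add, zpow_one]

variable {α : Type*} [Fintype α] [DecidableEq α]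

theorem sign_swap_swap {a b c : α} (hb : a ≠ b) (hc : a ≠ c) :
    sign (swap a b * swap a c) = 1 := by simp [sign_swap hb, sign_swap hc]

/-- The permutations stabilizing a set. -/
def setStab (S : Finset α) : Subgroup (Perm α) where
  carrier := {g | ∀ x, g x ∈ S ↔ x ∈ S}
  one_mem' := fun x => Iff.rfl
  mul_mem' := fun {g k} hg hk x => (hg (k x)).trans (hk x)
  inv_mem' := fun {g} hg x => by
    have := hg (g⁻¹ x)
    rw [show g (g⁻¹ x) = x from g.apply_symm_apply x] at this
    exact this.symm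

theorem center_eq_bot_of_alternating_le (H : Subgroup (Perm α)) (hH : alternatingGroup α ≤ H)
    (h4 : 4 ≤ Fintype.card α) : Subgroup.center ↥H = ⊥ := by
  rw [Subgroup.eq_bot_iff_forall]
  rintro ⟨g, hg⟩ hc
  refine Subtype.ext (Equiv.ext fun x => ?_)
  by_contra hx
  have hne : g x ≠ x := hx
  obtain ⟨z, hz, w, hw, hzw⟩ := Finset.one_lt_card.1 (show 1 < (Finset.univ \ {x, g x}).card by
    rw [Finset.card_sdiff_of_subset (Finset.subset_univ _), Finset.card_univ, Finset.card_pair hne.symm]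
    omega)
  simp only [Finset.mem_sdiff, Finset.mem_univ, Finset.mem_insert, Finset.mem_singleton, true_and,
    not_or] at hz hw
  have hcH : swap x z * swap x w ∈ H :=
    hH (Perm.mem_alternatingGroup.2 (sign_swap_swap (Ne.symm hz.1) (Ne.symm hw.1)))
  have e := congrArg (fun k : ↥H => (k : Perm α) x) (Subgroup.mem_center_iff.1 hc ⟨_, hcH⟩)
  simp only [Subgroup.coe_mul, Perm.mul_apply] at e
  rw [swap_apply_of_ne_of_ne hne (Ne.symm hw.2), swap_apply_of_ne_of_ne hne (Ne.symm hz.2),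
    swap_apply_left, swap_apply_of_ne_of_ne hw.1 (Ne.symm hzw)] at e
  exact hw.1 (g.injective e).symm

/-- No nilpotent minimal cover of a group of degree at least six containing the alternating group. -/
theorem no_cover (H : Subgroup (Perm α)) (hH : alternatingGroup α ≤ H) (h6 : 6 ≤ Fintype.card α)
    {𝓐 : Finset (Subgroup ↥H)} (h : MinCover 𝓐) : False := by
  classical
  set n := Fintype.card α with hn
  obtain ⟨p, hp, hlt, hle⟩ := Nat.exists_prime_lt_and_le_two_mul (n / 2) (by omega)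
  haveI := Fact.mk hp
  have hp4 : 3 < p := by omega
  have hp5 : 5 ≤ p := by
    by_contra h5
    obtain rfl : p = 4 := by omega
    norm_num at hp
  have hpn : p < n := by
    rcases (show p ≤ n by omega).lt_or_eq with h' | h'
    · exact h'
    · exfalso
      have h2 : 2 ∣ p := by omega
      have := (hp.eq_one_or_self_of_dvd 2 h2)
      omega
  have hn2p : n < 2 * p := by omega
  obtain ⟨σ, hσ⟩ := exists_prime_orderOf_dvd_card (G := Perm α) p
    (by rw [Fintype.card_perm]; exact Nat.dvd_factorial hp.pos hpn.le)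
  have hcyc : σ.IsCycle := isCycle_of_prime_order' (hσ.symm ▸ hp) (by rw [hσ]; exact hn2p)
  have hcard : σ.support.card = p := by rw [← hcyc.orderOf, hσ]
  have hsign : σ ∈ alternatingGroup α := by
    rw [Perm.mem_alternatingGroup, hcyc.sign, hcard]
    have : Odd p := hp.odd_of_ne_two (by omega)
    rw [this.neg_one_pow, neg_neg]
  obtain ⟨z, hz⟩ : ∃ z, z ∉ σ.support := by
    by_contra! hall
    have : σ.support = Finset.univ := Finset.eq_univ_iff_forall.2 hall
    rw [this, Finset.card_univ] at hcard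
    omega
  obtain ⟨x₀, hx₀⟩ := Finset.card_pos.1 (show 0 < σ.support.card by omega)
  have hx₁ : σ x₀ ∈ σ.support := apply_mem_support.2 hx₀
  have hne : σ x₀ ≠ x₀ := mem_support.1 hx₀
  obtain ⟨a, b, c, ha, hb, hc, hab, hac, hbc⟩ :=
    Finset.two_lt_card_iff.1 (show 2 < ((σ.support.erase x₀).erase (σ x₀)).card by
      rw [Finset.card_erase_of_mem (Finset.mem_erase.2 ⟨hne, hx₁⟩), Finset.card_erase_of_mem hx₀]
      omega)
  simp only [Finset.mem_erase] at ha hb hc
  let m : Perm α := swap a b * swap a c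
  have hmH : m ∈ H := hH (Perm.mem_alternatingGroup.2 (sign_swap_swap hab hac))
  have hmfix : ∀ y, y ≠ a → y ≠ b → y ≠ c → m y = y := fun y h1 h2 h3 => by
    simp only [m, Perm.mul_apply, swap_apply_of_ne_of_ne h1 h3, swap_apply_of_ne_of_ne h1 h2]
  let T : Subgroup ↥H := (setStab σ.support).subgroupOf H
  refine false_of_prime_sylow (p := p) h (center_eq_bot_of_alternating_le H hH (by omega)) ?_
    (σ := ⟨σ, hH hsign⟩) (by rw [← Subgroup.orderOf_coe]; exact hσ) (M := T) ?_ ?_
    (m := ⟨m, hmH⟩) ?_ ?_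
  · intro hd
    have := hd.trans (Subgroup.card_subgroup_dvd_card H)
    rw [Nat.card_eq_fintype_card, Fintype.card_perm] at this
    have hlog : Nat.log p n < 2 := Nat.log_lt_of_lt_pow (by omega)
      (by calc n < 2 * p := hn2p
            _ ≤ p * p := Nat.mul_le_mul_right _ (by omega)
            _ = p ^ 2 := (pow_two p).symm)
    have h2 := (hp.pow_dvd_factorial_iff hlog).1 this
    rw [show Finset.Ico 1 2 = {1} from rfl, Finset.sum_singleton, pow_one] at h2
    have : n / p < 2 := Nat.div_lt_of_lt_mul (by omega)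
    omega
  · intro hT
    obtain ⟨w, hw, hwx⟩ : ∃ w, w ∈ σ.support ∧ w ≠ x₀ := ⟨σ x₀, hx₁, hne⟩
    have hzx : z ≠ x₀ := fun e => hz (e ▸ hx₀)
    have hzw : z ≠ w := fun e => hz (e ▸ hw)
    have hg : swap x₀ w * swap x₀ z ∈ H :=
      hH (Perm.mem_alternatingGroup.2 (sign_swap_swap hwx.symm hzx.symm))
    have hmem := (hT ▸ Subgroup.mem_top (⟨_, hg⟩ : ↥H) : (⟨_, hg⟩ : ↥H) ∈ T)
    have h1 : swap x₀ w (swap x₀ z x₀) ∈ σ.support :=
      ((Subgroup.mem_subgroupOf.1 hmem) x₀).2 hx₀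
    rw [swap_apply_left, swap_apply_of_ne_of_ne hzx hzw] at h1
    exact hz h1
  · rintro ⟨g, hg⟩ hcomm
    have hc' : g * σ = σ * g := congrArg Subtype.val hcomm
    intro x
    show g x ∈ σ.support ↔ x ∈ σ.support
    rw [mem_support, mem_support,
      show σ (g x) = g (σ x) from (congrArg (fun k : Perm α => k x) hc').symm, g.injective.ne_iff]
  · intro x
    show m x ∈ σ.support ↔ x ∈ σ.support
    by_cases h1 : x = a
    · subst h1
      simp [m, ha.2.2, hc.2.2, swap_apply_of_ne_of_ne hac.symm hbc.symm]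
    by_cases h2 : x = b
    · subst h2
      simp [m, ha.2.2, hb.2.2, swap_apply_of_ne_of_ne hab.symm hbc]
    by_cases h3 : x = c
    · subst h3
      simp [m, hb.2.2, hc.2.2]
    rw [hmfix x h1 h2 h3]
  · intro hcomm
    have hc' : m * σ * m⁻¹ * σ = σ * (m * σ * m⁻¹) := congrArg Subtype.val hcomm
    have hm0 : m x₀ = x₀ := hmfix _ (Ne.symm ha.2.1) (Ne.symm hb.2.1) (Ne.symm hc.2.1)
    have hm1 : m (σ x₀) = σ x₀ := hmfix _ (Ne.symm ha.1) (Ne.symm hb.1) (Ne.symm hc.1)
    have hm0' : m⁻¹ x₀ = x₀ := Equiv.symm_apply_eq _ |>.2 hm0.symm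
    have hτ : (m * σ * m⁻¹) x₀ = σ x₀ := by rw [Perm.mul_apply, Perm.mul_apply, hm0', hm1]
    have hτi : ∀ i : ℕ, (m * σ * m⁻¹) ((σ ^ i) x₀) = (σ ^ (i + 1)) x₀ := by
      intro i
      induction i with
      | zero => simpa using hτ
      | succ i ih =>
        calc (m * σ * m⁻¹) ((σ ^ (i + 1)) x₀) = (m * σ * m⁻¹) (σ ((σ ^ i) x₀)) := by
              rw [pow_succ' σ i]; rfl
          _ = σ ((m * σ * m⁻¹) ((σ ^ i) x₀)) :=
              congrArg (fun k : Perm α => k ((σ ^ i) x₀)) hc'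
          _ = σ ((σ ^ (i + 1)) x₀) := congrArg σ ih
          _ = (σ ^ (i + 1 + 1)) x₀ := by rw [pow_succ' σ (i + 1)]; rfl
    have hmi : ∀ i : ℕ, m ((σ ^ i) x₀) = (σ ^ i) x₀ := by
      intro i
      induction i with
      | zero => simpa using hm0
      | succ i ih =>
        have := hτi i
        rw [Perm.mul_apply, Perm.mul_apply, show m⁻¹ ((σ ^ i) x₀) = (σ ^ i) x₀ from
          (Equiv.symm_apply_eq _).2 ih.symm] at this
        rwa [pow_succ' σ i, Perm.mul_apply] at this ⊢
    obtain ⟨i, hi⟩ := hcyc.exists_pow_eq hne (mem_support.1 ha.2.2)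
    have := hmi i
    rw [hi] at this
    simp [m, swap_apply_of_ne_of_ne hac.symm hbc.symm] at this
    exact hac this.symm

end CfsgLib.H29.NilCoverSym

namespace CfsgLib.H29.NilCoverSym

open Equiv Equiv.Perm CfsgLib.NilCover

/-- Transport of a nilpotent minimal cover along an isomorphism. -/
theorem minCover_map {G G' : Type*} [Group G] [Finite G] [Group G'] [Finite G'] (e : G ≃* G')
    {𝓐 : Finset (Subgroup G)} (h : MinCover 𝓐) : ∃ 𝓑 : Finset (Subgroup G'), MinCover 𝓑 := by
  classical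
  let φ : Subgroup G ≃o Subgroup G' := e.mapSubgroup
  refine ⟨𝓐.image φ, ⟨?_, ?_, ?_, ?_⟩⟩
  · simp only [Finset.forall_mem_image]
    intro A hA
    rw [Ne, map_eq_top_iff]
    exact h.proper A hA
  · intro g
    obtain ⟨A, hA, hg⟩ := h.cover (e.symm g)
    exact ⟨φ A, Finset.mem_image_of_mem _ hA, ⟨_, hg, e.apply_symm_apply g⟩⟩
  · intro 𝓑 ⟨hp, hc⟩
    rw [Finset.card_image_of_injective _ φ.injective]
    refine le_trans (h.minimal (𝓑.image φ.symm) ⟨?_, ?_⟩) Finset.card_image_le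
    · simp only [Finset.forall_mem_image]
      intro B hB
      rw [Ne, map_eq_top_iff]
      exact hp B hB
    · intro g
      obtain ⟨B, hB, hg⟩ := hc (e g)
      exact ⟨φ.symm B, Finset.mem_image_of_mem _ hB, ⟨_, hg, e.symm_apply_apply g⟩⟩
  · simp only [Finset.forall_mem_image]
    intro A hA
    haveI := h.nilp A hA
    exact Group.nilpotent_of_mulEquiv (e.subgroupMap A)

set_option maxRecDepth 40000

/-- A three-cycle. -/
def c4 : Perm (Fin 4) := swap 0 1 * swap 1 2

theorem four_facts : orderOf c4 = 3 ∧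
    (∀ g : Perm (Fin 4), g * c4 = c4 * g → sign g = 1) ∧
    (swap 1 2 * swap 2 3) * c4 * (swap 1 2 * swap 2 3)⁻¹ * c4 ≠
      c4 * ((swap 1 2 * swap 2 3) * c4 * (swap 1 2 * swap 2 3)⁻¹) ∧
    sign (swap (1 : Fin 4) 2 * swap 2 3) = 1 := by
  refine ⟨orderOf_eq_prime (p := 3) (by decide) (by decide), by decide, by decide, by decide⟩

theorem sym_four {𝓐 : Finset (Subgroup (Perm (Fin 4)))} (h : MinCover 𝓐) : False := by
  have hz : Subgroup.center (Perm (Fin 4)) = ⊥ := by
    rw [Subgroup.eq_bot_iff_forall]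
    intro g hg
    exact (by decide : ∀ g : Perm (Fin 4), g * swap 0 1 = swap 0 1 * g →
      g * swap 1 2 = swap 1 2 * g → g * swap 2 3 = swap 2 3 * g → g = 1) g
      (Subgroup.mem_center_iff.1 hg _).symm (Subgroup.mem_center_iff.1 hg _).symm
      (Subgroup.mem_center_iff.1 hg _).symm
  haveI := Fact.mk Nat.prime_three
  refine false_of_prime_sylow (p := 3) h hz ?_ four_facts.1 (M := alternatingGroup (Fin 4)) ?_
    (fun g hg => Perm.mem_alternatingGroup.2 (four_facts.2.1 g hg))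
    (Perm.mem_alternatingGroup.2 four_facts.2.2.2) four_facts.2.2.1
  · rw [Nat.card_eq_fintype_card, Fintype.card_perm, Fintype.card_fin]; decide
  · intro ht
    have := Perm.mem_alternatingGroup.1
      (ht ▸ Subgroup.mem_top _ : swap (0 : Fin 4) 1 ∈ alternatingGroup (Fin 4))
    exact absurd this (by decide)

def c5 : Perm (Fin 5) := swap 0 1 * swap 1 2 * swap 2 3 * swap 3 4

def c3 : Perm (Fin 5) := swap 0 1 * swap 1 2

theorem five_sym_facts : orderOf c5 = 5 ∧
    (∀ g : Perm (Fin 5), g * c5 = c5 * g → sign g = 1) ∧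
    (swap 0 1 * swap 1 2) * c5 * (swap 0 1 * swap 1 2)⁻¹ * c5 ≠
      c5 * ((swap 0 1 * swap 1 2) * c5 * (swap 0 1 * swap 1 2)⁻¹) ∧
    sign (swap (0 : Fin 5) 1 * swap 1 2) = 1 := by
  haveI := Fact.mk (show Nat.Prime 5 by norm_num)
  refine ⟨orderOf_eq_prime (p := 5) (by decide) (by decide), by decide, by decide, by decide⟩

theorem five_alt_facts : orderOf c3 = 3 ∧ sign c3 = 1 ∧
    (∀ g : Perm (Fin 5), g * c3 = c3 * g → sign g = 1 → g 3 = 3) ∧
    (swap 0 1 * swap 1 4) * c3 * (swap 0 1 * swap 1 4)⁻¹ * c3 ≠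
      c3 * ((swap 0 1 * swap 1 4) * c3 * (swap 0 1 * swap 1 4)⁻¹) ∧
    sign (swap (0 : Fin 5) 1 * swap 1 4) = 1 ∧ (swap (0 : Fin 5) 1 * swap 1 4 : Perm (Fin 5)) 3 = 3 := by
  haveI := Fact.mk Nat.prime_three
  refine ⟨orderOf_eq_prime (p := 3) (by decide) (by decide), by decide, by decide, by decide,
    by decide, by decide⟩

theorem sym_five {𝓐 : Finset (Subgroup (Perm (Fin 5)))} (h : MinCover 𝓐) : False := by
  have hz : Subgroup.center (Perm (Fin 5)) = ⊥ := by
    rw [Subgroup.eq_bot_iff_forall]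
    intro g hg
    exact (by decide : ∀ g : Perm (Fin 5), g * swap 0 1 = swap 0 1 * g →
      g * swap 1 2 = swap 1 2 * g → g * swap 2 3 = swap 2 3 * g → g * swap 3 4 = swap 3 4 * g → g = 1) g
      (Subgroup.mem_center_iff.1 hg _).symm (Subgroup.mem_center_iff.1 hg _).symm
      (Subgroup.mem_center_iff.1 hg _).symm (Subgroup.mem_center_iff.1 hg _).symm
  haveI := Fact.mk (show Nat.Prime 5 by norm_num)
  refine false_of_prime_sylow (p := 5) h hz ?_ five_sym_facts.1 (M := alternatingGroup (Fin 5)) ?_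
    (fun g hg => Perm.mem_alternatingGroup.2 (five_sym_facts.2.1 g hg))
    (Perm.mem_alternatingGroup.2 five_sym_facts.2.2.2) five_sym_facts.2.2.1
  · rw [Nat.card_eq_fintype_card, Fintype.card_perm, Fintype.card_fin]; decide
  · intro ht
    have := Perm.mem_alternatingGroup.1
      (ht ▸ Subgroup.mem_top _ : swap (0 : Fin 5) 1 ∈ alternatingGroup (Fin 5))
    exact absurd this (by decide)

theorem alt_five {𝓐 : Finset (Subgroup ↥(alternatingGroup (Fin 5)))} (h : MinCover 𝓐) : False := by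
  haveI := Fact.mk Nat.prime_three
  obtain ⟨h1, h2, h3, h4, h5, h6⟩ := five_alt_facts
  refine false_of_prime_sylow (p := 3) h
    (center_eq_bot_of_alternating_le _ le_rfl (by simp)) ?_
    (σ := ⟨c3, Perm.mem_alternatingGroup.2 h2⟩) (by rw [← Subgroup.orderOf_coe]; exact h1)
    (M := (MulAction.stabilizer (Perm (Fin 5)) (3 : Fin 5)).subgroupOf _) ?_
    (fun g hg => h3 g (congrArg Subtype.val hg) (Perm.mem_alternatingGroup.1 g.2))
    (m := ⟨_, Perm.mem_alternatingGroup.2 h5⟩) h6 (fun e => h4 (congrArg Subtype.val e))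
  · intro hd
    have := hd.trans (Subgroup.card_subgroup_dvd_card _)
    rw [Nat.card_eq_fintype_card, Fintype.card_perm, Fintype.card_fin] at this
    exact absurd this (by decide)
  · intro ht
    have hs : sign (swap (3 : Fin 5) 0 * swap 3 1) = 1 := by decide
    have := Subgroup.mem_subgroupOf.1
      (ht ▸ Subgroup.mem_top (⟨_, Perm.mem_alternatingGroup.2 hs⟩ : ↥(alternatingGroup (Fin 5))))
    exact absurd this (by decide : (swap (3 : Fin 5) 0 * swap 3 1 : Perm (Fin 5)) 3 ≠ 3)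

theorem alternating (n : ℕ) (hn : 5 ≤ n) {𝓐 : Finset (Subgroup ↥(alternatingGroup (Fin n)))}
    (h : MinCover 𝓐) : False := by
  rcases hn.eq_or_lt with rfl | hn
  · exact alt_five h
  · exact no_cover _ le_rfl (by rw [Fintype.card_fin]; exact hn) h

theorem symmetric (n : ℕ) (hn : 4 ≤ n) {𝓐 : Finset (Subgroup (Perm (Fin n)))}
    (h : MinCover 𝓐) : False := by
  rcases (show n = 4 ∨ n = 5 ∨ 6 ≤ n by omega) with rfl | rfl | hn
  · exact sym_four h
  · exact sym_five h
  · obtain ⟨𝓑, h'⟩ := minCover_map Subgroup.topEquiv.symm h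
    exact no_cover ⊤ le_top (by rw [Fintype.card_fin]; exact hn) h'

end CfsgLib.H29.NilCoverSym
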