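import Mathlib

/-! Endomorphisms of finite order prime to the characteristic. -/

set_option autoImplicit false

namespace Cfsg.Agent.H29.Semisimple

open Polynomial Module

variable {F : Type*} [Field F]

theorem exists_kill {V : Type*} [AddCommGroup V] [Module F V] [FiniteDimensional F V]
    (a : Module.End F V) (f : F[X]) (hf : Irreducible f) (hdvd : f ∣ LinearMap.charpoly a) :
    ∃ v : V, v ≠ 0 ∧ (aeval a f) v = 0 := by
  classical
  haveI := Fact.mk hf
  let b := Module.finBasis F V
  set M := LinearMap.toMatrix b b a with hM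
  let φ := algebraMap F (AdjoinRoot f)
  have hroot : ((M.map φ).charpoly).IsRoot (AdjoinRoot.root f) := by
    rw [Matrix.charpoly_map, hM, LinearMap.charpoly_toMatrix, IsRoot.def, eval_map]
    obtain ⟨g, hg⟩ := hdvd
    rw [hg, eval₂_mul]
    show eval₂ (AdjoinRoot.of f) _ f * _ = 0
    rw [AdjoinRoot.eval₂_root, zero_mul]
  obtain ⟨w, hw0, hw⟩ : ∃ w, w ≠ 0 ∧ Matrix.mulVec (M.map φ) w = (AdjoinRoot.root f) • w := by
    have hd : (Matrix.scalar _ (AdjoinRoot.root f) - M.map φ).det = 0 := by
      rw [← Matrix.eval_charpoly]; exact hroot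
    obtain ⟨w, hw0, hw⟩ := Matrix.exists_mulVec_eq_zero_iff.mpr hd
    refine ⟨w, hw0, ?_⟩
    rw [Matrix.sub_mulVec, sub_eq_zero] at hw
    rw [← hw]
    ext i; simp [Matrix.mulVec_diagonal]
  have hP : ∀ P : F[X], Matrix.mulVec ((aeval M P).map φ) w =
      (P.map φ).eval (AdjoinRoot.root f) • w := by
    intro P
    induction P using Polynomial.induction_on' with
    | add P Q hP hQ =>
      rw [map_add, Matrix.map_add _ (fun _ _ => map_add φ _ _), Matrix.add_mulVec, hP, hQ,
        Polynomial.map_add, eval_add, add_smul]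
    | monomial k c =>
      induction k with
      | zero =>
        simp only [monomial_zero_left, aeval_C, Polynomial.map_C, eval_C]
        ext i
        simp [Matrix.algebraMap_eq_diagonal, Matrix.diagonal_map, Matrix.mulVec_diagonal]
      | succ k ih =>
        rw [← monomial_mul_X, map_mul, aeval_X, Matrix.map_mul, ← Matrix.mulVec_mulVec, hw,
          Matrix.mulVec_smul, ih, Polynomial.map_mul, Polynomial.map_X, eval_mul, eval_X, smul_smul,
          mul_comm]
  have hdet : (aeval M f).det = 0 := by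
    apply φ.injective
    rw [RingHom.map_det, map_zero, RingHom.mapMatrix_apply]
    refine Matrix.exists_mulVec_eq_zero_iff.mp ⟨w, hw0, ?_⟩
    rw [hP, eval_map, show eval₂ φ (AdjoinRoot.root f) f = 0 from AdjoinRoot.eval₂_root f, zero_smul]
  have hd : LinearMap.det (aeval a f) = 0 := by
    rw [← LinearMap.det_toMatrix b, ← hdet]
    congr 1
    exact (aeval_algHom_apply (LinearMap.toMatrixAlgEquiv b).toAlgHom a f).symm
  by_contra hcon
  push Not at hcon
  have : LinearMap.ker (aeval a f) = ⊥ :=
    LinearMap.ker_eq_bot'.mpr fun v hv => by_contra fun h0 => hcon v h0 hv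
  exact (bot_lt_iff_ne_bot.mp (LinearMap.bot_lt_ker_of_det_eq_zero hd)) this

variable {V : Type*} [AddCommGroup V] [Module F V] [FiniteDimensional F V]

theorem decomp (a : Module.End F V) {m : ℕ} (hm : (m : F) ≠ 0) (ham : a ^ m = 1) (f : F[X])
    (hf : Irreducible f) (hfm : f.Monic) (hdvd : f ∣ LinearMap.charpoly a) :
    ∃ (V' : Submodule F V) (hV : ∀ x ∈ V', a x ∈ V') (e : (AdjoinRoot f × V') ≃ₗ[F] V),
      ∀ x, a (e x) = e (LinearMap.prodMap (LinearMap.mulLeft F (AdjoinRoot.root f)) (a.restrict hV) x) := by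
  classical
  haveI := Fact.mk hf
  obtain ⟨v, hv0, hv⟩ := exists_kill a f hf hdvd
  let ψ : AdjoinRoot f →ₗ[F] V :=
    (LinearMap.applyₗ v) ∘ₗ (aeval a).toLinearMap ∘ₗ AdjoinRoot.modByMonicHom hfm
  have hψmk : ∀ P : F[X], ψ (AdjoinRoot.mk f P) = aeval a P v := by
    intro P
    show aeval a (AdjoinRoot.modByMonicHom hfm (AdjoinRoot.mk f P)) v = _
    rw [AdjoinRoot.modByMonicHom_mk, modByMonic_eq_sub_mul_div, map_sub, mul_comm f, map_mul,
      LinearMap.sub_apply, Module.End.mul_apply, hv, map_zero, sub_zero]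
  set R := LinearMap.mulLeft F (AdjoinRoot.root f) with hR
  have hψR : ∀ g, a (ψ g) = ψ (R g) := by
    intro g
    obtain ⟨P, rfl⟩ := AdjoinRoot.mk_surjective g
    rw [hR, LinearMap.mulLeft_apply, ← AdjoinRoot.mk_X, ← map_mul, hψmk, hψmk, map_mul, aeval_X,
      Module.End.mul_apply]
  have hψinj : Function.Injective ψ := by
    rw [← LinearMap.ker_eq_bot, LinearMap.ker_eq_bot']
    intro g hg
    by_contra hg0
    obtain ⟨Q, hQ⟩ := AdjoinRoot.mk_surjective g⁻¹
    obtain ⟨P, rfl⟩ := AdjoinRoot.mk_surjective g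
    apply hv0
    have h1 : AdjoinRoot.mk f (Q * P) = AdjoinRoot.mk f 1 := by
      rw [map_mul, hQ, inv_mul_cancel₀ hg0, map_one]
    have h2 := congrArg ψ h1
    rw [hψmk, hψmk, map_mul, map_one, Module.End.mul_apply, ← hψmk P, hg, map_zero,
      Module.End.one_apply] at h2
    exact h2.symm
  have hψpow : ∀ (k : ℕ) g, (a ^ k) (ψ g) = ψ ((R ^ k) g) := by
    intro k
    induction k with
    | zero => simp
    | succ k ih => intro g; rw [pow_succ', Module.End.mul_apply, ih, hψR, pow_succ', Module.End.mul_apply]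
  have hRm : R ^ m = 1 := by
    refine LinearMap.ext fun g => hψinj ?_
    rw [← hψpow, ham]; rfl
  obtain ⟨π₀, hπ₀⟩ := LinearMap.exists_leftInverse_of_injective ψ (LinearMap.ker_eq_bot.mpr hψinj)
  let π : V →ₗ[F] AdjoinRoot f :=
    (m : F)⁻¹ • ∑ i ∈ Finset.range m, (R ^ i) ∘ₗ π₀ ∘ₗ (a ^ (m - i))
  have hπψ : ∀ g, π (ψ g) = g := by
    intro g
    have : ∀ i ∈ Finset.range m, ((R ^ i) ∘ₗ π₀ ∘ₗ (a ^ (m - i))) (ψ g) = g := by
      intro i hi
      rw [LinearMap.comp_apply, LinearMap.comp_apply, hψpow]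
      have h0 : π₀ (ψ ((R ^ (m - i)) g)) = (R ^ (m - i)) g := LinearMap.congr_fun hπ₀ _
      rw [h0, ← Module.End.mul_apply, ← pow_add,
        Nat.add_sub_cancel' (Finset.mem_range.mp hi).le, hRm]
      rfl
    simp only [π, LinearMap.smul_apply, LinearMap.sum_apply]
    rw [Finset.sum_congr rfl this, Finset.sum_const, Finset.card_range, ← Nat.cast_smul_eq_nsmul F,
      smul_smul, inv_mul_cancel₀ hm, one_smul]
  have hπa : ∀ x, π (a x) = R (π x) := by
    intro x
    simp only [π, LinearMap.smul_apply, LinearMap.sum_apply, map_smul, map_sum]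
    congr 1
    let g : ℕ → AdjoinRoot f := fun i => (R ^ i) (π₀ ((a ^ (m + 1 - i)) x))
    have l1 : ∀ i ∈ Finset.range m, ((R ^ i) ∘ₗ π₀ ∘ₗ (a ^ (m - i))) (a x) = g i := by
      intro i hi
      simp only [g, LinearMap.comp_apply]
      rw [show m + 1 - i = (m - i) + 1 by have := Finset.mem_range.mp hi; omega, pow_succ,
        Module.End.mul_apply]
    have l2 : ∀ i ∈ Finset.range m, R (((R ^ i) ∘ₗ π₀ ∘ₗ (a ^ (m - i))) x) = g (i + 1) := by
      intro i hi
      simp only [g, LinearMap.comp_apply]
      rw [show m + 1 - (i + 1) = m - i by omega, pow_succ' R, Module.End.mul_apply]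
    rw [Finset.sum_congr rfl l1, Finset.sum_congr rfl l2]
    have h3 := Finset.sum_range_succ' g m
    rw [Finset.sum_range_succ] at h3
    have hg : g m = g 0 := by
      simp only [g]
      rw [hRm, show m + 1 - m = 1 by omega, Nat.sub_zero, pow_succ a m, ham, one_mul, pow_zero, pow_one]
    rw [hg] at h3
    exact add_right_cancel h3
  let V' := LinearMap.ker π
  have hV : ∀ x ∈ V', a x ∈ V' := fun x hx => by
    rw [LinearMap.mem_ker, hπa, show π x = 0 from hx, map_zero]
  let e : (AdjoinRoot f × V') ≃ₗ[F] V :=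
    { (ψ.coprod V'.subtype) with
      invFun := fun x => (π x, ⟨x - ψ (π x), by rw [LinearMap.mem_ker, map_sub, hπψ, sub_self]⟩)
      left_inv := fun x => by
        have h2 : π (x.2 : V) = 0 := x.2.2
        refine Prod.ext ?_ (Subtype.ext ?_)
        · simp [hπψ, h2]
        · simp [hπψ, h2]
      right_inv := fun x => by simp }
  refine ⟨V', hV, e, fun x => ?_⟩
  show a (ψ x.1 + (x.2 : V)) = ψ (R x.1) + ((a.restrict hV x.2 : V') : V)
  rw [map_add, hψR]
  rfl

theorem restrict_pow (a : Module.End F V) {m : ℕ} (ham : a ^ m = 1) {V' : Submodule F V}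
    (hV : ∀ x ∈ V', a x ∈ V') : (a.restrict hV) ^ m = 1 := by
  rw [Module.End.pow_restrict m]
  ext x
  simp [ham]

/-- Similarity of endomorphisms of order prime to the characteristic with equal characteristic polynomials. -/
theorem similar : ∀ (n : ℕ) {V W : Type _} [AddCommGroup V] [Module F V] [FiniteDimensional F V]
    [AddCommGroup W] [Module F W] [FiniteDimensional F W] (a : Module.End F V) (b : Module.End F W)
    {m : ℕ}, (m : F) ≠ 0 → a ^ m = 1 → b ^ m = 1 → finrank F V = n →
    LinearMap.charpoly a = LinearMap.charpoly b → ∃ e : V ≃ₗ[F] W, ∀ x, e (a x) = b (e x) := by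
  intro n
  induction n using Nat.strong_induction_on with
  | _ n ih =>
    intro V W _ _ _ _ _ _ a b m hm ham hbm hn hc
    have hdim : finrank F W = n := by
      rw [← LinearMap.charpoly_natDegree b, ← hc, LinearMap.charpoly_natDegree, hn]
    by_cases h0 : n = 0
    · refine ⟨LinearEquiv.ofFinrankEq V W (hn.trans hdim.symm), fun x => ?_⟩
      have : Subsingleton W := Module.finrank_zero_iff.mp (hdim.trans h0)
      exact Subsingleton.elim _ _
    obtain ⟨f, hfm, hfi, hfd⟩ := exists_monic_irreducible_factor (LinearMap.charpoly a)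
      (not_isUnit_of_natDegree_pos _ (by rw [LinearMap.charpoly_natDegree, hn]; omega))
    haveI := Fact.mk hfi
    haveI := hfm.finite_adjoinRoot
    obtain ⟨V', hV', e, he⟩ := decomp a hm ham f hfi hfm hfd
    obtain ⟨W', hW', d, hd⟩ := decomp b hm hbm f hfi hfm (hc ▸ hfd)
    set R := LinearMap.mulLeft F (AdjoinRoot.root f)
    have hca : LinearMap.charpoly a = LinearMap.charpoly R * LinearMap.charpoly (a.restrict hV') := by
      rw [← LinearMap.charpoly_prodMap, ← e.charpoly_conj (LinearMap.prodMap R (a.restrict hV'))]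
      congr 1
      refine LinearMap.ext fun x => ?_
      rw [LinearEquiv.conj_apply_apply, ← he, e.apply_symm_apply]
    have hcb : LinearMap.charpoly b = LinearMap.charpoly R * LinearMap.charpoly (b.restrict hW') := by
      rw [← LinearMap.charpoly_prodMap, ← d.charpoly_conj (LinearMap.prodMap R (b.restrict hW'))]
      congr 1
      refine LinearMap.ext fun x => ?_
      rw [LinearEquiv.conj_apply_apply, ← hd, d.apply_symm_apply]
    have hc' : LinearMap.charpoly (a.restrict hV') = LinearMap.charpoly (b.restrict hW') :=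
      mul_left_cancel₀ (LinearMap.charpoly_monic R).ne_zero (hca.symm.trans (hc.trans hcb))
    have hlt : finrank F V' < n := by
      have := e.finrank_eq
      rw [Module.finrank_prod, hn] at this
      have hp : 0 < finrank F (AdjoinRoot f) := Module.finrank_pos
      omega
    obtain ⟨k, hk⟩ := ih _ hlt (a.restrict hV') (b.restrict hW') hm (restrict_pow a ham hV')
      (restrict_pow b hbm hW') rfl hc'
    refine ⟨e.symm.trans (((LinearEquiv.refl F _).prodCongr k).trans d), fun x => ?_⟩
    obtain ⟨y, rfl⟩ := e.surjective x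
    rw [he]
    simp only [LinearEquiv.trans_apply, LinearEquiv.symm_apply_apply, hd]
    congr 1
    exact Prod.ext rfl (hk y.2)

/-- The centraliser of an endomorphism of order prime to the characteristic has every determinant. -/
theorem exists_commute_det [Finite F] (a : Module.End F V) {m : ℕ} (hm : (m : F) ≠ 0)
    (ham : a ^ m = 1) (hn : 0 < finrank F V) {c : F} (hc : c ≠ 0) :
    ∃ h : Module.End F V, Commute h a ∧ LinearMap.det h = c := by
  obtain ⟨f, hfm, hfi, hfd⟩ := exists_monic_irreducible_factor (LinearMap.charpoly a)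
    (not_isUnit_of_natDegree_pos _ (by rw [LinearMap.charpoly_natDegree]; omega))
  haveI := Fact.mk hfi
  haveI := hfm.finite_adjoinRoot
  haveI : Finite (AdjoinRoot f) := Module.finite_of_finite F
  obtain ⟨V', hV', e, he⟩ := decomp a hm ham f hfi hfm hfd
  obtain ⟨u, hu⟩ := FiniteField.norm_surjective F (AdjoinRoot f) c
  refine ⟨e.conj (LinearMap.prodMap (LinearMap.mulLeft F u) LinearMap.id), ?_, ?_⟩
  · refine LinearMap.ext fun x => ?_
    obtain ⟨y, rfl⟩ := e.surjective x
    rw [Module.End.mul_apply, Module.End.mul_apply, he, LinearEquiv.conj_apply_apply,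
      LinearEquiv.conj_apply_apply, LinearEquiv.symm_apply_apply, LinearEquiv.symm_apply_apply, he]
    congr 1
    refine Prod.ext ?_ rfl
    show u * (AdjoinRoot.root f * y.1) = AdjoinRoot.root f * (u * y.1)
    ring
  · rw [LinearEquiv.conj_apply, LinearMap.comp_assoc, LinearMap.det_conj, LinearMap.det_prodMap,
      LinearMap.det_id, mul_one, ← hu, Algebra.norm_apply]
    rfl

theorem exists_pow_unit {p : ℕ} [Fact p.Prime] [CharP F p] {m : ℕ} (h : Nat.Coprime m p) :
    (m : F) ≠ 0 := by
  rw [Ne, CharP.cast_eq_zero_iff F p]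
  exact ((Fact.out : p.Prime).coprime_iff_not_dvd.mp h.symm)

end Cfsg.Agent.H29.Semisimple
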