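import Mathlib
import Cfsg.Agent.H29.Semisimple

/-! Semisimple classes and polynomials. -/

set_option autoImplicit false

namespace Cfsg.Agent.H29.Semisimple

open Polynomial Module

variable {F : Type*} [Field F] [Fintype F]

theorem exists_endo : ∀ (n : ℕ) (f : F[X]), f.Monic → f.natDegree = n → f.eval 0 ≠ 0 →
    ∃ (a : Module.End F (Fin n → F)) (m : ℕ), (m : F) ≠ 0 ∧ a ^ m = 1 ∧ LinearMap.charpoly a = f := by
  intro n
  induction n using Nat.strong_induction_on with
  | _ n ih =>
    intro f hfm hdeg hf0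
    rcases Nat.eq_zero_or_pos n with rfl | hn
    · refine ⟨1, 1, by simp, one_pow _, ?_⟩
      rw [hfm.natDegree_eq_zero.mp hdeg]
      refine (LinearMap.charpoly_monic _).natDegree_eq_zero.mp ?_
      rw [LinearMap.charpoly_natDegree, Module.finrank_fin_fun]
    · obtain ⟨g, hgm, hgi, h, rfl⟩ := exists_monic_irreducible_factor f
        (not_isUnit_of_natDegree_pos _ (by omega))
      have hhm : h.Monic := hgm.of_mul_monic_left hfm
      rw [eval_mul, mul_ne_zero_iff] at hf0
      rw [hgm.natDegree_mul hhm] at hdeg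
      have hgd : 0 < g.natDegree := hgi.natDegree_pos
      obtain ⟨b, k, hk, hbk, hb⟩ := ih h.natDegree (by omega) h hhm rfl hf0.2
      haveI := Fact.mk hgi
      haveI := hgm.finite_adjoinRoot
      haveI : Finite (AdjoinRoot g) := Module.finite_of_finite F
      set Q := Nat.card (AdjoinRoot g) with hQ
      set R := LinearMap.mulLeft F (AdjoinRoot.root g) with hR
      have hQ1 : 1 < Q := Finite.one_lt_card
      have hQF : (Q : F) = 0 := by
        rw [hQ, Module.natCard_eq_pow_finrank (K := F), Nat.cast_pow, Nat.card_eq_fintype_card,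
          FiniteField.cast_card_eq_zero, zero_pow Module.finrank_pos.ne']
      have hroot : AdjoinRoot.root g ≠ 0 := by
        intro h0
        apply hf0.1
        have := AdjoinRoot.eval₂_root g
        rw [h0, eval₂_at_zero] at this
        rw [← coeff_zero_eq_eval_zero]
        exact (AdjoinRoot.of g).injective (this.trans (map_zero _).symm)
      have hRQ : R ^ (Q - 1) = 1 := by
        rw [hR, LinearMap.pow_mulLeft]
        have : Fintype (AdjoinRoot g) := Fintype.ofFinite _
        rw [hQ, Nat.card_eq_fintype_card, FiniteField.pow_card_sub_one_eq_one _ hroot,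
          LinearMap.mulLeft_one]
        rfl
      have hcR : LinearMap.charpoly R = g := by
        rw [← LinearMap.charpoly_toMatrix R (AdjoinRoot.powerBasis' hgm).basis]
        have : LinearMap.toMatrix (AdjoinRoot.powerBasis' hgm).basis (AdjoinRoot.powerBasis' hgm).basis R =
            Algebra.leftMulMatrix (AdjoinRoot.powerBasis' hgm).basis (AdjoinRoot.powerBasis' hgm).gen := by
          rw [Algebra.leftMulMatrix_apply, AdjoinRoot.powerBasis'_gen]; rfl
        rw [this, charpoly_leftMulMatrix, AdjoinRoot.powerBasis'_gen, AdjoinRoot.minpoly_root hgi.ne_zero,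
          hgm.leadingCoeff, inv_one, map_one, mul_one]
      let e : (AdjoinRoot g × (Fin h.natDegree → F)) ≃ₗ[F] (Fin n → F) :=
        LinearEquiv.ofFinrankEq _ _ (by
          rw [Module.finrank_prod, Module.finrank_fin_fun, Module.finrank_fin_fun, ← hdeg,
            (AdjoinRoot.powerBasis' hgm).finrank, AdjoinRoot.powerBasis'_dim])
      refine ⟨e.conjAlgEquiv F (LinearMap.prodMap R b), (Q - 1) * k, ?_, ?_, ?_⟩
      · rw [Nat.cast_mul]
        refine mul_ne_zero ?_ hk
        rw [Nat.cast_sub hQ1.le, hQF, Nat.cast_one, zero_sub]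
        exact neg_ne_zero.mpr one_ne_zero
      · rw [← map_pow]
        have hp : ∀ j : ℕ, (LinearMap.prodMap R b) ^ j = LinearMap.prodMap (R ^ j) (b ^ j) := by
          intro j
          induction j with
          | zero => rfl
          | succ j ih => rw [pow_succ, ih, pow_succ, pow_succ]; rfl
        rw [hp, pow_mul R, hRQ, one_pow, mul_comm, pow_mul, hbk, one_pow]
        exact map_one (e.conjAlgEquiv F)
      · show LinearMap.charpoly (e.conj (LinearMap.prodMap R b)) = _
        rw [LinearEquiv.charpoly_conj, LinearMap.charpoly_prodMap, hcR, hb]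

theorem exists_matrix {n : ℕ} (p : ℕ) [Fact p.Prime] [CharP F p] (f : F[X]) (hfm : f.Monic)
    (hdeg : f.natDegree = n) (hf0 : f.eval 0 ≠ 0) :
    ∃ x : GL (Fin n) F, (orderOf x).Coprime p ∧ (x : Matrix (Fin n) (Fin n) F).charpoly = f := by
  obtain ⟨a, m, hm, ham, hc⟩ := exists_endo n f hfm hdeg hf0
  set M := LinearMap.toMatrixAlgEquiv' a with hM
  have hMm : M ^ m = 1 := by rw [hM, ← map_pow, ham, map_one]
  have hm0 : m ≠ 0 := fun h => hm (by rw [h, Nat.cast_zero])
  obtain ⟨x, hx⟩ : IsUnit M := IsUnit.of_pow_eq_one hMm hm0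
  refine ⟨x, ?_, ?_⟩
  · have hxm : x ^ m = 1 := Units.ext (by rw [Units.val_pow_eq_pow_val, hx, hMm]; rfl)
    refine ((Fact.out : p.Prime).coprime_iff_not_dvd.mpr fun hd => hm ?_).symm
    rw [CharP.cast_eq_zero_iff F p]
    exact hd.trans (orderOf_dvd_of_pow_eq_one hxm)
  · rw [hx, ← hc, ← LinearMap.charpoly_toMatrix a (Pi.basisFun F (Fin n)), LinearMap.toMatrix_eq_toMatrix']
    rfl

/-- Similar semisimple matrices: equal characteristic polynomials suffice. -/
theorem gl_conj_of_charpoly {n : ℕ} {p : ℕ} [Fact p.Prime] [CharP F p] (g h : GL (Fin n) F)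
    (hg : (orderOf g).Coprime p) (hh : (orderOf h).Coprime p)
    (hc : (g : Matrix (Fin n) (Fin n) F).charpoly = (h : Matrix (Fin n) (Fin n) F).charpoly) :
    IsConj g h := by
  classical
  set m := orderOf g * orderOf h with hmdef
  have hm : (m : F) ≠ 0 := by
    rw [hmdef, Nat.cast_mul]
    exact mul_ne_zero (exists_pow_unit hg) (exists_pow_unit hh)
  set a : Module.End F (Fin n → F) := Matrix.toLinAlgEquiv' (g : Matrix (Fin n) (Fin n) F) with ha
  set b : Module.End F (Fin n → F) := Matrix.toLinAlgEquiv' (h : Matrix (Fin n) (Fin n) F) with hb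
  have ham : a ^ m = 1 := by
    rw [ha, ← map_pow, ← Units.val_pow_eq_pow_val, hmdef, pow_mul, pow_orderOf_eq_one,
      one_pow, Units.val_one, map_one]
  have hbm : b ^ m = 1 := by
    rw [hb, ← map_pow, ← Units.val_pow_eq_pow_val, hmdef, mul_comm, pow_mul, pow_orderOf_eq_one,
      one_pow, Units.val_one, map_one]
  have hcc : LinearMap.charpoly a = LinearMap.charpoly b := by
    rw [← LinearMap.charpoly_toMatrix a (Pi.basisFun F (Fin n)),
      ← LinearMap.charpoly_toMatrix b (Pi.basisFun F (Fin n)), LinearMap.toMatrix_eq_toMatrix']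
    show (LinearMap.toMatrix' (Matrix.toLin' (g : Matrix (Fin n) (Fin n) F))).charpoly =
      (LinearMap.toMatrix' (Matrix.toLin' (h : Matrix (Fin n) (Fin n) F))).charpoly
    rw [LinearMap.toMatrix'_toLin', LinearMap.toMatrix'_toLin', hc]
  obtain ⟨e, he⟩ := similar (Module.finrank F (Fin n → F)) a b hm ham hbm rfl hcc
  set E := LinearMap.toMatrix' (e : (Fin n → F) →ₗ[F] (Fin n → F)) with hE
  have hEu : IsUnit E := by
    refine ⟨⟨E, LinearMap.toMatrix' (e.symm : (Fin n → F) →ₗ[F] (Fin n → F)), ?_, ?_⟩, rfl⟩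
    · rw [hE, ← LinearMap.toMatrix'_comp, e.comp_symm, LinearMap.toMatrix'_id]
    · rw [hE, ← LinearMap.toMatrix'_comp, e.symm_comp, LinearMap.toMatrix'_id]
  refine isConj_iff.mpr ⟨hEu.unit, ?_⟩
  rw [mul_inv_eq_iff_eq_mul]
  refine Units.ext ?_
  show E * (g : Matrix (Fin n) (Fin n) F) = (h : Matrix (Fin n) (Fin n) F) * E
  rw [← LinearMap.toMatrix'_toLin' (g : Matrix (Fin n) (Fin n) F),
    ← LinearMap.toMatrix'_toLin' (h : Matrix (Fin n) (Fin n) F), hE, ← LinearMap.toMatrix'_comp,
    ← LinearMap.toMatrix'_comp]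
  congr 1
  exact LinearMap.ext he

/-- Coefficient vector of the characteristic polynomial. -/
noncomputable def coeffs {n : ℕ} (M : Matrix (Fin n) (Fin n) F) (i : Fin n) : F := M.charpoly.coeff i

theorem charpoly_eq_of_coeffs {n : ℕ} {M N : Matrix (Fin n) (Fin n) F} (h : coeffs M = coeffs N) :
    M.charpoly = N.charpoly := by
  ext i
  have hd : ∀ M : Matrix (Fin n) (Fin n) F, M.charpoly.natDegree = n := fun M => by
    rw [Matrix.charpoly_natDegree_eq_dim, Fintype.card_fin]
  rcases lt_trichotomy i n with hi | rfl | hi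
  · exact congrFun h ⟨i, hi⟩
  · have h1 := (Matrix.charpoly_monic M).coeff_natDegree
    have h2 := (Matrix.charpoly_monic N).coeff_natDegree
    rw [hd] at h1 h2; rw [h1, h2]
  · rw [coeff_eq_zero_of_natDegree_lt (by rw [hd M]; exact hi), coeff_eq_zero_of_natDegree_lt (by rw [hd N]; exact hi)]

theorem exists_coeffs {n : ℕ} (p : ℕ) [Fact p.Prime] [CharP F p] (hn : 1 ≤ n) (c : Fin n → F)
    (hc : c ⟨0, hn⟩ ≠ 0) :
    ∃ x : GL (Fin n) F, (orderOf x).Coprime p ∧ coeffs (x : Matrix (Fin n) (Fin n) F) = c := by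
  classical
  set s : F[X] := ∑ i : Fin n, monomial (i : ℕ) (c i) with hs
  have hco : ∀ i : Fin n, s.coeff i = c i := by
    intro i
    rw [hs, finsetSum_coeff]
    simp [coeff_monomial, Fin.val_inj]
  have hsd : s.degree < (n : ℕ) := by
    refine lt_of_le_of_lt (degree_sum_le _ _) ((Finset.sup_lt_iff (by exact WithBot.bot_lt_coe n)).mpr fun i _ => ?_)
    exact lt_of_le_of_lt (degree_monomial_le _ _) (by exact_mod_cast i.2)
  set f := X ^ n + s with hf
  have hfm : f.Monic := monic_X_pow_add hsd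
  have hfd : f.natDegree = n := by
    rw [hf]; exact natDegree_eq_of_degree_eq_some (by rw [degree_add_eq_left_of_degree_lt (by rwa [degree_X_pow]), degree_X_pow])
  have hfc : ∀ i : Fin n, f.coeff i = c i := fun i => by
    rw [hf, coeff_add, coeff_X_pow, if_neg (Nat.ne_of_lt i.2), zero_add, hco]
  obtain ⟨x, hx, hxc⟩ := exists_matrix p f hfm hfd (by
    rw [← coeff_zero_eq_eval_zero]
    have := hfc ⟨0, hn⟩
    simp only at this
    rwa [this])
  exact ⟨x, hx, funext fun i => by rw [coeffs, hxc, hfc]⟩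

end Cfsg.Agent.H29.Semisimple
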