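import Mathlib

/-! Soft subgroups of finite p-groups (Héthelyi): overgroups form a chain. -/

set_option autoImplicit false

namespace Cfsg.Agent.H29.SoftSubgroup

open Subgroup

universe u

variable {P : Type u} [Group P] [Finite P]

/-- abelian, self-centralizing, of index p in its normalizer -/
structure IsSoft (p : ℕ) (E : Subgroup P) : Prop where
  comm : IsMulCommutative ↥E
  cent : centralizer (E : Set P) ≤ E
  idx : E.relIndex (normalizer (E : Set P)) = p

/-- the conclusion about overgroups -/
def Chain (p : ℕ) (E : Subgroup P) : Prop :=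
  (∀ K L : Subgroup P, E ≤ K → E ≤ L → K ≤ L ∨ L ≤ K) ∧
    ∀ K : Subgroup P, E ≤ K → K ≠ ⊤ → K.relIndex (normalizer (K : Set P)) = p

theorem card_mul_relIndex {H K : Subgroup P} (h : H ≤ K) :
    H.relIndex K * Nat.card ↥H = Nat.card ↥K := by
  rw [← Subgroup.relIndex_bot_left, ← Subgroup.relIndex_bot_left, mul_comm]
  exact Subgroup.relIndex_mul_relIndex _ _ _ bot_le h

theorem card_conj (E : Subgroup P) (g : P) :
    Nat.card ↥(E.map (MulAut.conj g).toMonoidHom) = Nat.card ↥E :=
  Subgroup.card_map_of_injective (MulAut.conj g).injective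

theorem mem_normalizer_of_le {E : Subgroup P} {g : P}
    (h : E.map (MulAut.conj g).toMonoidHom ≤ E) : g ∈ normalizer (E : Set P) := by
  have he := Subgroup.eq_of_le_of_card_ge h (card_conj E g).ge
  rw [Subgroup.mem_normalizer_iff]
  intro x
  constructor
  · intro hx
    rw [← he]
    exact ⟨x, hx, by simp⟩
  · intro hx
    rw [← he] at hx
    obtain ⟨y, hy, hxy⟩ := hx
    have : y = x := by simpa using hxy
    exact this ▸ hy

theorem exists_mem_normalizer {p : ℕ} [Fact p.Prime] (hP : IsPGroup p P) {H K : Subgroup P}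
    (hlt : H < K) : ∃ x ∈ K, x ∉ H ∧ x ∈ normalizer (H : Set P) := by
  haveI : Group.IsNilpotent ↥K := (hP.to_subgroup K).isNilpotent
  have hne : H.subgroupOf K < ⊤ := by
    rw [lt_top_iff_ne_top, Ne, Subgroup.subgroupOf_eq_top]
    exact hlt.not_ge
  obtain ⟨x, hx, hxH⟩ := SetLike.exists_of_lt (Group.normalizerCondition_of_isNilpotent _ hne)
  refine ⟨x, x.2, fun h => hxH h, ?_⟩
  rw [Subgroup.mem_normalizer_iff] at hx ⊢
  intro h
  constructor
  · intro hh
    exact (hx ⟨h, hlt.le hh⟩).1 hh
  · intro hh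
    have hK : h ∈ K := by
      have := K.mul_mem (K.mul_mem (K.inv_mem x.2) (hlt.le hh)) x.2
      simpa [mul_assoc] using this
    exact (hx ⟨h, hK⟩).2 hh

theorem eq_or_normalizer_le {p : ℕ} [hp : Fact p.Prime] (hP : IsPGroup p P) {E : Subgroup P}
    (hidx : E.relIndex (normalizer (E : Set P)) = p) {K : Subgroup P} (hK : E ≤ K) :
    K = E ∨ normalizer (E : Set P) ≤ K := by
  by_cases hKE : K = E
  · exact Or.inl hKE
  right
  obtain ⟨x, hxK, hxE, hxN⟩ := exists_mem_normalizer hP (lt_of_le_of_ne hK (Ne.symm hKE))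
  have hle : E ≤ K ⊓ normalizer (E : Set P) := le_inf hK Subgroup.le_normalizer
  have h := Subgroup.relIndex_mul_relIndex E _ _ hle
    (inf_le_right : K ⊓ normalizer (E : Set P) ≤ _)
  rw [hidx] at h
  rcases hp.out.eq_one_or_self_of_dvd _ (Dvd.intro _ h) with h1 | h1
  · exact absurd (Subgroup.relIndex_eq_one.1 h1 ⟨hxK, hxN⟩) hxE
  · have h2 : (K ⊓ normalizer (E : Set P)).relIndex (normalizer (E : Set P)) = 1 := by
      rw [h1] at h
      exact (Nat.mul_eq_left hp.out.ne_zero).1 h
    exact (Subgroup.relIndex_eq_one.1 h2).trans inf_le_left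

theorem inf_le_centralizer_sup {A B : Subgroup P} (hA : IsMulCommutative ↥A)
    (hB : IsMulCommutative ↥B) :
    A ⊓ B ≤ centralizer ((A ⊔ B : Subgroup P) : Set P) := by
  intro x hx
  rw [Subgroup.mem_centralizer_iff]
  intro y hy
  have h : A ⊔ B ≤ centralizer ({x} : Set P) := by
    refine sup_le (fun a ha => ?_) (fun b hb => ?_)
    · rw [Subgroup.mem_centralizer_singleton_iff]
      exact Subgroup.mul_comm_of_mem_isMulCommutative A ha hx.1
    · rw [Subgroup.mem_centralizer_singleton_iff]
      exact Subgroup.mul_comm_of_mem_isMulCommutative B hb hx.2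
  exact Subgroup.mem_centralizer_singleton_iff.1 (h hy)

theorem comm_map_sup {Q : Type*} [Group Q] (f : P →* Q) {E : Subgroup P}
    (hE : IsMulCommutative ↥E) {x : P} (hx : ∀ e ∈ E, f x * f e = f e * f x) :
    ∀ a ∈ E ⊔ zpowers x, ∀ b ∈ E ⊔ zpowers x, f a * f b = f b * f a := by
  have key : E ⊔ zpowers x = closure ((E : Set P) ∪ {x}) := by
    rw [Subgroup.closure_union, Subgroup.closure_eq, Subgroup.zpowers_eq_closure]
  have h0 : ∀ u ∈ (E : Set P) ∪ {x}, ∀ v ∈ (E : Set P) ∪ {x}, f u * f v = f v * f u := by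
    intro u hu v hv
    rcases hu with hu | hu <;> rcases hv with hv | hv
    · rw [← map_mul, ← map_mul, Subgroup.mul_comm_of_mem_isMulCommutative E hu hv]
    · obtain rfl : v = x := hv
      exact (hx u hu).symm
    · obtain rfl : u = x := hu
      exact hx v hv
    · obtain rfl : u = x := hu
      obtain rfl : v = u := hv
      rfl
  intro a ha b hb
  rw [key] at ha hb
  have h1 : ∀ u ∈ (E : Set P) ∪ {x}, closure ((E : Set P) ∪ {x}) ≤
      (centralizer ({f u} : Set Q)).comap f := fun u hu => by
    rw [closure_le]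
    intro v hv
    rw [SetLike.mem_coe, mem_comap, mem_centralizer_singleton_iff]
    exact h0 v hv u hu
  have h2 : closure ((E : Set P) ∪ {x}) ≤ (centralizer ({f a} : Set Q)).comap f := by
    rw [closure_le]
    intro u hu
    have := h1 u hu ha
    rw [mem_comap, mem_centralizer_singleton_iff] at this
    rw [SetLike.mem_coe, mem_comap, mem_centralizer_singleton_iff]
    exact this.symm
  have := h2 hb
  rw [mem_comap, mem_centralizer_singleton_iff] at this
  exact this.symm

theorem relIndex_map {Q : Type*} [Group Q] (f : P →* Q) {A : Subgroup P}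
    (hA : f.ker ≤ A) (B : Subgroup P) : (A.map f).relIndex (B.map f) = A.relIndex B := by
  rw [← Subgroup.relIndex_comap (A.map f) f B, Subgroup.comap_map_eq_self hA]

theorem normalizer_map {Q : Type*} [Group Q] {f : P →* Q} (hf : Function.Surjective f)
    {A : Subgroup P} (hA : f.ker ≤ A) :
    normalizer ((A.map f : Subgroup Q) : Set Q) = (normalizer (A : Set P)).map f := by
  apply Subgroup.comap_injective hf
  rw [Subgroup.comap_normalizer_eq_of_surjective _ hf, Subgroup.comap_map_eq_self hA,
    Subgroup.comap_map_eq_self (hA.trans Subgroup.le_normalizer)]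

theorem relIndex_map_normalizer {Q : Type*} [Group Q] {f : P →* Q} (hf : Function.Surjective f)
    {A : Subgroup P} (hA : f.ker ≤ A) :
    (A.map f).relIndex (normalizer ((A.map f : Subgroup Q) : Set Q))
      = A.relIndex (normalizer (A : Set P)) := by
  rw [normalizer_map hf hA, relIndex_map f hA]

/-- chain property lifts along a surjection -/
theorem chain_lift {p : ℕ} {Q : Type u} [Group Q] [Finite Q] {f : P →* Q}
    (hf : Function.Surjective f) {A : Subgroup P} (hA : f.ker ≤ A) (h : Chain p (A.map f)) :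
    Chain p A := by
  constructor
  · intro K L hK hL
    rcases h.1 (K.map f) (L.map f) (map_mono hK) (map_mono hL) with h' | h'
    · left
      have := Subgroup.comap_mono (f := f) h'
      rwa [comap_map_eq_self (hA.trans hK), comap_map_eq_self (hA.trans hL)] at this
    · right
      have := Subgroup.comap_mono (f := f) h'
      rwa [comap_map_eq_self (hA.trans hK), comap_map_eq_self (hA.trans hL)] at this
  · intro K hK hne
    rw [← relIndex_map_normalizer hf (hA.trans hK)]
    refine h.2 _ (map_mono hK) fun htop => hne ?_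
    rw [← comap_map_eq_self (hA.trans hK), htop, comap_top]

theorem soft_map_normalizer {p : ℕ} {Q : Type u} [Group Q] [Finite Q] {f : P →* Q}
    (hf : Function.Surjective f) {E : Subgroup P} (hE : f.ker ≤ E)
    (hab : ∀ a ∈ normalizer (E : Set P), ∀ b ∈ normalizer (E : Set P), f a * f b = f b * f a)
    (h2 : (normalizer (E : Set P)).relIndex
      (normalizer ((normalizer (E : Set P) : Subgroup P) : Set P)) = p) :
    IsSoft p ((normalizer (E : Set P)).map f) := by
  refine ⟨⟨⟨?_⟩⟩, ?_, ?_⟩
  · rintro ⟨_, a, ha, rfl⟩ ⟨_, b, hb, rfl⟩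
    exact Subtype.ext (hab a ha b hb)
  · intro y hy
    obtain ⟨x, rfl⟩ := hf y
    refine ⟨x, mem_normalizer_of_le ?_, rfl⟩
    rintro _ ⟨e, he, rfl⟩
    have hfe : f e * f x = f x * f e :=
      Subgroup.mem_centralizer_iff.1 hy _ ⟨e, Subgroup.le_normalizer he, rfl⟩
    have hk : x * e * x⁻¹ * e⁻¹ ∈ f.ker := by
      rw [MonoidHom.mem_ker]; simp [← hfe]
    have := E.mul_mem (hE hk) he
    simpa using this
  · rw [relIndex_map_normalizer hf (hE.trans Subgroup.le_normalizer), h2]

theorem relIndex_normalizer_normalizer {p : ℕ} [hp : Fact p.Prime] (hP : IsPGroup p P)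
    {E : Subgroup P} (h : IsSoft p E) (hne : normalizer (E : Set P) ≠ ⊤) :
    (normalizer (E : Set P)).relIndex
      (normalizer ((normalizer (E : Set P) : Subgroup P) : Set P)) = p := by
  classical
  haveI := h.comm
  set N := normalizer (E : Set P) with hN
  set M := normalizer (N : Set P) with hM
  have hEN : E ≤ N := Subgroup.le_normalizer
  let c : P → Subgroup P := fun g => E.map (MulAut.conj g).toMonoidHom
  have hc_mem : ∀ g x, x ∈ c g ↔ g⁻¹ * x * g ∈ E := by
    intro g x
    constructor
    · rintro ⟨e, he, rfl⟩; simpa [mul_assoc] using he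
    · intro hx; exact ⟨_, hx, by simp [mul_assoc]⟩
  have hc_le : ∀ g ∈ M, c g ≤ N := by
    rintro g hg _ ⟨e, he, rfl⟩
    exact (Subgroup.mem_normalizer_iff.1 hg e).1 (hEN he)
  have hc_comm : ∀ g, IsMulCommutative ↥(c g) := by
    intro g
    refine ⟨⟨?_⟩⟩
    rintro ⟨_, a, ha, rfl⟩ ⟨_, b, hb, rfl⟩
    refine Subtype.ext ?_
    simp only [Subgroup.coe_mul, ← map_mul]
    exact congrArg _ (Subgroup.mul_comm_of_mem_isMulCommutative E ha hb)
  have hc_eq : ∀ g k, c g = c k → g⁻¹ * k ∈ N := by
    intro g k hgk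
    apply mem_normalizer_of_le
    rintro _ ⟨e, he, rfl⟩
    have : MulAut.conj k e ∈ c g := by rw [hgk]; exact ⟨e, he, rfl⟩
    rw [hc_mem] at this
    simpa [mul_assoc] using this
  set C := centralizer (N : Set P) with hC
  have hCE : C ≤ E := (Subgroup.centralizer_le hEN).trans h.cent
  have hCc : ∀ g ∈ M, C ≤ c g := by
    intro g hg x hx
    rw [hc_mem]
    refine h.cent (Subgroup.mem_centralizer_iff.2 fun e he => ?_)
    have h2 := Subgroup.mem_centralizer_iff.1 hx _ (hc_le g hg ⟨e, he, rfl⟩)
    simp only [MulEquiv.coe_toMonoidHom, MulAut.conj_apply] at h2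
    calc e * (g⁻¹ * x * g) = g⁻¹ * (g * e * g⁻¹ * x) * g := by group
      _ = g⁻¹ * (x * (g * e * g⁻¹)) * g := by rw [h2]
      _ = g⁻¹ * x * g * e := by group
  -- join of two distinct conjugates
  have hjoinE : ∀ g ∈ M, g ∉ N → E ⊔ c g = N := by
    intro g hg hgN
    rcases eq_or_normalizer_le hP h.idx (le_sup_left : E ≤ E ⊔ c g) with h1 | h1
    · exfalso
      exact hgN (mem_normalizer_of_le (sup_eq_left.1 h1))
    · exact le_antisymm (sup_le hEN (hc_le g hg)) h1
  have hinf : ∀ g ∈ M, g ∉ N → E ⊓ c g = C := by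
    intro g hg hgN
    refine le_antisymm ?_ (le_inf hCE (hCc g hg))
    rw [hC, ← hjoinE g hg hgN]
    exact inf_le_centralizer_sup h.comm (hc_comm g)
  have hinf2 : ∀ g ∈ M, ∀ k ∈ M, g⁻¹ * k ∉ N → c g ⊓ c k ≤ C := by
    intro g hg k hk hgk x hx
    have h1 : g⁻¹ * x * g ∈ E ⊓ c (g⁻¹ * k) := by
      refine ⟨(hc_mem g x).1 hx.1, (hc_mem _ _).2 ?_⟩
      have := (hc_mem k x).1 hx.2
      simpa [mul_assoc] using this
    rw [hinf _ (M.mul_mem (M.inv_mem hg) hk) hgk] at h1
    rw [hC, Subgroup.mem_centralizer_iff] at h1 ⊢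
    intro y hy
    have hy' : g⁻¹ * y * g ∈ N := by
      have := (Subgroup.mem_normalizer_iff.1 (M.inv_mem hg) y).1 hy
      simpa using this
    calc y * x = g * ((g⁻¹ * y * g) * (g⁻¹ * x * g)) * g⁻¹ := by group
      _ = g * ((g⁻¹ * x * g) * (g⁻¹ * y * g)) * g⁻¹ := by rw [h1 _ hy']
      _ = x * y := by group
  obtain ⟨g₀, hg₀M, hg₀⟩ := SetLike.exists_of_lt
    (show N < M by
      haveI := hP.isNilpotent
      exact Group.normalizerCondition_of_isNilpotent N (lt_top_iff_ne_top.2 hne))
  -- sizes
  have hNE : Nat.card ↥N = p * Nat.card ↥E := by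
    have := card_mul_relIndex hEN
    rw [h.idx] at this
    exact this.symm
  have hEC : Nat.card ↥E = p * Nat.card ↥C := by
    have h1 : E.relIndex (c g₀) ∣ E.relIndex N := by
      have : (c g₀).map (QuotientGroup.mk' (⊥ : Subgroup P)) = (c g₀).map _ := rfl
      haveI : (E.subgroupOf N).Normal := Subgroup.normal_in_normalizer
      have hh : ((E.subgroupOf N)).relIndex ((c g₀).subgroupOf N) ∣ (E.subgroupOf N).index :=
        Subgroup.relIndex_dvd_index_of_normal _ _
      rwa [Subgroup.relIndex_subgroupOf (hc_le g₀ hg₀M)] at hh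
    rw [h.idx] at h1
    have h2 : E.relIndex (c g₀) ≠ 1 := by
      intro h3
      exact hg₀ (mem_normalizer_of_le (Subgroup.relIndex_eq_one.1 h3))
    have h4 := (hp.out.eq_one_or_self_of_dvd _ h1).resolve_left h2
    rw [← Subgroup.inf_relIndex_right, hinf g₀ hg₀M hg₀] at h4
    have := card_mul_relIndex (hCc g₀ hg₀M)
    rw [h4, card_conj] at this
    exact this.symm
  -- counting
  let S := N.subgroupOf M
  haveI : Fintype P := Fintype.ofFinite P
  haveI : Fintype (↥M ⧸ S) := Fintype.ofFinite _
  let r : ↥M ⧸ S → P := fun q => ((q.out : ↥M) : P)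
  have hr : ∀ q q', q ≠ q' → (r q)⁻¹ * r q' ∉ N := by
    intro q q' hqq' hmem
    apply hqq'
    rw [← q.out_eq', ← q'.out_eq', QuotientGroup.eq]
    exact hmem
  let D : ↥M ⧸ S → Finset P := fun q => Finset.univ.filter fun x => x ∈ c (r q) ∧ x ∉ C
  have hD : ∀ q, (D q).card = Nat.card ↥E - Nat.card ↥C := by
    intro q
    have e1 : D q = (Finset.univ.filter fun x => x ∈ c (r q)) \
        (Finset.univ.filter fun x => x ∈ C) := by
      ext x; simp [D]
    rw [e1, Finset.card_sdiff_of_subset]
    · rw [← Fintype.card_subtype, ← Fintype.card_subtype, ← Nat.card_eq_fintype_card,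
        ← Nat.card_eq_fintype_card, ← card_conj E (r q)]
    · intro x
      simpa using fun hx => hCc _ (q.out).2 hx
  have hdisj : ((Finset.univ : Finset (↥M ⧸ S)) : Set _).PairwiseDisjoint D := by
    intro q _ q' _ hqq'
    rw [Function.onFun, Finset.disjoint_left]
    intro x hx hx'
    simp [D] at hx hx'
    exact hx.2 (hinf2 _ (q.out).2 _ (q'.out).2 (hr _ _ hqq') ⟨hx.1, hx'.1⟩)
  have hsub : Finset.univ.biUnion D ⊆
      (Finset.univ.filter fun x => x ∈ N) \ (Finset.univ.filter fun x => x ∈ C) := by
    intro x hx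
    simp [D] at hx
    obtain ⟨⟨q, hq⟩, hqC⟩ := hx
    simp [hqC, hc_le _ (q.out).2 hq]
  have hcount := Finset.card_le_card hsub
  rw [Finset.card_biUnion hdisj, Finset.sum_congr rfl fun q _ => hD q,
    Finset.sum_const, smul_eq_mul, Finset.card_univ, ← Nat.card_eq_fintype_card,
    Finset.card_sdiff_of_subset, ← Fintype.card_subtype, ← Fintype.card_subtype,
    ← Nat.card_eq_fintype_card, ← Nat.card_eq_fintype_card] at hcount
  swap
  · intro x
    simpa using fun hx => hEN (hCE hx)
  obtain ⟨m, hm⟩ := (hP.to_subgroup M).index S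
  have hidx : Nat.card (↥M ⧸ S) = N.relIndex M := rfl
  have hm' : N.relIndex M = p ^ m := hm
  have hpos : 0 < Nat.card ↥C := Nat.card_pos
  have h2p := hp.out.two_le
  rw [hidx, hm', hNE, hEC] at hcount
  rw [hm']
  have hm0 : m ≠ 0 := by
    rintro rfl
    simp only [pow_zero] at hm'
    exact hg₀ (Subgroup.relIndex_eq_one.1 hm' hg₀M)
  rcases Nat.lt_or_ge m 2 with hlt | hge
  · rw [show m = 1 by omega, pow_one]
  exfalso
  have hpow : p ^ 2 ≤ p ^ m := Nat.pow_le_pow_right (by omega) hge
  have hA : p ^ 2 * (p * Nat.card ↥C - Nat.card ↥C) ≤ p * (p * Nat.card ↥C) - Nat.card ↥C :=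
    (Nat.mul_le_mul_right _ hpow).trans hcount
  obtain ⟨r', rfl⟩ : ∃ r', p = r' + 2 := ⟨p - 2, by omega⟩
  have e2 : (r' + 2) * Nat.card ↥C - Nat.card ↥C = (r' + 1) * Nat.card ↥C := by
    rw [show r' + 2 = r' + 1 + 1 by omega, add_mul, one_mul, Nat.add_sub_cancel]
  have e3 : (r' + 2) * ((r' + 2) * Nat.card ↥C) - Nat.card ↥C < (r' + 2) * ((r' + 2) * Nat.card ↥C) := by
    have : 0 < (r' + 2) * ((r' + 2) * Nat.card ↥C) := by positivity
    omega
  rw [e2] at hA
  nlinarith

theorem chain (p : ℕ) [hp : Fact p.Prime] : ∀ (n : ℕ) {P : Type u} [Group P] [Finite P],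
    Nat.card P ≤ n → IsPGroup p P → ∀ {E : Subgroup P}, IsSoft p E → Chain p E := by
  intro n
  induction n with
  | zero =>
    intro P _ _ hn
    have := Nat.card_pos (α := P)
    omega
  | succ n ih =>
    intro P _ _ hn hP E h
    haveI := h.comm
    set N := normalizer (E : Set P) with hN
    have hbase : ∀ K L : Subgroup P, E ≤ K → E ≤ L →
        (N ≤ K → N ≤ L → K ≤ L ∨ L ≤ K) → K ≤ L ∨ L ≤ K := by
      intro K L hK hL H
      rcases eq_or_normalizer_le hP h.idx hK with rfl | hK'
      · exact Or.inl hL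
      rcases eq_or_normalizer_le hP h.idx hL with rfl | hL'
      · exact Or.inr hK
      exact H hK' hL'
    by_cases htop : N = ⊤
    · constructor
      · intro K L hK hL
        refine hbase K L hK hL fun _ hL' => Or.inl ?_
        rw [htop, top_le_iff] at hL'
        simp [hL']
      · intro K hK hne
        rcases eq_or_normalizer_le hP h.idx hK with rfl | hK'
        · exact h.idx
        · rw [← hN, htop, top_le_iff] at hK'
          exact absurd hK' hne
    have h2 := relIndex_normalizer_normalizer hP h htop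
    haveI : Nontrivial P := by
      by_contra hnt
      rw [not_nontrivial_iff_subsingleton] at hnt
      exact htop (Subsingleton.elim _ _)
    set f := QuotientGroup.mk' (center P) with hfdef
    have hf : Function.Surjective f := QuotientGroup.mk'_surjective _
    have hker : f.ker ≤ E := by
      rw [hfdef, QuotientGroup.ker_mk']
      exact (Subgroup.center_le_centralizer _).trans h.cent
    have hcard : Nat.card (P ⧸ center P) ≤ n := by
      have h1 := Subgroup.card_eq_card_quotient_mul_card_subgroup (center P)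
      haveI := hP.center_nontrivial
      have h3 : 1 < Nat.card ↥(center P) := Finite.one_lt_card
      have h4 : 0 < Nat.card (P ⧸ center P) := Nat.card_pos
      nlinarith
    have hPq : IsPGroup p (P ⧸ center P) := hP.of_surjective f hf
    by_cases hab : ∀ a ∈ N, ∀ b ∈ N, f a * f b = f b * f a
    · have hc : Chain p N :=
        chain_lift hf (hker.trans Subgroup.le_normalizer)
          (ih hcard hPq (soft_map_normalizer hf hker hab h2))
      constructor
      · exact fun K L hK hL => hbase K L hK hL (hc.1 K L)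
      · intro K hK hne
        rcases eq_or_normalizer_le hP h.idx hK with rfl | hK'
        · exact h.idx
        · exact hc.2 K hK' hne
    · refine chain_lift hf hker (ih hcard hPq ⟨⟨⟨?_⟩⟩, ?_, ?_⟩)
      · rintro ⟨_, a, ha, rfl⟩ ⟨_, b, hb, rfl⟩
        refine Subtype.ext ?_
        simp only [Subgroup.coe_mul, ← map_mul]
        rw [Subgroup.mul_comm_of_mem_isMulCommutative E ha hb]
      · intro y hy
        obtain ⟨x, rfl⟩ := hf y
        have hxe : ∀ e ∈ E, f x * f e = f e * f x := fun e he =>
          (Subgroup.mem_centralizer_iff.1 hy _ ⟨e, he, rfl⟩).symm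
        have hxN : x ∈ N := by
          apply mem_normalizer_of_le
          rintro _ ⟨e, he, rfl⟩
          have hk : x * e * x⁻¹ * e⁻¹ ∈ f.ker := by
            rw [MonoidHom.mem_ker]; simp [hxe e he]
          have := E.mul_mem (hker hk) he
          simpa using this
        by_contra hxE
        apply hab
        have hle : N ≤ E ⊔ zpowers x := by
          rcases eq_or_normalizer_le hP h.idx (le_sup_left : E ≤ E ⊔ zpowers x) with h1 | h1
          · exact absurd ⟨x, sup_eq_left.1 h1 (mem_zpowers x), rfl⟩ hxE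
          · exact h1
        exact fun a ha b hb => comm_map_sup f h.comm hxe a (hle ha) b (hle hb)
      · rw [relIndex_map_normalizer hf hker, h.idx]

/-- the main step for the nilpotency class -/
theorem class_step {p : ℕ} [hp : Fact p.Prime] {i : ℕ}
    (hP : IsPGroup p P) {E : Subgroup P} (h : IsSoft p E) {K : Subgroup P} [K.Normal]
    (hNK : normalizer (E : Set P) ≤ K) (hne : K ≠ ⊤) (hi : E.relIndex K = p ^ (i + 1))
    (ih : ∀ {Q : Type u} [Group Q] [Finite Q], Nat.card Q < Nat.card P → IsPGroup p Q →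
      ∀ {F : Subgroup Q}, IsSoft p F → ∀ (j : ℕ) (L : Subgroup Q) [Group.IsNilpotent ↥L],
      F ≤ L → L ≠ ⊤ → F.relIndex L = p ^ j → Group.nilpotencyClass ↥L = j + 1)
    [Group.IsNilpotent ↥K] :
    Group.nilpotencyClass ↥K = i + 2 := by
  haveI := h.comm
  set N := normalizer (E : Set P) with hN
  have hEN : E ≤ N := Subgroup.le_normalizer
  have hEK : E ≤ K := hEN.trans hNK
  have hch := chain p (Nat.card P) le_rfl hP h
  have hNtop : N ≠ ⊤ := fun h1 => hne (top_le_iff.1 (h1 ▸ hNK))
  obtain ⟨g, hg⟩ : ∃ g, g ∉ K := by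
    by_contra hall
    push Not at hall
    exact hne (eq_top_iff.2 fun x _ => hall x)
  set Eg := E.map (MulAut.conj g).toMonoidHom with hEg
  have hEgK : Eg ≤ K := by
    rintro _ ⟨e, he, rfl⟩
    exact ‹K.Normal›.conj_mem e (hEK he) g
  -- E and its conjugate generate K
  have hgen : E ⊔ Eg = K := by
    by_contra hne'
    set H := E ⊔ Eg with hH
    have hlt : H < K := lt_of_le_of_ne (sup_le hEK hEgK) hne'
    have hH' : E ≤ H.map (MulAut.conj g⁻¹).toMonoidHom := by
      intro e he
      exact ⟨g * e * g⁻¹, le_sup_right (a := E) ⟨e, he, rfl⟩, by simp [mul_assoc]⟩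
    have hle : H.map (MulAut.conj g⁻¹).toMonoidHom ≤ H := by
      rcases hch.1 H (H.map (MulAut.conj g⁻¹).toMonoidHom) le_sup_left hH' with h1 | h1
      · exact (Subgroup.eq_of_le_of_card_ge h1 (card_conj H g⁻¹).le).ge
      · exact h1
    have hgH : g ∈ normalizer (H : Set P) := by
      have := (normalizer (H : Set P)).inv_mem (mem_normalizer_of_le hle)
      simpa using this
    have hidx := hch.2 H le_sup_left (hlt.trans_le le_top).ne
    rcases eq_or_normalizer_le hP hidx hlt.le with h1 | h1
    · exact hne' h1.symm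
    · exact hg (h1 hgH)
  set Z := (center ↥K).map K.subtype with hZ
  haveI hZn : Z.Normal := inferInstance
  have hZE : Z ≤ E := by
    rintro _ ⟨z, hz, rfl⟩
    refine h.cent (Subgroup.mem_centralizer_iff.2 fun e he => ?_)
    exact congrArg Subtype.val (Subgroup.mem_center_iff.1 hz ⟨e, hEK he⟩)
  set f := QuotientGroup.mk' Z with hfdef
  have hf : Function.Surjective f := QuotientGroup.mk'_surjective _
  have hker : f.ker ≤ E := by rw [hfdef, QuotientGroup.ker_mk']; exact hZE
  haveI : Nontrivial ↥K := by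
    rw [Subgroup.nontrivial_iff_ne_bot]
    rintro rfl
    rw [Subgroup.relIndex_bot_right] at hi
    exact absurd hi.symm (Nat.one_lt_pow (by omega) hp.out.one_lt).ne'
  have hcard : Nat.card (P ⧸ Z) < Nat.card P := by
    haveI := (hP.to_subgroup K).center_nontrivial
    have h3 : 1 < Nat.card ↥Z := by
      rw [hZ, Subgroup.card_map_of_injective K.subtype_injective]
      exact Finite.one_lt_card
    have h1 := Subgroup.card_eq_card_quotient_mul_card_subgroup Z
    have h4 : 0 < Nat.card (P ⧸ Z) := Nat.card_pos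
    nlinarith
  set Kb := K.map f with hKb
  have hKcomap : Kb.comap f = K := comap_map_eq_self (hker.trans hEK)
  haveI : Kb.Normal := Subgroup.Normal.map inferInstance f hf
  haveI : Nontrivial ↥Kb := by
    rw [Subgroup.nontrivial_iff_ne_bot]
    intro h1
    have hKE : K ≤ E := by
      rw [← hKcomap, h1, MonoidHom.comap_bot]; exact hker
    rw [Subgroup.relIndex_eq_one.2 hKE] at hi
    exact absurd hi.symm (Nat.one_lt_pow (by omega) hp.out.one_lt).ne'
  have hPq : IsPGroup p (P ⧸ Z) := hP.of_surjective f hf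
  set W := ((center ↥Kb).map Kb.subtype).comap f with hW
  haveI : ((center ↥Kb).map Kb.subtype).Normal := inferInstance
  haveI hWn : W.Normal := Subgroup.Normal.comap inferInstance f
  have hWK : W ≤ K := by
    intro x hx
    obtain ⟨y, -, hy⟩ := hx
    rw [← hKcomap, mem_comap, ← hy]
    exact y.2
  obtain ⟨z, hzW, hzE⟩ : ∃ z ∈ W, z ∉ E := by
    by_contra hall
    push Not at hall
    haveI := (hPq.to_subgroup Kb).center_nontrivial
    obtain ⟨⟨c, hc⟩, hc1⟩ := exists_ne (1 : ↥(center ↥Kb))
    obtain ⟨z, hz⟩ := hf (c : P ⧸ Z)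
    have hzW : z ∈ W := ⟨c, hc, hz.symm⟩
    have hzg : z ∈ Eg := by
      refine ⟨g⁻¹ * z * g, hall _ ?_, by simp [mul_assoc]⟩
      simpa using hWn.conj_mem z hzW g⁻¹
    have hzC : z ∈ centralizer (K : Set P) := by
      rw [← hgen]
      refine inf_le_centralizer_sup h.comm ?_ ⟨hall z hzW, hzg⟩
      refine ⟨⟨?_⟩⟩
      rintro ⟨_, a, ha, rfl⟩ ⟨_, b, hb, rfl⟩
      refine Subtype.ext ?_
      simp only [Subgroup.coe_mul, ← map_mul]
      rw [Subgroup.mul_comm_of_mem_isMulCommutative E ha hb]
    have hzZ : z ∈ Z := ⟨⟨z, hWK hzW⟩, Subgroup.mem_center_iff.2 fun k =>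
      Subtype.ext (Subgroup.mem_centralizer_iff.1 hzC k k.2), rfl⟩
    apply hc1
    refine Subtype.ext (Subtype.ext ?_)
    show (c : P ⧸ Z) = 1
    rw [← hz, hfdef, QuotientGroup.mk'_apply, QuotientGroup.eq_one_iff]
    exact hzZ
  have hze : ∀ e ∈ E, f z * f e = f e * f z := by
    intro e he
    obtain ⟨c, hc, hc'⟩ := hzW
    have := congrArg Subtype.val (Subgroup.mem_center_iff.1 hc ⟨f e, ⟨e, hEK he, rfl⟩⟩)
    simp only [Subgroup.coe_mul] at this
    rw [← hc']
    exact this.symm
  have hzN : z ∈ N := by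
    apply mem_normalizer_of_le
    rintro _ ⟨e, he, rfl⟩
    have hk : z * e * z⁻¹ * e⁻¹ ∈ f.ker := by
      rw [MonoidHom.mem_ker]; simp [hze e he]
    have := E.mul_mem (hker hk) he
    simpa using this
  have hle : N ≤ E ⊔ zpowers z := by
    rcases eq_or_normalizer_le hP h.idx (le_sup_left : E ≤ E ⊔ zpowers z) with h1 | h1
    · exact absurd (sup_eq_left.1 h1 (mem_zpowers z)) hzE
    · exact h1
  have hsoft := soft_map_normalizer hf hker
    (fun a ha b hb => comm_map_sup f h.comm hze a (hle ha) b (hle hb))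
    (relIndex_normalizer_normalizer hP h hNtop)
  have hj : (N.map f).relIndex Kb = p ^ i := by
    rw [relIndex_map f (hker.trans hEN)]
    have h1 := Subgroup.relIndex_mul_relIndex E N K hEN hNK
    rw [h.idx, hi, pow_succ'] at h1
    exact mul_left_cancel₀ hp.out.ne_zero h1
  have hKbne : Kb ≠ ⊤ := fun h1 => hne (by rw [← hKcomap, h1, comap_top])
  haveI : Group.IsNilpotent ↥Kb := (hPq.to_subgroup Kb).isNilpotent
  have hcl := ih hcard hPq hsoft i Kb (map_mono hNK) hKbne hj
  have hφk : (f.subgroupMap K).ker = center ↥K := by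
    ext x
    rw [MonoidHom.mem_ker, Subtype.ext_iff]
    show f (x : P) = 1 ↔ _
    rw [hfdef, QuotientGroup.mk'_apply, QuotientGroup.eq_one_iff, hZ]
    exact ⟨fun ⟨y, hy, hyx⟩ => by rwa [← Subtype.ext hyx], fun hx => ⟨x, hx, rfl⟩⟩
  let e : ↥K ⧸ center ↥K ≃* ↥Kb :=
    (QuotientGroup.quotientMulEquivOfEq hφk.symm).trans
      (QuotientGroup.quotientKerEquivOfSurjective _ (f.subgroupMap_surjective K))
  have heq : Group.nilpotencyClass (↥K ⧸ center ↥K) = Group.nilpotencyClass ↥Kb :=
    le_antisymm (Group.nilpotencyClass_le_of_surjective e.symm.toMonoidHom e.symm.surjective)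
      (Group.nilpotencyClass_le_of_surjective e.toMonoidHom e.surjective)
  rw [Group.nilpotencyClass_eq_quotient_center_plus_one, heq, hcl]

theorem class_eq (p : ℕ) [hp : Fact p.Prime] : ∀ (n : ℕ) {P : Type u} [Group P] [Finite P],
    Nat.card P ≤ n → IsPGroup p P → ∀ {E : Subgroup P}, IsSoft p E →
    ∀ (i : ℕ) (K : Subgroup P) [Group.IsNilpotent ↥K], E ≤ K → K ≠ ⊤ →
      E.relIndex K = p ^ i → Group.nilpotencyClass ↥K = i + 1 := by
  intro n
  induction n with
  | zero =>
    intro P _ _ hn
    have := Nat.card_pos (α := P)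
    omega
  | succ n ih =>
    intro P _ _ hn hP E h i K _ hEK hne hi
    haveI := h.comm
    cases i with
    | zero =>
      obtain rfl : K = E := le_antisymm (Subgroup.relIndex_eq_one.1 (by simpa using hi)) hEK
      haveI : Nontrivial ↥K := by
        rw [Subgroup.nontrivial_iff_ne_bot]
        rintro rfl
        apply hne
        refine (eq_top_iff.2 ?_)
        refine le_trans ?_ h.cent
        intro x _
        simp [Subgroup.mem_centralizer_iff]
      have htop : center ↥K = ⊤ := eq_top_iff.2 fun x _ => Subgroup.mem_center_iff.2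
        fun y => h.comm.is_comm.comm y x
      haveI : Subsingleton (↥K ⧸ center ↥K) := QuotientGroup.subsingleton_iff.2 htop
      rw [Group.nilpotencyClass_eq_quotient_center_plus_one,
        Group.nilpotencyClass_zero_iff_subsingleton.2 inferInstance]
    | succ i =>
      set L := normalizer (K : Set P) with hL
      have hKL : K ≤ L := Subgroup.le_normalizer
      have hNK : normalizer (E : Set P) ≤ K := by
        rcases eq_or_normalizer_le hP h.idx hEK with rfl | h1
        · rw [Subgroup.relIndex_self] at hi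
          exact absurd hi.symm (Nat.one_lt_pow (by omega) hp.out.one_lt).ne'
        · exact h1
      have hidx := (chain p _ le_rfl hP h).2 K hEK hne
      have hnorm : normalizer ((E.subgroupOf L : Subgroup ↥L) : Set ↥L)
          = (normalizer (E : Set P)).subgroupOf L := by
        ext x
        simp only [Subgroup.mem_subgroupOf, Subgroup.mem_normalizer_iff]
        constructor
        · intro hx e
          constructor
          · intro he
            exact (hx ⟨e, hKL (hEK he)⟩).1 he
          · intro he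
            have hel : e ∈ L := by
              have := L.mul_mem (L.mul_mem (L.inv_mem x.2) (hKL (hEK he))) x.2
              simpa [mul_assoc] using this
            exact (hx ⟨e, hel⟩).2 he
        · exact fun hx e => hx e
      have hsoft : IsSoft p (E.subgroupOf L) := by
        refine ⟨⟨⟨?_⟩⟩, ?_, ?_⟩
        · rintro ⟨a, ha⟩ ⟨b, hb⟩
          exact Subtype.ext (Subtype.ext (Subgroup.mul_comm_of_mem_isMulCommutative E
            (ha : (a : P) ∈ E) (hb : (b : P) ∈ E)))
        · intro x hx
          refine h.cent (Subgroup.mem_centralizer_iff.2 fun e he => ?_)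
          exact congrArg Subtype.val
            (Subgroup.mem_centralizer_iff.1 hx ⟨e, hKL (hEK he)⟩ he)
        · rw [hnorm, Subgroup.relIndex_subgroupOf (hNK.trans hKL)]
          exact h.idx
      haveI : (K.subgroupOf L).Normal := Subgroup.normal_in_normalizer
      have hne' : K.subgroupOf L ≠ ⊤ := by
        intro h1
        rw [Subgroup.subgroupOf_eq_top] at h1
        rw [Subgroup.relIndex_eq_one.2 h1] at hidx
        exact hp.out.ne_one hidx.symm
      haveI : Group.IsNilpotent ↥(K.subgroupOf L) :=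
        ((hP.to_subgroup L).to_subgroup _).isNilpotent
      have hcard : Nat.card ↥L ≤ Nat.card P := Subgroup.card_le_card_group _
      have key := class_step (hP.to_subgroup L) hsoft (K := K.subgroupOf L)
        (by rw [hnorm]; exact fun x hx => hNK hx) hne'
        (by rw [Subgroup.relIndex_subgroupOf hKL]; exact hi)
        (fun hQ hQp _ hF j M _ h1 h2 h3 => ih (by omega) hQp hF j M h1 h2 h3)
      let e := Subgroup.subgroupOfEquivOfLe hKL
      have heq : Group.nilpotencyClass ↥K = Group.nilpotencyClass ↥(K.subgroupOf L) :=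
        le_antisymm (Group.nilpotencyClass_le_of_surjective e.toMonoidHom e.surjective)
          (Group.nilpotencyClass_le_of_surjective e.symm.toMonoidHom e.symm.surjective)
      rw [heq, key]

end Cfsg.Agent.H29.SoftSubgroup
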